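import Cfsg.Agent.Lib.Solvable.Basic
import Mathlib.GroupTheory.Solvable
import Mathlib.GroupTheory.Sylow
import Mathlib.GroupTheory.Nilpotent

/-!
Minimal normal subgroups; in the solvable case they are elementary abelian.
-/

set_option autoImplicit false

namespace CfsgLib.Solvable

open Subgroup
open scoped Pointwise IsMulCommutative commutatorElement

variable {G : Type*} [Group G]

/-- Below a nontrivial normal subgroup there is a minimal normal subgroup. -/
theorem exists_minimal_normal_le [Finite G] {N : Subgroup G} (hN : N.Normal) (hne : N ≠ ⊥) :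
    ∃ M : Subgroup G, M.Normal ∧ M ≠ ⊥ ∧ M ≤ N ∧
      ∀ K : Subgroup G, K.Normal → K ≤ M → K = ⊥ ∨ K = M := by
  obtain ⟨n, hn⟩ : ∃ n, Nat.card N = n := ⟨_, rfl⟩
  induction n using Nat.strong_induction_on generalizing N with
  | _ n ih =>
    by_cases h : ∀ K : Subgroup G, K.Normal → K ≤ N → K = ⊥ ∨ K = N
    · exact ⟨N, hN, hne, le_rfl, h⟩
    push Not at h
    obtain ⟨K, hK, hle, hb, hb'⟩ := h
    have hlt : Nat.card K < Nat.card N := by
      by_contra hc
      exact hb' (eq_of_le_of_card_le hle (not_lt.mp hc))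
    obtain ⟨M, h1, h2, h3, h4⟩ := ih (Nat.card K) (hn ▸ hlt) hK hb rfl
    exact ⟨M, h1, h2, h3.trans hle, h4⟩

theorem exists_minimal_normal [Finite G] [Nontrivial G] :
    ∃ M : Subgroup G, M.Normal ∧ M ≠ ⊥ ∧
      ∀ K : Subgroup G, K.Normal → K ≤ M → K = ⊥ ∨ K = M := by
  obtain ⟨M, h1, h2, -, h4⟩ := exists_minimal_normal_le (N := (⊤ : Subgroup G)) inferInstance top_ne_bot
  exact ⟨M, h1, h2, h4⟩

/-- A solvable minimal normal subgroup is abelian. -/
theorem isMulCommutative_of_minimal_normal {N : Subgroup G} [N.Normal] [Group.IsSolvable N]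
    (hne : N ≠ ⊥) (hmin : ∀ K : Subgroup G, K.Normal → K ≤ N → K = ⊥ ∨ K = N) :
    IsMulCommutative N := by
  have : Nontrivial N := N.nontrivial_iff_ne_bot.mpr hne
  have hlt : commutator N < ⊤ := Group.IsSolvable.commutator_lt_top_of_nontrivial N
  rcases hmin ((commutator N).map N.subtype) inferInstance (Subgroup.map_subtype_le _) with h | h
  · rw [Subgroup.map_eq_bot_iff_of_injective _ N.subtype_injective] at h
    refine ⟨⟨fun a b => ?_⟩⟩
    have : ⁅a, b⁆ ∈ commutator N :=
      Subgroup.commutator_mem_commutator (Subgroup.mem_top a) (Subgroup.mem_top b)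
    rw [h, Subgroup.mem_bot, commutatorElement_eq_one_iff_mul_comm] at this
    exact this
  · exfalso
    refine hlt.ne (Subgroup.map_injective N.subtype_injective ?_)
    rw [h, ← MonoidHom.range_eq_map, Subgroup.range_subtype]

/-- An abelian minimal normal subgroup of a finite group has prime exponent. -/
theorem exists_prime_pow_eq_one_of_minimal_normal [Finite G] {N : Subgroup G} [N.Normal]
    [IsMulCommutative N] (hne : N ≠ ⊥)
    (hmin : ∀ K : Subgroup G, K.Normal → K ≤ N → K = ⊥ ∨ K = N) :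
    ∃ p : ℕ, p.Prime ∧ ∀ x ∈ N, x ^ p = 1 := by
  obtain ⟨p, hp, hdvd⟩ := Nat.exists_prime_and_dvd (N.one_lt_card_iff_ne_bot.mpr hne).ne'
  have : Fact p.Prime := ⟨hp⟩
  let f : N →* N := powMonoidHom p
  have : f.ker.Characteristic := by
    refine Subgroup.characteristic_iff_le_comap.mpr fun φ x hx => ?_
    simp only [f, MonoidHom.mem_ker, powMonoidHom_apply, Subgroup.mem_comap] at hx ⊢
    rw [MulEquiv.coe_toMonoidHom, ← map_pow, hx, map_one]
  obtain ⟨x, hx⟩ := exists_prime_orderOf_dvd_card' p hdvd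
  rcases hmin (f.ker.map N.subtype) inferInstance (Subgroup.map_subtype_le _) with h | h
  · exfalso
    rw [Subgroup.map_eq_bot_iff_of_injective _ N.subtype_injective] at h
    have hmem : x ∈ f.ker := by
      simp only [f, MonoidHom.mem_ker, powMonoidHom_apply]
      rw [← hx, pow_orderOf_eq_one]
    rw [h, Subgroup.mem_bot] at hmem
    rw [hmem, orderOf_one] at hx
    exact hp.ne_one hx.symm
  · refine ⟨p, hp, fun y hy => ?_⟩
    rw [← h] at hy
    obtain ⟨z, hz, rfl⟩ := hy
    simp only [f, SetLike.mem_coe, MonoidHom.mem_ker, powMonoidHom_apply] at hz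
    rw [Subgroup.coe_subtype, ← Subgroup.coe_pow, hz, Subgroup.coe_one]

/-- A solvable minimal normal subgroup of a finite group is a `p`-group for a prime `p`. -/
theorem exists_isPGroup_of_minimal_normal [Finite G] {N : Subgroup G} [N.Normal] [Group.IsSolvable N]
    (hne : N ≠ ⊥) (hmin : ∀ K : Subgroup G, K.Normal → K ≤ N → K = ⊥ ∨ K = N) :
    ∃ p : ℕ, p.Prime ∧ IsPGroup p N ∧ (∀ x ∈ N, x ^ p = 1) ∧ IsMulCommutative N := by
  have := isMulCommutative_of_minimal_normal hne hmin
  obtain ⟨p, hp, h⟩ := exists_prime_pow_eq_one_of_minimal_normal hne hmin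
  refine ⟨p, hp, fun x => ⟨1, ?_⟩, h, this⟩
  rw [pow_one]
  exact Subtype.ext (by simpa using h x x.2)

end CfsgLib.Solvable
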