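import Mathlib.GroupTheory.Index
import Mathlib.Algebra.Group.Subgroup.Finite
import Mathlib.GroupTheory.Complement
import Mathlib.GroupTheory.Solvable
import Mathlib.Algebra.Group.Subgroup.Pointwise
import Mathlib.GroupTheory.QuotientGroup.Basic
import Mathlib.Tactic.Group

/-!
Basic lemmas: conjugates of subgroups, joins of families of normal subgroups, orders of images
and preimages under quotient maps.
-/

set_option autoImplicit false

namespace CfsgLib.Solvable

open Subgroup
open scoped Pointwise

variable {G : Type*} [Group G]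

theorem mem_conj_smul {g x : G} {H : Subgroup G} :
    x ∈ MulAut.conj g • H ↔ g⁻¹ * x * g ∈ H := by
  rw [Subgroup.mem_pointwise_smul_iff_inv_smul_mem, ← map_inv, MulAut.smul_def, MulAut.conj_apply,
    inv_inv]

theorem conj_smul_eq_map (g : G) (H : Subgroup G) :
    MulAut.conj g • H = H.map (MulAut.conj g).toMonoidHom := rfl

theorem card_conj_smul (g : G) (H : Subgroup G) :
    Nat.card (MulAut.conj g • H : Subgroup G) = Nat.card H :=
  (Nat.card_congr (Subgroup.equivSMul (MulAut.conj g) H).toEquiv).symm

theorem index_conj_smul (g : G) (H : Subgroup G) :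
    (MulAut.conj g • H : Subgroup G).index = H.index := by
  rw [conj_smul_eq_map]
  exact Subgroup.index_map_equiv H (MulAut.conj g)

theorem conj_smul_conj_smul (g h : G) (H : Subgroup G) :
    MulAut.conj g • MulAut.conj h • H = MulAut.conj (g * h) • H := by
  rw [smul_smul, ← map_mul]

theorem conj_one_smul (H : Subgroup G) : MulAut.conj (1 : G) • H = H := by
  rw [map_one, one_smul]

theorem conj_inv_smul_of_eq {g : G} {H K : Subgroup G} (h : MulAut.conj g • H = K) :
    MulAut.conj g⁻¹ • K = H := by
  rw [← h, conj_smul_conj_smul, inv_mul_cancel, conj_one_smul]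

theorem conj_smul_mono (g : G) {H K : Subgroup G} (h : H ≤ K) :
    MulAut.conj g • H ≤ MulAut.conj g • K :=
  pointwise_smul_le_pointwise_smul_iff.mpr h

theorem conj_smul_le_iff (g : G) {H K : Subgroup G} :
    MulAut.conj g • H ≤ MulAut.conj g • K ↔ H ≤ K :=
  pointwise_smul_le_pointwise_smul_iff

theorem map_conj_smul {G' : Type*} [Group G'] (f : G →* G') (g : G) (H : Subgroup G) :
    (MulAut.conj g • H).map f = MulAut.conj (f g) • H.map f := by
  rw [conj_smul_eq_map, conj_smul_eq_map, Subgroup.map_map, Subgroup.map_map]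
  congr 1
  ext x
  simp

theorem conj_smul_subtype {K : Subgroup G} (k : K) (H : Subgroup K) :
    (MulAut.conj k • H).map K.subtype = MulAut.conj (k : G) • H.map K.subtype :=
  map_conj_smul K.subtype k H

theorem conj_smul_eq_self_iff {g : G} {H : Subgroup G} :
    MulAut.conj g • H = H ↔ g ∈ normalizer (H : Set G) := by
  rw [← inv_mem_iff (x := g), Subgroup.mem_normalizer_iff, SetLike.ext_iff]
  refine forall_congr' fun x => ?_
  rw [mem_conj_smul, inv_inv]
  exact ⟨Iff.symm, Iff.symm⟩

theorem normal_of_forall_conj_smul_eq {H : Subgroup G} (h : ∀ g : G, MulAut.conj g • H = H) :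
    H.Normal :=
  Subgroup.Normal.of_conjugate_fixed h

/-- The join of a finite family of normal subgroups keeps any property closed under joins. -/
theorem sSup_induction_normal [Finite G] {P : Subgroup G → Prop} (hbot : P ⊥)
    (hsup : ∀ A B : Subgroup G, A.Normal → B.Normal → P A → P B → P (A ⊔ B))
    (S : Set (Subgroup G)) (hS : ∀ N ∈ S, N.Normal ∧ P N) :
    (sSup S).Normal ∧ P (sSup S) := by
  classical
  have key : ∀ (T : Set (Subgroup G)), T.Finite → T ⊆ S → (sSup T).Normal ∧ P (sSup T) := by
    intro T hT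
    induction T, hT using Set.Finite.induction_on with
    | empty => intro _; rw [sSup_empty]; exact ⟨inferInstance, hbot⟩
    | @insert a s _ _ ih =>
      intro hsub
      rw [Set.insert_subset_iff] at hsub
      obtain ⟨h1, h2⟩ := hS a hsub.1
      obtain ⟨h3, h4⟩ := ih hsub.2
      rw [sSup_insert]
      exact ⟨Subgroup.sup_normal a (sSup s), hsup _ _ h1 h3 h2 h4⟩
  haveI : Finite (Subgroup G) := Finite.of_injective _ SetLike.coe_injective
  exact key S S.toFinite subset_rfl

theorem card_sup_dvd (H N : Subgroup G) [N.Normal] :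
    Nat.card (H ⊔ N : Subgroup G) ∣ Nat.card H * Nat.card N := by
  have h1 := Subgroup.relIndex_sup_right H N
  have h2 : N.relIndex H ∣ Nat.card H := Subgroup.relIndex_dvd_card N H
  have h3 : Nat.card N * N.relIndex (H ⊔ N) = Nat.card (H ⊔ N : Subgroup G) := by
    rw [← Subgroup.relIndex_bot_left N, ← Subgroup.relIndex_bot_left (H ⊔ N)]
    exact Subgroup.relIndex_mul_relIndex ⊥ N (H ⊔ N) bot_le le_sup_right
  rw [← h3, h1, mul_comm (Nat.card H)]
  exact mul_dvd_mul_left _ h2

theorem card_map_mk'_mul (N : Subgroup G) [N.Normal] (H : Subgroup G) :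
    Nat.card (H.map (QuotientGroup.mk' N)) * Nat.card (H ⊓ N : Subgroup G) = Nat.card H := by
  have h1 : Nat.card (H.map (QuotientGroup.mk' N)) = N.relIndex H := by
    rw [← Subgroup.relIndex_bot_left (H.map (QuotientGroup.mk' N)), ← Subgroup.relIndex_comap,
      MonoidHom.comap_bot, QuotientGroup.ker_mk']
  rw [h1, mul_comm, ← Subgroup.inf_relIndex_left H N, ← Subgroup.relIndex_bot_left (H ⊓ N),
    Subgroup.relIndex_mul_relIndex ⊥ (H ⊓ N) H bot_le inf_le_left, Subgroup.relIndex_bot_left]

theorem card_map_mk'_dvd (N : Subgroup G) [N.Normal] (H : Subgroup G) :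
    Nat.card (H.map (QuotientGroup.mk' N)) ∣ Nat.card H :=
  Dvd.intro _ (card_map_mk'_mul N H)

theorem card_map_mk'_eq (N : Subgroup G) [N.Normal] {H : Subgroup G} (h : N ≤ H) :
    Nat.card (H.map (QuotientGroup.mk' N)) * Nat.card N = Nat.card H := by
  have := card_map_mk'_mul N H
  rwa [inf_eq_right.mpr h] at this

theorem card_comap_mk' (N : Subgroup G) [N.Normal] (K : Subgroup (G ⧸ N)) :
    Nat.card (K.comap (QuotientGroup.mk' N)) = Nat.card K * Nat.card N := by
  have hle : N ≤ K.comap (QuotientGroup.mk' N) := fun x hx => by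
    simp [(QuotientGroup.eq_one_iff x).mpr hx]
  have := card_map_mk'_eq N hle
  rwa [Subgroup.map_comap_eq_self_of_surjective (QuotientGroup.mk'_surjective N), eq_comm] at this

theorem card_quotient_lt [Finite G] {N : Subgroup G} (hN : N ≠ ⊥) :
    Nat.card (G ⧸ N) < Nat.card G := by
  rw [← Subgroup.index_eq_card]
  calc N.index = N.index * 1 := (mul_one _).symm
    _ < N.index * Nat.card N :=
        Nat.mul_lt_mul_of_pos_left (N.one_lt_card_iff_ne_bot.mpr hN)
          (Nat.pos_of_ne_zero index_ne_zero_of_finite)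
    _ = Nat.card G := N.index_mul_card

theorem card_subgroup_lt [Finite G] {H : Subgroup G} (hH : H ≠ ⊤) :
    Nat.card H < Nat.card G := by
  rw [← H.card_mul_index]
  calc Nat.card H = Nat.card H * 1 := (mul_one _).symm
    _ < Nat.card H * H.index :=
        Nat.mul_lt_mul_of_pos_left (H.one_lt_index_of_ne_top hH) Nat.card_pos

theorem index_dvd_of_card_eq {m n : ℕ} [Finite G] (hG : Nat.card G = m * n) {H : Subgroup G}
    (hH : Nat.card H = m) : H.index = n := by
  have h := H.card_mul_index
  rw [hG, hH] at h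
  exact Nat.eq_of_mul_eq_mul_left (hH ▸ Nat.card_pos) h

/-- `B = A` when `A ≤ B` and the orders agree; a convenience form. -/
theorem eq_of_le_of_card_le [Finite G] {A B : Subgroup G} (h : A ≤ B)
    (hc : Nat.card B ≤ Nat.card A) : A = B :=
  Subgroup.eq_of_le_of_card_ge h hc

end CfsgLib.Solvable
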