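import Cfsg.Prelude.Def_Solvable
import Cfsg.Agent.Lib.Solvable.Basic
import Mathlib.GroupTheory.Sylow

/-!
The cores `O_p(G)`, `O_{p'}(G)`: normality, maximality, characteristicity.
-/

set_option autoImplicit false

namespace CfsgLib.Solvable

open Subgroup
open scoped Pointwise

variable {G : Type*} [Group G] {p : ℕ}

theorem pCore_normal (p : ℕ) (G : Type*) [Group G] : (Cfsg.pCore p G).Normal :=
  Subgroup.sSup_normal _ fun _ h => h.1

theorem pPrimeCore_normal (p : ℕ) (G : Type*) [Group G] : (Cfsg.pPrimeCore p G).Normal :=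
  Subgroup.sSup_normal _ fun _ h => h.1

theorem fittingSubgroup_normal (G : Type*) [Group G] : (Cfsg.fittingSubgroup G).Normal :=
  Subgroup.sSup_normal _ fun _ h => h.1

theorem le_pCore {N : Subgroup G} (hN : N.Normal) (hp : IsPGroup p N) : N ≤ Cfsg.pCore p G :=
  le_sSup ⟨hN, hp⟩

theorem le_pPrimeCore {N : Subgroup G} (hN : N.Normal) (hp : (Nat.card N).Coprime p) :
    N ≤ Cfsg.pPrimeCore p G :=
  le_sSup ⟨hN, hp⟩

theorem le_fittingSubgroup {N : Subgroup G} (hN : N.Normal) (h : Group.IsNilpotent N) :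
    N ≤ Cfsg.fittingSubgroup G :=
  le_sSup ⟨hN, h⟩

theorem pCore_isPGroup [Finite G] (p : ℕ) : IsPGroup p (Cfsg.pCore p G) :=
  (sSup_induction_normal (P := fun N : Subgroup G => IsPGroup p N) IsPGroup.of_bot
    (fun _ B _ hB h1 h2 =>
      have := hB
      IsPGroup.to_sup_of_normal_right h1 h2) _ fun _ h => h).2

theorem pPrimeCore_coprime [Finite G] (p : ℕ) : (Nat.card (Cfsg.pPrimeCore p G)).Coprime p :=
  (sSup_induction_normal (P := fun N : Subgroup G => (Nat.card N).Coprime p)
    (by simp)
    (fun A B _ hB h1 h2 =>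
      have := hB
      (h1.mul_left h2).coprime_dvd_left (card_sup_dvd A B)) _ fun _ h => h).2

theorem isPGroup_equiv_iff {H : Type*} [Group H] (e : G ≃* H) : IsPGroup p G ↔ IsPGroup p H :=
  ⟨fun h => h.of_equiv e, fun h => h.of_equiv e.symm⟩

/-- A group isomorphism transports the join of the normal subgroups with an invariant property. -/
theorem map_sSup_normal_of_invariant {H : Type*} [Group H] (e : G ≃* H)
    (P : Subgroup G → Prop) (Q : Subgroup H → Prop)
    (hPQ : ∀ N : Subgroup G, P N ↔ Q (N.map e.toMonoidHom)) :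
    (sSup {N : Subgroup G | N.Normal ∧ P N}).map e.toMonoidHom
      = sSup {N : Subgroup H | N.Normal ∧ Q N} := by
  apply le_antisymm
  · rw [Subgroup.map_le_iff_le_comap]
    refine sSup_le fun N hN => ?_
    rw [← Subgroup.map_le_iff_le_comap]
    exact le_sSup ⟨hN.1.map _ e.surjective, (hPQ N).mp hN.2⟩
  · refine sSup_le fun M hM => ?_
    have hM' : (M.comap e.toMonoidHom).map e.toMonoidHom = M :=
      Subgroup.map_comap_eq_self_of_surjective e.surjective M
    rw [← hM']
    refine Subgroup.map_mono (le_sSup ⟨hM.1.comap _, ?_⟩)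
    rw [hPQ, hM']
    exact hM.2

theorem map_pCore_equiv {H : Type*} [Group H] (e : G ≃* H) (p : ℕ) :
    (Cfsg.pCore p G).map e.toMonoidHom = Cfsg.pCore p H :=
  map_sSup_normal_of_invariant e _ _ fun N => isPGroup_equiv_iff (e.subgroupMap N)

theorem map_pPrimeCore_equiv {H : Type*} [Group H] (e : G ≃* H) (p : ℕ) :
    (Cfsg.pPrimeCore p G).map e.toMonoidHom = Cfsg.pPrimeCore p H :=
  map_sSup_normal_of_invariant e (fun N : Subgroup G => (Nat.card N).Coprime p)
    (fun N : Subgroup H => (Nat.card N).Coprime p) fun N => by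
      rw [Nat.card_congr (e.subgroupMap N).toEquiv]; rfl

theorem map_fittingSubgroup_equiv {H : Type*} [Group H] (e : G ≃* H) :
    (Cfsg.fittingSubgroup G).map e.toMonoidHom = Cfsg.fittingSubgroup H :=
  map_sSup_normal_of_invariant e _ _ fun N => Group.isNilpotent_congr (e.subgroupMap N)

theorem pCore_characteristic (p : ℕ) (G : Type*) [Group G] :
    (Cfsg.pCore p G).Characteristic :=
  Subgroup.characteristic_iff_map_eq.mpr fun φ => map_pCore_equiv φ p

theorem pPrimeCore_characteristic (p : ℕ) (G : Type*) [Group G] :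
    (Cfsg.pPrimeCore p G).Characteristic :=
  Subgroup.characteristic_iff_map_eq.mpr fun φ => map_pPrimeCore_equiv φ p

theorem fittingSubgroup_characteristic (G : Type*) [Group G] :
    (Cfsg.fittingSubgroup G).Characteristic :=
  Subgroup.characteristic_iff_map_eq.mpr fun φ => map_fittingSubgroup_equiv φ

theorem card_map_subtype {K : Subgroup G} (H : Subgroup K) :
    Nat.card (H.map K.subtype) = Nat.card H :=
  (Nat.card_congr (H.equivMapOfInjective _ K.subtype_injective).toEquiv).symm

/-- A normal `p`-subgroup lies in every Sylow `p`-subgroup. -/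
theorem normal_pgroup_le_sylow [Finite G] [Fact p.Prime] {N : Subgroup G} [N.Normal]
    (hN : IsPGroup p N) (P : Sylow p G) : N ≤ (P : Subgroup G) := by
  have h := IsPGroup.to_sup_of_normal_right P.2 hN
  have := P.3 h le_sup_left
  exact le_sup_right.trans this.le

theorem pCore_le_sylow [Finite G] [Fact p.Prime] (P : Sylow p G) :
    Cfsg.pCore p G ≤ (P : Subgroup G) :=
  have := pCore_normal p G
  normal_pgroup_le_sylow (pCore_isPGroup p) P

theorem pCore_eq_iInf_sylow [Finite G] (p : ℕ) [Fact p.Prime] :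
    Cfsg.pCore p G = ⨅ P : Sylow p G, (P : Subgroup G) := by
  refine le_antisymm (le_iInf pCore_le_sylow) ?_
  obtain ⟨P⟩ := (inferInstance : Nonempty (Sylow p G))
  refine le_pCore (normal_of_forall_conj_smul_eq fun g => ?_) (P.2.to_le (iInf_le _ P))
  have hle : ∀ x : G, MulAut.conj x • (⨅ Q : Sylow p G, (Q : Subgroup G))
      ≤ ⨅ Q : Sylow p G, (Q : Subgroup G) := fun x => by
    refine le_iInf fun Q => ?_
    calc MulAut.conj x • (⨅ Q : Sylow p G, (Q : Subgroup G))
        ≤ MulAut.conj x • ((x⁻¹ • Q : Sylow p G) : Subgroup G) :=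
          conj_smul_mono x (iInf_le _ (x⁻¹ • Q))
      _ = (Q : Subgroup G) := by
          rw [Sylow.coe_subgroup_smul, conj_smul_conj_smul, mul_inv_cancel, conj_one_smul]
  refine le_antisymm (hle g) ?_
  have h2 := conj_smul_mono g (hle g⁻¹)
  rwa [conj_smul_conj_smul, mul_inv_cancel, conj_one_smul] at h2

theorem pCore_of_isPGroup (hG : IsPGroup p G) : Cfsg.pCore p G = ⊤ :=
  top_le_iff.mp (le_pCore inferInstance (hG.to_subgroup ⊤))

/-- A characteristic subgroup of a normal subgroup, seen in the whole group, is normal. -/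
theorem map_subtype_normal {N : Subgroup G} [N.Normal] (K : Subgroup N) [hK : K.Characteristic] :
    (K.map N.subtype).Normal :=
  inferInstance

/-- `O_p(N) ≤ O_p(G)` for normal `N`. -/
theorem map_pCore_le [Finite G] (p : ℕ) (N : Subgroup G) [N.Normal] :
    (Cfsg.pCore p N).map N.subtype ≤ Cfsg.pCore p G :=
  have := pCore_characteristic p N
  le_pCore inferInstance ((pCore_isPGroup p).map _)

/-- `O_{p'}(N) ≤ O_{p'}(G)` for normal `N`. -/
theorem map_pPrimeCore_le [Finite G] (p : ℕ) (N : Subgroup G) [N.Normal] :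
    (Cfsg.pPrimeCore p N).map N.subtype ≤ Cfsg.pPrimeCore p G :=
  have := pPrimeCore_characteristic p N
  le_pPrimeCore inferInstance (by rw [card_map_subtype]; exact pPrimeCore_coprime p)

theorem pPrimeCore_quotient_eq_bot [Finite G] (p : ℕ) [(Cfsg.pPrimeCore p G).Normal] :
    Cfsg.pPrimeCore p (G ⧸ Cfsg.pPrimeCore p G) = ⊥ := by
  set N := Cfsg.pPrimeCore p G with hN
  have := pPrimeCore_normal p (G ⧸ N)
  set K := Cfsg.pPrimeCore p (G ⧸ N) with hK
  have h1 : K.comap (QuotientGroup.mk' N) ≤ N := by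
    refine le_pPrimeCore (Subgroup.Normal.comap inferInstance _) ?_
    rw [card_comap_mk']
    exact (pPrimeCore_coprime p).mul_left (pPrimeCore_coprime p)
  rw [eq_bot_iff, ← Subgroup.map_comap_eq_self_of_surjective (QuotientGroup.mk'_surjective N) K]
  refine (Subgroup.map_mono h1).trans ?_
  rw [QuotientGroup.map_mk'_self]

theorem pCore_quotient_eq_bot [Finite G] (p : ℕ) [Fact p.Prime] [(Cfsg.pCore p G).Normal] :
    Cfsg.pCore p (G ⧸ Cfsg.pCore p G) = ⊥ := by
  set N := Cfsg.pCore p G with hN
  have := pCore_normal p (G ⧸ N)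
  set K := Cfsg.pCore p (G ⧸ N) with hK
  have h1 : K.comap (QuotientGroup.mk' N) ≤ N := by
    refine le_pCore (Subgroup.Normal.comap inferInstance _) ?_
    refine (pCore_isPGroup p).comap_of_ker_isPGroup _ ?_
    rw [QuotientGroup.ker_mk']
    exact pCore_isPGroup p
  rw [eq_bot_iff, ← Subgroup.map_comap_eq_self_of_surjective (QuotientGroup.mk'_surjective N) K]
  refine (Subgroup.map_mono h1).trans ?_
  rw [QuotientGroup.map_mk'_self]

end CfsgLib.Solvable
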