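import Cfsg.Agent.Lib.Solvable.Fitting
import Cfsg.Agent.Lib.Solvable.MinNormal

/-!
`C(F(G)) ≤ F(G)` for solvable `G`, and Hall-Higman 1.2.3 for solvable groups.
-/

set_option autoImplicit false

namespace CfsgLib.Solvable

open Subgroup
open scoped Pointwise IsMulCommutative commutatorElement

variable {G : Type*} [Group G]

/-- A normal subgroup that is nilpotent modulo a central normal subgroup is nilpotent. -/
theorem isNilpotent_of_map_mk'_of_central {D Z : Subgroup G} [Z.Normal] (hZD : Z ≤ D)
    (hcen : D ≤ centralizer (Z : Set G))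
    (h : Group.IsNilpotent (D.map (QuotientGroup.mk' Z))) : Group.IsNilpotent D := by
  have := h
  refine Subgroup.isNilpotent_of_ker_le_center ((QuotientGroup.mk' Z).subgroupMap D) ?_
  intro x hx
  have hxZ : (x : G) ∈ Z := by
    have h2 := congrArg Subtype.val (MonoidHom.mem_ker.mp hx)
    rwa [MonoidHom.subgroupMap_apply_coe, Subgroup.coe_one, QuotientGroup.mk'_apply,
      QuotientGroup.eq_one_iff] at h2
  rw [Subgroup.mem_center_iff]
  intro y
  exact Subtype.ext (Subgroup.mem_centralizer_iff.mp (hcen y.2) x hxZ).symm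

theorem centralizer_fittingSubgroup_le [Finite G] [Group.IsSolvable G] :
    centralizer (Cfsg.fittingSubgroup G : Set G) ≤ Cfsg.fittingSubgroup G := by
  set F := Cfsg.fittingSubgroup G with hF
  have : F.Normal := fittingSubgroup_normal G
  set C := centralizer (F : Set G) with hC
  set Z := C ⊓ F with hZ
  by_contra hnle
  set π := QuotientGroup.mk' Z with hπ
  have hne : C.map π ≠ ⊥ := fun he => hnle (by
    rw [Subgroup.map_eq_bot_iff, QuotientGroup.ker_mk'] at he
    exact he.trans inf_le_right)
  obtain ⟨D', hD'n, hD'ne, hD'le, hmin⟩ := exists_minimal_normal_le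
    (Subgroup.Normal.map inferInstance π (QuotientGroup.mk'_surjective _) : (C.map π).Normal) hne
  obtain ⟨p, hp, hD'p, -, -⟩ := exists_isPGroup_of_minimal_normal hD'ne hmin
  have : Fact p.Prime := ⟨hp⟩
  set D := D'.comap π with hD
  have hDn : D.Normal := hD'n.comap π
  have hZD : Z ≤ D := fun x hx => by simp [hD, hπ, (QuotientGroup.eq_one_iff x).mpr hx]
  have hDC : D ≤ C := by
    refine (Subgroup.comap_mono hD'le).trans ?_
    rw [Subgroup.comap_map_eq, QuotientGroup.ker_mk']
    exact sup_le le_rfl inf_le_left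
  have hnil : Group.IsNilpotent D := by
    refine isNilpotent_of_map_mk'_of_central hZD ?_ ?_
    · exact hDC.trans (Subgroup.centralizer_le (SetLike.coe_subset_coe.mpr inf_le_right))
    · rw [hD, Subgroup.map_comap_eq_self_of_surjective (QuotientGroup.mk'_surjective _)]
      exact hD'p.isNilpotent
  apply hD'ne
  rw [← Subgroup.map_comap_eq_self_of_surjective (QuotientGroup.mk'_surjective Z) D', ← hπ, ← hD,
    eq_bot_iff]
  refine (Subgroup.map_mono (le_inf hDC (le_fittingSubgroup hDn hnil))).trans ?_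
  rw [hπ, ← hZ, QuotientGroup.map_mk'_self]

theorem fittingSubgroup_eq_pCore [Finite G] (p : ℕ) [Fact p.Prime]
    (h : Cfsg.pPrimeCore p G = ⊥) : Cfsg.fittingSubgroup G = Cfsg.pCore p G := by
  refine le_antisymm ?_ (pCore_le_fittingSubgroup p)
  rw [fittingSubgroup_eq_iSup_pCore]
  refine iSup_le fun q => ?_
  by_cases hq : (q : ℕ) = p
  · rw [hq]
  · have : Fact (q : ℕ).Prime := ⟨q.2⟩
    have h1 : Cfsg.pCore (q : ℕ) G ≤ Cfsg.pPrimeCore p G := by
      refine le_pPrimeCore (pCore_normal _ G) ?_
      obtain ⟨k, hk⟩ := IsPGroup.iff_card.mp (pCore_isPGroup (G := G) (q : ℕ))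
      rw [hk]
      exact Nat.Coprime.pow_left _ ((Nat.coprime_primes q.2 Fact.out).mpr hq)
    exact (h1.trans h.le).trans bot_le

/-- Hall–Higman 1.2.3 for solvable groups. -/
theorem centralizer_pCore_le [Finite G] [Group.IsSolvable G] (p : ℕ) [Fact p.Prime]
    (h : Cfsg.pPrimeCore p G = ⊥) :
    centralizer (Cfsg.pCore p G : Set G) ≤ Cfsg.pCore p G := by
  rw [← fittingSubgroup_eq_pCore p h]
  exact centralizer_fittingSubgroup_le

theorem fittingSubgroup_ne_bot [Finite G] [Group.IsSolvable G] [Nontrivial G] :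
    Cfsg.fittingSubgroup G ≠ ⊥ := fun he => by
  have := centralizer_fittingSubgroup_le (G := G)
  rw [he] at this
  exact top_ne_bot (le_bot_iff.mp (le_trans (fun x _ => by simp [Subgroup.mem_centralizer_iff]) this))

end CfsgLib.Solvable
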