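import Cfsg.Agent.Lib.Solvable.PCore
import Mathlib.GroupTheory.Nilpotent

/-!
Fitting's theorem, the Fitting subgroup as the join of the `p`-cores, and a criterion for
nilpotency.
-/

set_option autoImplicit false

namespace CfsgLib.Solvable

open Subgroup
open scoped Pointwise

variable {G : Type*} [Group G]

/-- A normal `p`-subgroup of index prime to `p` forces a normal Sylow `p`-subgroup. -/
theorem sylow_normal_of_pCore_index [Finite G] {p : ℕ} [Fact p.Prime]
    (h : ¬ p ∣ (Cfsg.pCore p G).index) (P : Sylow p G) : (P : Subgroup G).Normal := by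
  have h1 := (pCore_isPGroup (G := G) p).toSylow h
  have h2 : Cfsg.pCore p G = (P : Subgroup G) :=
    le_antisymm (pCore_le_sylow P)
      (((pCore_isPGroup (G := G) p).toSylow h).3 P.2
        (by rw [IsPGroup.toSylow_coe]; exact pCore_le_sylow P)).le
  rw [← h2]
  exact pCore_normal p G

theorem isNilpotent_iff_pCore_index [Finite G] :
    Group.IsNilpotent G ↔ ∀ p : ℕ, p.Prime → ¬ p ∣ (Cfsg.pCore p G).index := by
  constructor
  · intro h p hp
    have : Fact p.Prime := ⟨hp⟩
    obtain ⟨P⟩ := (inferInstance : Nonempty (Sylow p G))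
    have hle : (P : Subgroup G) ≤ Cfsg.pCore p G := le_pCore inferInstance P.2
    exact fun hd => P.not_dvd_index (hd.trans (Subgroup.index_dvd_of_le hle))
  · intro h
    refine (Group.isNilpotent_of_finite_tfae (G := G)).out 3 0 rfl rfl |>.mp ?_
    intro p hp P
    exact sylow_normal_of_pCore_index (h p hp.out) P

/-- A subgroup containing subgroups of index prime to `p` for every prime `p` is everything. -/
theorem eq_top_of_forall_prime [Finite G] {H : Subgroup G}
    (h : ∀ p : ℕ, p.Prime → ¬ p ∣ H.index) : H = ⊤ := by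
  rw [← Subgroup.index_eq_one]
  by_contra hne
  exact h _ (Nat.minFac_prime hne) (Nat.minFac_dvd _)

theorem iSup_pCore_eq_top_of_isNilpotent [Finite G] (h : Group.IsNilpotent G) :
    ⨆ p : Nat.Primes, Cfsg.pCore (p : ℕ) G = ⊤ := by
  refine eq_top_of_forall_prime fun p hp hd => ?_
  exact (isNilpotent_iff_pCore_index.mp h) p hp
    (hd.trans (Subgroup.index_dvd_of_le (le_iSup (fun q : Nat.Primes => Cfsg.pCore (q : ℕ) G) ⟨p, hp⟩)))

/-- The join of two normal nilpotent subgroups is nilpotent. -/
theorem isNilpotent_sup [Finite G] {A B : Subgroup G} [A.Normal] [B.Normal]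
    (hA : Group.IsNilpotent A) (hB : Group.IsNilpotent B) :
    Group.IsNilpotent (A ⊔ B : Subgroup G) := by
  rw [isNilpotent_iff_pCore_index]
  intro p hp
  have : Fact p.Prime := ⟨hp⟩
  set C := A ⊔ B with hC
  -- the two local cores, seen in `G`
  set a := (Cfsg.pCore p A).map A.subtype with ha
  set b := (Cfsg.pCore p B).map B.subtype with hb
  have : (Cfsg.pCore p A).Characteristic := pCore_characteristic p A
  have : (Cfsg.pCore p B).Characteristic := pCore_characteristic p B
  have hab : IsPGroup p (a ⊔ b : Subgroup G) :=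
    IsPGroup.to_sup_of_normal_right ((pCore_isPGroup p).map _) ((pCore_isPGroup p).map _)
  have hle : a ⊔ b ≤ C := sup_le_sup (Subgroup.map_subtype_le _) (Subgroup.map_subtype_le _)
  have hn : ((a ⊔ b).subgroupOf C).Normal := Subgroup.normal_subgroupOf
  have hmem : (a ⊔ b).subgroupOf C ≤ Cfsg.pCore p C :=
    le_pCore hn (hab.of_equiv (Subgroup.subgroupOfEquivOfLe hle).symm)
  intro hd
  have h1 : p ∣ (a ⊔ b).relIndex C := hd.trans (Subgroup.index_dvd_of_le hmem)
  -- the images of `A` and `B` modulo `a ⊔ b` have order prime to `p`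
  have key : ∀ (X : Subgroup G) (x : Subgroup X), ¬ p ∣ x.index → x.map X.subtype ≤ a ⊔ b →
      ¬ p ∣ Nat.card (X.map (QuotientGroup.mk' (a ⊔ b))) := by
    intro X x hx hxle hdvd
    apply hx
    refine hdvd.trans ?_
    have hc := card_map_mk'_mul (a ⊔ b) X
    have : (x.map X.subtype).relIndex X = x.index := by
      rw [Subgroup.relIndex, Subgroup.subgroupOf, Subgroup.comap_map_eq_self_of_injective X.subtype_injective]
    rw [← this]
    have h2 : x.map X.subtype ≤ X ⊓ (a ⊔ b) := le_inf (Subgroup.map_subtype_le x) hxle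
    have h3 : (X ⊓ (a ⊔ b)).relIndex X * Nat.card (X ⊓ (a ⊔ b) : Subgroup G) = Nat.card X := by
      rw [mul_comm, ← Subgroup.relIndex_bot_left (X ⊓ (a ⊔ b)),
        Subgroup.relIndex_mul_relIndex ⊥ _ X bot_le inf_le_left, Subgroup.relIndex_bot_left]
    rw [← hc] at h3
    rw [← Nat.eq_of_mul_eq_mul_right Nat.card_pos h3]
    exact Subgroup.relIndex_dvd_of_le_left X h2
  have hpA := key A (Cfsg.pCore p A) ((isNilpotent_iff_pCore_index.mp hA) p hp) le_sup_left
  have hpB := key B (Cfsg.pCore p B) ((isNilpotent_iff_pCore_index.mp hB) p hp) le_sup_right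
  have h2 : (a ⊔ b).relIndex C = Nat.card (C.map (QuotientGroup.mk' (a ⊔ b))) := by
    rw [← Subgroup.relIndex_bot_left (C.map (QuotientGroup.mk' (a ⊔ b))), ← Subgroup.relIndex_comap,
      MonoidHom.comap_bot, QuotientGroup.ker_mk']
  have : (B.map (QuotientGroup.mk' (a ⊔ b))).Normal :=
    Subgroup.Normal.map inferInstance _ (QuotientGroup.mk'_surjective _)
  have h3 := card_sup_dvd (A.map (QuotientGroup.mk' (a ⊔ b))) (B.map (QuotientGroup.mk' (a ⊔ b)))
  rw [h2, hC, Subgroup.map_sup] at h1
  exact (hp.dvd_mul.mp (h1.trans h3)).elim hpA hpB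

theorem fittingSubgroup_isNilpotent [Finite G] : Group.IsNilpotent (Cfsg.fittingSubgroup G) :=
  (sSup_induction_normal (P := fun N : Subgroup G => Group.IsNilpotent N) inferInstance
    (fun A B hA hB h1 h2 =>
      have := hA
      have := hB
      isNilpotent_sup h1 h2) _ fun _ h => h).2

theorem pCore_le_fittingSubgroup [Finite G] (p : ℕ) [Fact p.Prime] :
    Cfsg.pCore p G ≤ Cfsg.fittingSubgroup G :=
  le_fittingSubgroup (pCore_normal p G) (pCore_isPGroup p).isNilpotent

theorem fittingSubgroup_eq_iSup_pCore [Finite G] :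
    Cfsg.fittingSubgroup G = ⨆ p : Nat.Primes, Cfsg.pCore (p : ℕ) G := by
  refine le_antisymm ?_ (iSup_le fun p => ?_)
  · set F := Cfsg.fittingSubgroup G
    have := fittingSubgroup_normal G
    have h := iSup_pCore_eq_top_of_isNilpotent (fittingSubgroup_isNilpotent (G := G))
    calc F = (⨆ p : Nat.Primes, Cfsg.pCore (p : ℕ) F).map F.subtype := by
          rw [h, ← MonoidHom.range_eq_map, Subgroup.range_subtype]
      _ ≤ ⨆ p : Nat.Primes, Cfsg.pCore (p : ℕ) G := by
          rw [Subgroup.map_iSup]
          exact iSup_mono fun p => map_pCore_le _ F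
  · have : Fact (p : ℕ).Prime := ⟨p.2⟩
    exact pCore_le_fittingSubgroup _

/-- In a finite group, normal subgroups of the form `N` are nilpotent iff below the Fitting group. -/
theorem isNilpotent_of_le_fittingSubgroup [Finite G] {N : Subgroup G}
    (h : N ≤ Cfsg.fittingSubgroup G) : Group.IsNilpotent N := by
  have := fittingSubgroup_isNilpotent (G := G)
  exact (Group.isNilpotent_congr (Subgroup.subgroupOfEquivOfLe h)).mp inferInstance

theorem map_fittingSubgroup_le [Finite G] (N : Subgroup G) [N.Normal] :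
    (Cfsg.fittingSubgroup N).map N.subtype ≤ Cfsg.fittingSubgroup G := by
  have := fittingSubgroup_characteristic N
  exact le_fittingSubgroup inferInstance
    ((Group.isNilpotent_congr
      ((Cfsg.fittingSubgroup N).equivMapOfInjective _ N.subtype_injective)).mp
      fittingSubgroup_isNilpotent)

theorem le_fittingSubgroup_of_isMulCommutative [Finite G] {N : Subgroup G} (hN : N.Normal)
    (h : IsMulCommutative N) : N ≤ Cfsg.fittingSubgroup G :=
  le_fittingSubgroup hN <| by
    have := h
    open scoped IsMulCommutative in infer_instance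

end CfsgLib.Solvable
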