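import Cfsg.Agent.Lib.Solvable.Basic
import Mathlib.GroupTheory.Nilpotent
import Mathlib.GroupTheory.IsSubnormal

/-!
Normal subgroups of nilpotent groups; subnormality in nilpotent groups.
-/

set_option autoImplicit false

namespace CfsgLib.Solvable

open Subgroup
open scoped Pointwise commutatorElement

variable {G : Type*} [Group G]

/-- A nontrivial normal subgroup of a nilpotent group meets the centre nontrivially. -/
theorem normal_inf_center_ne_bot [Group.IsNilpotent G] (N : Subgroup G) [hNn : N.Normal]
    (hN : N ≠ ⊥) : N ⊓ center G ≠ ⊥ := by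
  intro hbot
  apply hN
  obtain ⟨n, hn⟩ := Group.IsNilpotent.nilpotent G
  have key : ∀ i, N ⊓ Subgroup.upperCentralSeries G i = ⊥ := by
    intro i
    induction i with
    | zero => rw [Subgroup.upperCentralSeries_zero, inf_bot_eq]
    | succ i ih =>
      rw [eq_bot_iff, ← hbot]
      intro x hx
      refine ⟨hx.1, Subgroup.mem_center_iff.mpr fun y => ?_⟩
      have h1 : x * y * x⁻¹ * y⁻¹ ∈ N ⊓ Subgroup.upperCentralSeries G i := by
        refine ⟨?_, (Subgroup.mem_upperCentralSeries_succ_iff.mp hx.2) y⟩
        have := N.mul_mem hx.1 (hNn.conj_mem _ (N.inv_mem hx.1) y)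
        simpa [mul_assoc] using this
      rw [ih, Subgroup.mem_bot, mul_inv_eq_one, mul_inv_eq_iff_eq_mul] at h1
      exact h1.symm
  have := key n
  rwa [hn, inf_top_eq] at this

theorem isSubnormal_of_le {A H : Subgroup G} (hA : A.IsSubnormal) : (A.subgroupOf H).IsSubnormal :=
  hA.subgroupOf

/-- In a nilpotent finite group every subgroup is subnormal. -/
theorem isSubnormal_of_isNilpotent [Finite G] [Group.IsNilpotent G] (H : Subgroup G) :
    H.IsSubnormal := by
  obtain ⟨n, hn⟩ : ∃ n, H.index = n := ⟨_, rfl⟩
  induction n using Nat.strong_induction_on generalizing H with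
  | _ n ih =>
    by_cases h : H = ⊤
    · subst h; exact Subgroup.IsSubnormal.top
    have hlt := Group.normalizerCondition_of_isNilpotent (G := G) H (lt_top_iff_ne_top.mpr h)
    refine Subgroup.IsSubnormal.step _ _ hlt.le
      (ih _ (hn ▸ Subgroup.index_strictAnti hlt) _ rfl) Subgroup.normal_in_normalizer

end CfsgLib.Solvable
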