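import Cfsg.Agent.Lib.Solvable.Basic
import Mathlib.GroupTheory.GroupAction.Quotient
import Mathlib.GroupTheory.Coset.Card

/-!
Products `HK` of two subgroups: orders, factorizations `G = HK`.
-/

set_option autoImplicit false

namespace CfsgLib.Solvable

open Subgroup
open scoped Pointwise

variable {G : Type*} [Group G]

/-- `|HK| = |K| · |H : H ⊓ K|`. -/
theorem card_mul_set (H K : Subgroup G) :
    Nat.card ((H : Set G) * (K : Set G) : Set G) = Nat.card K * K.relIndex H := by
  set t : Set (G ⧸ K) := QuotientGroup.mk '' (H : Set G) with ht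
  have hset : (H : Set G) * (K : Set G) = QuotientGroup.mk ⁻¹' t := by
    ext x
    constructor
    · rintro ⟨h, hh, k, hk, rfl⟩
      exact ⟨h, hh, QuotientGroup.eq.mpr (by simpa using hk)⟩
    · rintro ⟨h, hh, he⟩
      exact ⟨h, hh, h⁻¹ * x, QuotientGroup.eq.mp he, by simp⟩
  rw [hset, Nat.card_congr (QuotientGroup.preimageMkEquivSubgroupProdSet K t), Nat.card_prod]
  congr 1
  let f : H ⧸ K.subgroupOf H → t :=
    Quotient.lift (fun h : H => (⟨QuotientGroup.mk (h : G), ⟨h, h.2, rfl⟩⟩ : t)) fun a b hab =>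
      Subtype.ext (QuotientGroup.eq.mpr (show ((a : G))⁻¹ * (b : G) ∈ K from
        (QuotientGroup.leftRel_apply (s := K.subgroupOf H)).mp hab))
  refine (Nat.card_congr (Equiv.ofBijective f ⟨?_, ?_⟩)).symm
  · intro a b
    induction a using Quotient.inductionOn with | _ x => ?_
    induction b using Quotient.inductionOn with | _ y => ?_
    intro hxy
    have h2 : ((x : G) : G ⧸ K) = ((y : G) : G ⧸ K) := congrArg Subtype.val hxy
    exact Quotient.sound ((QuotientGroup.leftRel_apply (s := K.subgroupOf H)).mpr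
      (show ((x : G))⁻¹ * (y : G) ∈ K from QuotientGroup.eq.mp h2))
  · rintro ⟨q, h, hh, rfl⟩
    exact ⟨QuotientGroup.mk ⟨h, hh⟩, rfl⟩

theorem card_mul_set_mul_card_inf (H K : Subgroup G) :
    Nat.card ((H : Set G) * (K : Set G) : Set G) * Nat.card (H ⊓ K : Subgroup G)
      = Nat.card H * Nat.card K := by
  rw [card_mul_set, mul_assoc, mul_comm (Nat.card H)]
  congr 1
  rw [← Subgroup.inf_relIndex_left H K, mul_comm, ← Subgroup.relIndex_bot_left (H ⊓ K),
    Subgroup.relIndex_mul_relIndex ⊥ _ H bot_le inf_le_left, Subgroup.relIndex_bot_left]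

theorem forall_exists_mul_iff (H K : Subgroup G) :
    (∀ g : G, ∃ h ∈ H, ∃ k ∈ K, g = h * k) ↔ (H : Set G) * (K : Set G) = Set.univ := by
  rw [Set.eq_univ_iff_forall]
  refine forall_congr' fun g => ?_
  simp only [Set.mem_mul, SetLike.mem_coe, eq_comm]

/-- In a finite group, `G = HK` iff `|G| · |H ⊓ K| = |H| · |K|`. -/
theorem forall_exists_mul_iff_card [Finite G] (H K : Subgroup G) :
    (∀ g : G, ∃ h ∈ H, ∃ k ∈ K, g = h * k) ↔
      Nat.card G * Nat.card (H ⊓ K : Subgroup G) = Nat.card H * Nat.card K := by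
  rw [forall_exists_mul_iff, ← card_mul_set_mul_card_inf H K]
  constructor
  · intro h; rw [h, Nat.card_coe_set_eq, Set.ncard_univ]
  · intro h
    have h2 := Nat.eq_of_mul_eq_mul_right Nat.card_pos h
    rw [Nat.card_coe_set_eq] at h2
    exact Set.eq_of_subset_of_ncard_le (Set.subset_univ _) (by rw [Set.ncard_univ, h2])

/-- Subgroups of coprime index. -/
theorem index_inf_of_coprime [Finite G] {H K : Subgroup G} (h : H.index.Coprime K.index) :
    (H ⊓ K).index = H.index * K.index :=
  le_antisymm Subgroup.index_inf_le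
    (Nat.le_of_dvd (Nat.pos_of_ne_zero index_ne_zero_of_finite)
      (h.mul_dvd_of_dvd_of_dvd (Subgroup.index_dvd_of_le inf_le_left)
        (Subgroup.index_dvd_of_le inf_le_right)))

theorem forall_exists_mul_of_coprime_index [Finite G] {H K : Subgroup G}
    (h : H.index.Coprime K.index) : ∀ g : G, ∃ x ∈ H, ∃ y ∈ K, g = x * y := by
  rw [forall_exists_mul_iff_card]
  have e1 := (H ⊓ K).card_mul_index
  rw [index_inf_of_coprime h] at e1
  have e2 := H.card_mul_index
  have e3 := K.card_mul_index
  refine Nat.eq_of_mul_eq_mul_right (m := H.index * K.index)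
    (Nat.pos_of_ne_zero (mul_ne_zero index_ne_zero_of_finite index_ne_zero_of_finite)) ?_
  rw [mul_assoc, e1, mul_mul_mul_comm, e2, e3]

end CfsgLib.Solvable
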