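import Cfsg.Prelude.Def_Solvable
import Cfsg.Agent.Lib.Solvable.Basic
import Cfsg.Agent.Lib.Char.Inner
import Cfsg.Agent.Lib.Char.Induce
import Cfsg.Agent.Lib.Char.Linear
import Mathlib.GroupTheory.GroupAction.Quotient

/-!
Frobenius' theorem: the Frobenius kernel is a normal complement.
-/

set_option autoImplicit false

namespace CfsgLib.Solvable

open Subgroup CfsgLib.Char
open scoped Pointwise

universe u

variable {G : Type u} [Group G] {H : Subgroup G}

theorem frobenius_eq_one_of_conj_mem (hH : Cfsg.IsFrobeniusComplement H) {g t : G}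
    (hg : g ∉ H) (ht : t ∈ H) (hgt : g * t * g⁻¹ ∈ H) : t = 1 := by
  have h1 : t ∈ H ⊓ MulAut.conj g⁻¹ • H :=
    ⟨ht, mem_conj_smul.mpr (by rwa [inv_inv])⟩
  rwa [hH.2.2 g⁻¹ (fun h => hg (inv_mem_iff.mp h)), Subgroup.mem_bot] at h1

theorem frobenius_mem_of_conj_mem (hH : Cfsg.IsFrobeniusComplement H) {g t : G}
    (ht : t ∈ H) (ht1 : t ≠ 1) (hgt : g * t * g⁻¹ ∈ H) : g ∈ H :=
  by_contra fun hg => ht1 (frobenius_eq_one_of_conj_mem hH hg ht hgt)

theorem normalizer_of_isFrobeniusComplement (hH : Cfsg.IsFrobeniusComplement H) :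
    normalizer (H : Set G) = H := by
  refine le_antisymm (fun g hg => ?_) Subgroup.le_normalizer
  obtain ⟨t, ht1⟩ := Subgroup.ne_bot_iff_exists_ne_one.mp hH.1
  exact frobenius_mem_of_conj_mem hH t.2 (fun h => ht1 (Subtype.ext h))
    ((Subgroup.mem_normalizer_iff.mp hg (t : G)).mp t.2)

theorem frobenius_conj_unique (hH : Cfsg.IsFrobeniusComplement H) {x y z : G} (hz : z ≠ 1)
    (hx : z ∈ MulAut.conj x • H) (hy : z ∈ MulAut.conj y • H) : x⁻¹ * y ∈ H := by
  have hy' := mem_conj_smul.mp hy
  refine frobenius_mem_of_conj_mem hH hy' (fun h => hz ?_) ?_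
  · have := congrArg (fun w => y * w * y⁻¹) h
    simpa [mul_assoc] using this
  · have := mem_conj_smul.mp hx
    simpa [mul_assoc] using this

/-- The nonidentity elements of the conjugates of a Frobenius complement. -/
theorem card_kernel_of_isFrobeniusComplement [Finite G] (hH : Cfsg.IsFrobeniusComplement H) :
    Nat.card (Cfsg.frobeniusKernel H) = H.index := by
  classical
  let f : (G ⧸ H) × {h : H // h ≠ 1} → {g : G // g ∉ Cfsg.frobeniusKernel H} := fun p =>
    ⟨p.1.out * (p.2.1 : G) * p.1.out⁻¹, fun h => h.elim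
      (fun h1 => p.2.2 (Subtype.ext (conj_eq_one_iff.mp h1)))
      (fun h1 => h1 p.1.out (mem_conj_smul.mpr (by simp [mul_assoc])))⟩
  have hf : Function.Bijective f := by
    constructor
    · rintro ⟨a, h, hne⟩ ⟨b, h', hne'⟩ he
      have he' : a.out * (h : G) * a.out⁻¹ = b.out * (h' : G) * b.out⁻¹ := congrArg Subtype.val he
      have hm := frobenius_conj_unique hH (z := a.out * (h : G) * a.out⁻¹) (x := a.out) (y := b.out)
        (fun h1 => hne (Subtype.ext (conj_eq_one_iff.mp h1)))
        (mem_conj_smul.mpr (by simp [mul_assoc])) (mem_conj_smul.mpr (by rw [he']; simp [mul_assoc]))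
      have hab : a = b := by
        rw [← QuotientGroup.out_eq' a, ← QuotientGroup.out_eq' b]
        exact QuotientGroup.eq.mpr hm
      subst hab
      simp only [mul_left_inj, mul_right_inj] at he'
      exact Prod.ext rfl (Subtype.ext (Subtype.ext he'))
    · rintro ⟨g, hg⟩
      simp only [Cfsg.frobeniusKernel, Set.mem_setOf_eq, not_or, not_forall, not_not] at hg
      obtain ⟨hg1, x, hx⟩ := hg
      obtain ⟨k, hk⟩ := QuotientGroup.mk_out_eq_mul H x
      set a : G ⧸ H := (QuotientGroup.mk x : G ⧸ H)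
      have hx' : a.out⁻¹ * g * a.out ∈ H := by
        rw [hk]
        have := H.mul_mem (H.mul_mem (H.inv_mem k.2) (mem_conj_smul.mp hx)) k.2
        simpa [mul_assoc] using this
      refine ⟨⟨a, ⟨_, hx'⟩, fun h => hg1 ?_⟩, Subtype.ext (by simp [f, mul_assoc])⟩
      have := congrArg (fun w : H => a.out * (w : G) * a.out⁻¹) h
      simpa [mul_assoc] using this
  have h1 := Nat.card_congr (Equiv.ofBijective f hf)
  rw [Nat.card_prod, ← Subgroup.index_eq_card] at h1
  have := Fintype.ofFinite G
  have h2 : Nat.card {h : H // h ≠ 1} = Nat.card H - 1 := by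
    rw [Nat.card_eq_fintype_card, Fintype.card_subtype_compl, Fintype.card_subtype_eq,
      Nat.card_eq_fintype_card]
  have h3 : Nat.card {g : G // g ∉ Cfsg.frobeniusKernel H}
      + Nat.card (Cfsg.frobeniusKernel H) = Nat.card G := by
    rw [← Nat.card_congr (Equiv.sumCompl (fun g => g ∈ Cfsg.frobeniusKernel H)), Nat.card_sum, add_comm]
  rw [← h1, h2, ← H.index_mul_card, Nat.mul_sub_one] at h3
  have h4 : H.index ≤ H.index * Nat.card H := Nat.le_mul_of_pos_right _ Nat.card_pos
  omega

theorem index_mod_card_of_isFrobeniusComplement [Finite G] (hH : Cfsg.IsFrobeniusComplement H) :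
    H.index % Nat.card H = 1 % Nat.card H := by
  classical
  set o : G ⧸ H := ((1 : G) : G ⧸ H)
  have hsmul : ∀ (c : H), c • o = o := fun c => by
    show (((c : G) * 1 : G) : G ⧸ H) = o
    exact QuotientGroup.eq.mpr (by simp)
  let X : SubMulAction H (G ⧸ H) :=
    { carrier := {x | x ≠ o}
      smul_mem' := fun c x hx h => hx (by rw [← inv_smul_smul c x, h, hsmul]) }
  have hfree : ∀ b : X, MulAction.stabilizer H b = ⊥ := by
    rintro ⟨b, hb⟩
    rw [eq_bot_iff]
    intro c hc
    have hc' : c • b = b := congrArg Subtype.val hc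
    obtain ⟨x, rfl⟩ := QuotientGroup.mk_surjective b
    have hxH : x ∉ H := fun h => hb (QuotientGroup.eq.mpr (by simpa using h))
    have hmem : x⁻¹ * (c : G) * x ∈ H := by
      have h2 := QuotientGroup.eq.mp (show (((c : G) * x : G) : G ⧸ H) = (x : G ⧸ H) from hc')
      have := H.inv_mem h2
      simpa [mul_assoc] using this
    have := frobenius_eq_one_of_conj_mem hH (g := x⁻¹) (fun h => hxH (inv_mem_iff.mp h)) c.2
      (by rwa [inv_inv])
    exact Subgroup.mem_bot.mpr (Subtype.ext this)
  have h1 := Nat.card_congr (MulAction.selfEquivOrbitsQuotientProd hfree)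
  rw [Nat.card_prod] at h1
  have := Fintype.ofFinite (G ⧸ H)
  have h2 : Nat.card X = H.index - 1 := by
    rw [Subgroup.index_eq_card]
    show Nat.card {x : G ⧸ H // x ≠ o} = _
    rw [Nat.card_eq_fintype_card, Fintype.card_subtype_compl, Fintype.card_subtype_eq,
      Nat.card_eq_fintype_card]
  have h3 : 0 < H.index := Nat.pos_of_ne_zero index_ne_zero_of_finite
  have h4 : H.index = 1 + Nat.card (MulAction.orbitRel.Quotient H X) * Nat.card H := by
    have : Nat.card (MulAction.orbitRel.Quotient H X) * Nat.card H = H.index - 1 := h1 ▸ h2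
    omega
  rw [h4, Nat.add_mul_mod_self_right]

/-- Each irreducible character of a Frobenius complement extends to a character of the group that
is constant on the kernel. -/
theorem exists_extension_of_isFrobeniusComplement [Fintype G] (hH : Cfsg.IsFrobeniusComplement H)
    {θ : H → ℂ} (hθ : Cfsg.IsIrrCharacter H θ) :
    ∃ χ : G → ℂ, Cfsg.IsIrrCharacter G χ ∧ (∀ h : H, χ h = θ h) ∧
      ∀ g ∈ Cfsg.frobeniusKernel H, χ g = χ 1 := by
  classical
  have := Fintype.ofFinite H
  by_cases hθ1 : θ = fun _ => 1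
  · exact ⟨fun _ => 1, isIrrCharacter_one, fun h => by rw [hθ1], fun g _ => rfl⟩
  obtain ⟨d, hd, hd1⟩ := irr_apply_one_pos hθ
  set α : H → ℂ := θ - (d : ℂ) • (fun _ => (1 : ℂ)) with hα
  set τ := Cfsg.indFun H α with hτ
  have hgen1 : Cfsg.IsGeneralizedCharacter H ((d : ℂ) • (fun _ : H => (1 : ℂ))) := by
    have := isGeneralized_of_isCharacter (isCharacter_nsmul (isCharacter_one (G := H)) d)
    convert this using 1
    rw [Nat.cast_smul_eq_nsmul]
  have hgenα : Cfsg.IsGeneralizedCharacter H α :=
    isGeneralized_sub (isGeneralized_of_isCharacter (irr_isCharacter hθ)) hgen1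
  have hclα := isGeneralized_isClassFunction hgenα
  have hα1 : α 1 = 0 := by simp [hα, hd1]
  have hτH : ∀ h : H, τ h = α h := by
    intro h
    by_cases h1 : h = 1
    · subst h1
      rw [hτ, Subgroup.coe_one, indFun_apply_one, hα1, mul_zero]
    have hterm : ∀ x : G, Cfsg.extendByZero H α (x⁻¹ * (h : G) * x) = if x ∈ H then α h else 0 := by
      intro x
      split_ifs with hx
      · rw [show x⁻¹ * (h : G) * x = ((⟨x, hx⟩⁻¹ * h * ⟨x, hx⟩ : H) : G) from rfl, extendByZero_coe]
        have h2 := hclα h (⟨x, hx⟩ : H)⁻¹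
        rw [inv_inv] at h2
        exact h2
      · refine extendByZero_of_not_mem _ fun hm => h1 (Subtype.ext ?_)
        refine frobenius_eq_one_of_conj_mem hH (g := x⁻¹) (fun h' => hx (inv_mem_iff.mp h')) h.2 ?_
        rwa [inv_inv]
    rw [hτ, indFun_def, Finset.sum_congr rfl fun x _ => hterm x, ← Finset.sum_filter,
      Finset.sum_const, nsmul_eq_mul, ← Fintype.card_subtype, ← Nat.card_eq_fintype_card,
      inv_mul_cancel_left₀ (by exact_mod_cast Nat.card_pos.ne')]
  have hτK : ∀ g ∈ Cfsg.frobeniusKernel H, τ g = 0 := by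
    rintro g (rfl | hg)
    · rw [hτ, indFun_apply_one, hα1, mul_zero]
    · rw [hτ, indFun_def, Finset.sum_eq_zero, mul_zero]
      exact fun x _ => extendByZero_of_not_mem _ fun hm => hg x (mem_conj_smul.mpr hm)
  have hgenτ : Cfsg.IsGeneralizedCharacter G τ := isGeneralized_indFun H hgenα
  set one : G → ℂ := fun _ => 1 with hone
  set oneH : H → ℂ := fun _ => 1 with honeH
  set χ : G → ℂ := τ + (d : ℂ) • one with hχ
  have hgenχ : Cfsg.IsGeneralizedCharacter G χ := by
    refine isGeneralized_add hgenτ ?_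
    have := isGeneralized_of_isCharacter (isCharacter_nsmul (isCharacter_one (G := G)) d)
    convert this using 1
    rw [Nat.cast_smul_eq_nsmul]
  have hτone : Cfsg.classInner τ one = -(d : ℂ) := by
    rw [hτ, frobenius_reciprocity H α one (fun _ _ => rfl)]
    show Cfsg.classInner α oneH = _
    rw [hα, classInner_sub_left, classInner_smul_left, irr_classInner_ne hθ isIrrCharacter_one hθ1,
      irr_classInner_self isIrrCharacter_one]
    simp
  have honeτ : Cfsg.classInner one τ = -(d : ℂ) := by
    rw [← classInner_conj_symm, hτone]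
    simp
  have hττ : Cfsg.classInner τ τ = 1 + (d : ℂ) * d := by
    have e : (fun h : H => τ h) = α := funext hτH
    conv_lhs => rw [hτ, frobenius_reciprocity H α τ (isGeneralized_isClassFunction hgenτ), e, hα]
    rw [classInner_sub_left, classInner_sub_right, classInner_sub_right, classInner_smul_left,
      classInner_smul_left, classInner_smul_right, classInner_smul_right,
      irr_classInner_self hθ, irr_classInner_self isIrrCharacter_one,
      irr_classInner_ne hθ isIrrCharacter_one hθ1,
      irr_classInner_ne isIrrCharacter_one hθ (Ne.symm hθ1)]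
    simp
  have hnorm : Cfsg.classInner χ χ = 1 := by
    rw [hχ, classInner_add_left, classInner_add_right, classInner_add_right, classInner_smul_left,
      classInner_smul_left, classInner_smul_right, classInner_smul_right, hττ, hτone, honeτ,
      hone, irr_classInner_self isIrrCharacter_one]
    simp only [map_natCast]
    ring
  have hχK : ∀ g ∈ Cfsg.frobeniusKernel H, χ g = d := fun g hg => by
    simp [hχ, hone, hτK g hg]
  refine ⟨χ, ?_, fun h => ?_, fun g hg => by rw [hχK g hg, hχK 1 (Or.inl rfl)]⟩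
  · rcases isGeneralized_norm_one hgenχ hnorm with hc | hc
    · exact hc
    · exfalso
      obtain ⟨e, he, he1⟩ := irr_apply_one_pos hc
      rw [Pi.neg_apply, hχK 1 (Or.inl rfl)] at he1
      have : ((d + e : ℕ) : ℂ) = 0 := by push_cast; rw [← he1]; ring
      norm_cast at this
      omega
  · simp [hχ, hone, honeH, hτH h, hα]

/-- Frobenius: the Frobenius kernel is a normal subgroup complementing `H`. -/
theorem exists_frobeniusKernel [Finite G] (hH : Cfsg.IsFrobeniusComplement H) :
    ∃ N : Subgroup G, (N : Set G) = Cfsg.frobeniusKernel H ∧ N.Normal ∧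
      Subgroup.IsComplement' N H := by
  have := Fintype.ofFinite G
  choose χ hirr hres hker using fun θ : Cfsg.IrrCharacter H =>
    exists_extension_of_isFrobeniusComplement hH θ.2
  have hrep : ∀ θ : Cfsg.IrrCharacter H, ∃ (n : ℕ) (ρ : Representation ℂ G (Fin n → ℂ)),
      ρ.character = χ θ := fun θ => irr_isCharacter (hirr θ)
  choose n ρ hρ using hrep
  set N : Subgroup G := ⨅ θ, MonoidHom.ker (ρ θ) with hN
  have hmem : ∀ g, g ∈ N ↔ ∀ θ, χ θ g = χ θ 1 := fun g => by
    simp only [hN, Subgroup.mem_iInf, mem_ker_iff_char, hρ]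
  have hNn : N.Normal := normal_iInf_normal fun θ => MonoidHom.normal_ker _
  have hdis : N ⊓ H = ⊥ := by
    rw [eq_bot_iff]
    rintro x ⟨hxN, hxH⟩
    by_contra hx
    obtain ⟨θ, hθ⟩ := exists_irr_apply_ne (G := H) (g := ⟨x, hxH⟩) fun h => hx (congrArg Subtype.val h)
    refine hθ ?_
    rw [← hres θ, ← hres θ, Subgroup.coe_one]
    exact (hmem x).mp hxN θ
  have hset : (N : Set G) = Cfsg.frobeniusKernel H := by
    refine Set.Subset.antisymm (fun x hx => or_iff_not_imp_left.mpr fun hx1 g hg => ?_)
      fun x hx => (hmem x).mpr fun θ => hker θ x hx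
    have h1 : g⁻¹ * x * g ∈ N ⊓ H :=
      ⟨by simpa using hNn.conj_mem x hx g⁻¹, mem_conj_smul.mp hg⟩
    rw [hdis, Subgroup.mem_bot] at h1
    apply hx1
    have := congrArg (fun w => g * w * g⁻¹) h1
    simpa [mul_assoc] using this
  refine ⟨N, hset, hNn, Subgroup.isComplement'_of_card_mul_and_disjoint ?_ (disjoint_iff.mpr hdis)⟩
  rw [← H.index_mul_card, ← card_kernel_of_isFrobeniusComplement hH]
  congr 1
  exact Nat.card_congr (Equiv.setCongr hset)

end CfsgLib.Solvable
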