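import Cfsg.Agent.Lib.Solvable.SchurZassenhaus

/-!
Hall's theorems for finite solvable groups: existence, conjugacy, containment.
-/

set_option autoImplicit false

namespace CfsgLib.Solvable

open Subgroup
open scoped Pointwise

universe u

variable {G : Type*} [Group G]

theorem isMulCommutative_subgroupOf (M U : Subgroup G) [hM : IsMulCommutative M] :
    IsMulCommutative (M.subgroupOf U) :=
  ⟨⟨fun a b => Subtype.ext (Subtype.ext (congrArg (fun z : M => (z : G))
    (hM.is_comm.comm ⟨a.1.1, a.2⟩ ⟨b.1.1, b.2⟩)))⟩⟩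

/-- An elementary step: from a normal abelian `M`, a subgroup `H'` and a subgroup `K` of order
prime to `M` inside `H' ⊔ M`, a conjugate of `K` lies in `H'`. -/
theorem exists_conj_le_of_le_sup [Finite G] {M H K : Subgroup G} [M.Normal] [IsMulCommutative M]
    (hH : (Nat.card H).Coprime (Nat.card M)) (hK : (Nat.card K).Coprime (Nat.card M))
    (hle : K ≤ H ⊔ M) : ∃ x : G, MulAut.conj x • K ≤ H := by
  set W := K ⊔ M with hW
  set H₁ := H ⊓ W with hH₁
  have hWle : W ≤ H ⊔ M := sup_le hle le_sup_right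
  have hsup : H₁ ⊔ M = W := by
    refine le_antisymm (sup_le inf_le_right le_sup_right) fun w hw => ?_
    have hw' : w ∈ ((H ⊔ M : Subgroup G) : Set G) := hWle hw
    rw [Subgroup.mul_normal] at hw'
    obtain ⟨h, hh, m, hm, rfl⟩ := Set.mem_mul.mp hw'
    have hhW : h ∈ W := (W.mul_mem_cancel_right (le_sup_right (a := K) hm)).mp hw
    exact Subgroup.mul_mem _ (le_sup_left (b := M) ⟨hh, hhW⟩) (le_sup_right (a := H₁) hm)
  have hH₁c : (Nat.card H₁).Coprime (Nat.card M) :=
    hH.coprime_dvd_left (Subgroup.card_dvd_of_le inf_le_left)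
  have cardW : ∀ X : Subgroup G, (Nat.card X).Coprime (Nat.card M) → X ⊔ M = W →
      Nat.card X * Nat.card M = Nat.card W := by
    intro X hX hXW
    refine Nat.dvd_antisymm ?_ (hXW ▸ card_sup_dvd X M)
    exact hX.mul_dvd_of_dvd_of_dvd (hXW ▸ Subgroup.card_dvd_of_le le_sup_left)
      (Subgroup.card_dvd_of_le (hXW ▸ le_sup_right))
  have hcards : Nat.card K = Nat.card H₁ :=
    Nat.eq_of_mul_eq_mul_right Nat.card_pos ((cardW K hK rfl).trans (cardW H₁ hH₁c hsup).symm)
  have hMW : M ≤ W := le_sup_right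
  have compl : ∀ X : Subgroup G, X ≤ W → (Nat.card X).Coprime (Nat.card M) →
      Nat.card X * Nat.card M = Nat.card W →
      IsComplement' (M.subgroupOf W) (X.subgroupOf W) := by
    intro X hX hc hcard
    have e1 := Nat.card_congr (Subgroup.subgroupOfEquivOfLe hMW).toEquiv
    have e2 := Nat.card_congr (Subgroup.subgroupOfEquivOfLe hX).toEquiv
    refine isComplement'_of_coprime ?_ ?_
    · rw [e1, e2, mul_comm, hcard]
    · rw [e1, e2]; exact hc.symm
  have c1 := compl K le_sup_left hK (cardW K hK rfl)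
  have c2 := compl H₁ inf_le_right hH₁c (cardW H₁ hH₁c hsup)
  have hcop : (Nat.card (M.subgroupOf W)).Coprime (M.subgroupOf W).index := by
    rw [← card_eq_index_of_isComplement' c1,
      Nat.card_congr (Subgroup.subgroupOfEquivOfLe hMW).toEquiv,
      Nat.card_congr (Subgroup.subgroupOfEquivOfLe (le_sup_left : K ≤ W)).toEquiv]
    exact hK.symm
  have := isMulCommutative_subgroupOf M W
  obtain ⟨a, -, ha⟩ := exists_conj_eq_of_isComplement'_abelian hcop c1 c2
  obtain ⟨x, -, hx⟩ := exists_conj_of_subgroupOf le_sup_left inf_le_right ⟨a, ha⟩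
  exact ⟨x, hx.le.trans inf_le_left⟩

theorem hall_aux : ∀ (k : ℕ) {G : Type u} [Group G] [Finite G] [Group.IsSolvable G],
    Nat.card G ≤ k → ∀ m n : ℕ, Nat.card G = m * n → m.Coprime n →
      (∃ H : Subgroup G, Nat.card H = m) ∧
      ∀ H K : Subgroup G, Nat.card H = m → (Nat.card K).Coprime n →
        ∃ g : G, MulAut.conj g • K ≤ H := by
  intro k
  induction k with
  | zero => intro G _ _ _ hG; exact absurd hG (by have := Nat.card_pos (α := G); omega)
  | succ k ih =>
    intro G _ _ _ hG m n hmn hco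
    have hn0 : 0 < n := by
      rcases Nat.eq_zero_or_pos n with h | h
      · exact absurd (by rw [hmn, h, mul_zero]) (Nat.card_pos (α := G)).ne'
      · exact h
    have hm0 : 0 < m := by
      rcases Nat.eq_zero_or_pos m with h | h
      · exact absurd (by rw [hmn, h, zero_mul]) (Nat.card_pos (α := G)).ne'
      · exact h
    by_cases htriv : Subsingleton G
    · have h1 : Nat.card G = 1 := Nat.card_unique
      rw [h1] at hmn
      obtain ⟨rfl, rfl⟩ : m = 1 ∧ n = 1 := by
        exact ⟨Nat.eq_one_of_mul_eq_one_right hmn.symm, Nat.eq_one_of_mul_eq_one_left hmn.symm⟩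
      refine ⟨⟨⊥, Subgroup.card_bot⟩, fun H K _ _ => ⟨1, ?_⟩⟩
      rw [Subsingleton.elim (MulAut.conj (1 : G) • K) H]
    have : Nontrivial G := not_subsingleton_iff_nontrivial.mp htriv
    obtain ⟨M, hMn, hMne, hmin⟩ := exists_minimal_normal (G := G)
    obtain ⟨p, hp, hMp, -, hMab⟩ := exists_isPGroup_of_minimal_normal hMne hmin
    have : Fact p.Prime := ⟨hp⟩
    obtain ⟨j, hj⟩ := IsPGroup.iff_card.mp hMp
    set π := QuotientGroup.mk' M with hπ
    have hMcard := M.card_eq_card_quotient_mul_card_subgroup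
    have hMdvd : Nat.card M ∣ m * n := hmn ▸ M.card_subgroup_dvd_card
    have hlt : Nat.card (G ⧸ M) ≤ k :=
      Nat.le_of_lt_succ ((card_quotient_lt hMne).trans_le hG)
    by_cases hpm : p ∣ m
    · have hMn' : (Nat.card M).Coprime n := by
        rw [hj]; exact Nat.Coprime.pow_left _ (hco.coprime_dvd_left hpm)
      obtain ⟨m', hm'⟩ : Nat.card M ∣ m := hMn'.dvd_of_dvd_mul_right hMdvd
      have hQ : Nat.card (G ⧸ M) = m' * n := by
        refine Nat.eq_of_mul_eq_mul_right (Nat.card_pos (α := M)) ?_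
        rw [← hMcard, hmn, hm']; ring
      obtain ⟨hex, hcon⟩ := ih hlt m' n hQ (hco.coprime_dvd_left (Dvd.intro_left _ hm'.symm))
      constructor
      · obtain ⟨H, hH⟩ := hex
        exact ⟨H.comap π, by rw [hπ, card_comap_mk', hH, hm', mul_comm]⟩
      · intro H K hH hK
        have hMH : M ≤ H := by
          have h1 : Nat.card (H ⊔ M : Subgroup G) ∣ m := by
            refine Nat.Coprime.dvd_of_dvd_mul_right ?_ (hmn ▸ (H ⊔ M).card_subgroup_dvd_card)
            refine Nat.Coprime.coprime_dvd_left (card_sup_dvd H M) ?_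
            rw [hH]; exact hco.mul_left hMn'
          have h2 := eq_of_le_of_card_le (le_sup_left : H ≤ H ⊔ M)
            (by rw [hH]; exact Nat.le_of_dvd hm0 h1)
          rw [h2]; exact le_sup_right
        obtain ⟨g, hg⟩ := hcon (H.map π) (K.map π)
          (Nat.eq_of_mul_eq_mul_right (Nat.card_pos (α := M))
            (by rw [card_map_mk'_eq M hMH, hH, hm', mul_comm]))
          (hK.coprime_dvd_left (card_map_mk'_dvd M K))
        obtain ⟨g, rfl⟩ := QuotientGroup.mk'_surjective M g
        rw [← map_conj_smul, Subgroup.map_le_iff_le_comap, hπ, Subgroup.comap_map_eq,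
          QuotientGroup.ker_mk', sup_eq_left.mpr hMH] at hg
        exact ⟨g, hg⟩
    · have hMm : (Nat.card M).Coprime m := by
        rw [hj]; exact Nat.Coprime.pow_left _ (hp.coprime_iff_not_dvd.mpr hpm)
      obtain ⟨n', hn'⟩ : Nat.card M ∣ n := hMm.dvd_of_dvd_mul_left hMdvd
      have hQ : Nat.card (G ⧸ M) = m * n' := by
        refine Nat.eq_of_mul_eq_mul_right (Nat.card_pos (α := M)) ?_
        rw [← hMcard, hmn, hn']; ring
      obtain ⟨hex, hcon⟩ := ih hlt m n' hQ (hco.coprime_dvd_right (Dvd.intro_left _ hn'.symm))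
      constructor
      · obtain ⟨U₀, hU₀⟩ := hex
        set U := U₀.comap π with hU
        have hUc : Nat.card U = m * Nat.card M := by rw [hU, hπ, card_comap_mk', hU₀]
        have hMU : M ≤ U := by
          intro x hx; simp [hU, hπ, (QuotientGroup.eq_one_iff x).mpr hx]
        have e1 := Nat.card_congr (Subgroup.subgroupOfEquivOfLe hMU).toEquiv
        have hidx : (M.subgroupOf U).index = m := by
          refine Nat.eq_of_mul_eq_mul_right (Nat.card_pos (α := M.subgroupOf U)) ?_
          rw [Subgroup.index_mul_card, hUc, e1]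
        obtain ⟨C, hC⟩ := Subgroup.exists_right_complement'_of_coprime
          (N := M.subgroupOf U) (by rw [e1, hidx]; exact hMm)
        exact ⟨C.map U.subtype, by
          rw [Subgroup.card_map_of_injective U.subtype_injective,
            card_eq_index_of_isComplement' hC, hidx]⟩
      · intro H K hH hK
        have hH' : (Nat.card H).Coprime (Nat.card M) := hH ▸ hMm.symm
        have hK' : (Nat.card K).Coprime (Nat.card M) :=
          hK.coprime_dvd_right (Dvd.intro _ hn'.symm)
        have hdis : H ⊓ M = ⊥ := by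
          rw [← Subgroup.card_eq_one]
          exact Nat.eq_one_of_dvd_coprimes hH' (Subgroup.card_dvd_of_le inf_le_left)
            (Subgroup.card_dvd_of_le inf_le_right)
        obtain ⟨g, hg⟩ := hcon (H.map π) (K.map π)
          (by have := card_map_mk'_mul M H
              rwa [hdis, Subgroup.card_bot, mul_one, hH] at this)
          (hK.coprime_dvd_left (card_map_mk'_dvd M K) |>.coprime_dvd_right (Dvd.intro_left _ hn'.symm))
        obtain ⟨g, rfl⟩ := QuotientGroup.mk'_surjective M g
        rw [← map_conj_smul, Subgroup.map_le_iff_le_comap, hπ, Subgroup.comap_map_eq,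
          QuotientGroup.ker_mk'] at hg
        obtain ⟨x, hx⟩ := exists_conj_le_of_le_sup hH' (by rwa [card_conj_smul]) hg
        exact ⟨x * g, by rwa [← conj_smul_conj_smul]⟩

variable [Finite G] [Group.IsSolvable G]

theorem exists_hall {m n : ℕ} (hG : Nat.card G = m * n) (hmn : m.Coprime n) :
    ∃ H : Subgroup G, Nat.card H = m :=
  (hall_aux _ le_rfl m n hG hmn).1

theorem exists_conj_le_hall {m n : ℕ} (hG : Nat.card G = m * n) (hmn : m.Coprime n)
    {H K : Subgroup G} (hH : Nat.card H = m) (hK : (Nat.card K).Coprime n) :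
    ∃ g : G, MulAut.conj g • K ≤ H :=
  (hall_aux _ le_rfl m n hG hmn).2 H K hH hK

theorem hall_conj {m n : ℕ} (hG : Nat.card G = m * n) (hmn : m.Coprime n)
    {H K : Subgroup G} (hH : Nat.card H = m) (hK : Nat.card K = m) :
    ∃ g : G, MulAut.conj g • H = K := by
  obtain ⟨g, hg⟩ := exists_conj_le_hall hG hmn hK (K := H) (hH ▸ hmn)
  exact ⟨g, eq_of_le_of_card_le hg (by rw [card_conj_smul, hH, hK])⟩

theorem exists_hall_ge {m n : ℕ} (hG : Nat.card G = m * n) (hmn : m.Coprime n)
    {K : Subgroup G} (hK : (Nat.card K).Coprime n) :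
    ∃ H : Subgroup G, Nat.card H = m ∧ K ≤ H := by
  obtain ⟨H, hH⟩ := exists_hall hG hmn
  obtain ⟨g, hg⟩ := exists_conj_le_hall hG hmn hH hK
  refine ⟨MulAut.conj g⁻¹ • H, by rw [card_conj_smul, hH], ?_⟩
  have := conj_smul_mono g⁻¹ hg
  rwa [conj_smul_conj_smul, inv_mul_cancel, conj_one_smul] at this

end CfsgLib.Solvable
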