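import Cfsg.Agent.Lib.Transfer.HallComplement
import Cfsg.Agent.Lib.Solvable.Basic

/-!
# Wielandt's theorem on nilpotent Hall subgroups
-/

namespace CfsgLib.Solvable

open Subgroup
open scoped Pointwise commutatorElement

/-- An element of `N` lies in a normal subgroup `C` of `N` if its order is prime to the index. -/
theorem mem_of_coprime_relIndex {G : Type*} [Group G] {C N : Subgroup G}
    (hn : (C.subgroupOf N).Normal) {g : G} (hg : g ∈ N)
    (hcop : (orderOf g).Coprime (C.relIndex N)) : g ∈ C := by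
  have h1 : ((⟨g, hg⟩ : N) : N ⧸ C.subgroupOf N) = 1 := by
    rw [← orderOf_eq_one_iff]
    refine Nat.eq_one_of_dvd_coprimes hcop
      ((orderOf_map_dvd (QuotientGroup.mk' (C.subgroupOf N)) _).trans (orderOf_mk g hg).dvd) ?_
    rw [relIndex, index_eq_card]
    exact orderOf_dvd_natCard _
  exact (QuotientGroup.eq_one_iff (⟨g, hg⟩ : N)).1 h1

/-- A finite group with normal `p`-complements for all primes is nilpotent. -/
theorem isNilpotent_of_forall_hasNormalPComplement {G : Type*} [Group G] [Finite G]
    (h : ∀ p, p.Prime → Cfsg.HasNormalPComplement p G) : Group.IsNilpotent G := by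
  have hcomm : ∀ p, p.Prime → ∀ x y : G, (orderOf x).Coprime p → (∃ k, orderOf y = p ^ k) →
      Commute x y := by
    intro p hp x y hx ⟨k, hy⟩
    have := Fact.mk hp
    rw [commute_iff_eq, ← commutatorElement_eq_one_iff_mul_comm, ← orderOf_eq_one_iff]
    refine Nat.eq_one_iff_not_exists_prime_dvd.2 fun q hq hqc => ?_
    have := Fact.mk hq
    have hn := CfsgLib.Transfer.pResidual_normal (G := G) (p := q)
    have hmem : ⁅x, y⁆ ∈ Cfsg.pResidual q G := by
      by_cases hqp : q = p
      · subst hqp
        have hxN : x ∈ Cfsg.pResidual q G := CfsgLib.Transfer.mem_pResidual_of_coprime hx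
        rw [commutatorElement_def, mul_assoc, mul_assoc, ← mul_assoc y]
        exact mul_mem hxN (hn.conj_mem _ (inv_mem hxN) y)
      · have hyN : y ∈ Cfsg.pResidual q G := CfsgLib.Transfer.mem_pResidual_of_coprime
          (hy ▸ ((Nat.coprime_primes hp hq).2 (Ne.symm hqp)).pow_left k)
        rw [commutatorElement_def]
        exact mul_mem (hn.conj_mem _ hyN x) (inv_mem hyN)
    refine hq.coprime_iff_not_dvd.1
      (CfsgLib.Transfer.hasNormalPComplement_iff_coprime_pResidual.1 (h q hq)).symm ?_
    exact hqc.trans (orderOf_dvd_natCard _ hmem)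
  refine (Group.isNilpotent_of_finite_tfae.out 0 3).2 fun p hp T => ?_
  have := hp
  refine normalizer_eq_top_iff.1 (eq_top_of_card_eq _ (Nat.dvd_antisymm
    (card_subgroup_dvd_card _) ((Nat.dvd_iff_prime_pow_dvd_dvd _ _).2 fun q k hq hqk => ?_)))
  have := Fact.mk hq
  by_cases hqp : q = p
  · subst hqp
    exact (T.pow_dvd_card_of_pow_dvd_card hqk).trans (card_dvd_of_le le_normalizer)
  · obtain ⟨Q, hQ⟩ := Sylow.exists_subgroup_card_pow_prime q hqk
    rw [← hQ]
    refine card_dvd_of_le ?_
    refine le_trans ?_ (centralizer_le_normalizer _)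
    intro a ha
    refine mem_centralizer_iff.2 fun t ht => ?_
    obtain ⟨i, hi⟩ := (IsPGroup.iff_orderOf.1 T.2) ⟨t, ht⟩
    rw [Subgroup.orderOf_mk] at hi
    refine (hcomm p hp.out a t ?_ ⟨i, hi⟩).symm.eq
    exact ((Nat.coprime_primes hq hp.out).2 hqp).pow_left k |>.coprime_dvd_left
      ((Subgroup.orderOf_dvd_natCard _ ha).trans hQ.dvd)

/-- A Hall subgroup contains a Sylow subgroup of the group, centralized by all its elements of
order prime to `q` if it is nilpotent. -/
theorem exists_sylow_le_centralized {G : Type*} [Group G] [Finite G] (H : Subgroup G)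
    [Group.IsNilpotent H] (hHall : (Nat.card H).Coprime H.index) {q : ℕ} [Fact q.Prime]
    (hq : q ∣ Nat.card H) :
    ∃ Q : Sylow q G, (Q : Subgroup G) ≤ H ∧
      ∀ h ∈ H, (orderOf h).Coprime q → h ∈ centralizer ((Q : Subgroup G) : Set G) := by
  obtain ⟨Q, hQ⟩ := CfsgLib.Transfer.exists_sylow_eq_map_subtype H hHall hq default
  refine ⟨Q, hQ ▸ map_subtype_le _, fun h hh hcop => mem_centralizer_iff.2 fun b hb => ?_⟩
  rw [SetLike.mem_coe, hQ] at hb
  obtain ⟨b, hbT, rfl⟩ := hb
  obtain ⟨k, hk⟩ := (IsPGroup.iff_orderOf.1 (default : Sylow q H).2) ⟨b, hbT⟩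
  rw [Subgroup.orderOf_mk] at hk
  exact (congrArg Subtype.val (OddLocal.commute_of_coprime_of_isNilpotent ‹Group.IsNilpotent H›
    (x := (⟨h, hh⟩ : H)) (y := b) (by rw [Subgroup.orderOf_mk, hk]; exact hcop.pow_right k)).eq).symm

theorem isNilpotent_conj_smul {G : Type*} [Group G] (H : Subgroup G) [Group.IsNilpotent H]
    (x : G) : Group.IsNilpotent (MulAut.conj x • H : Subgroup G) :=
  (Group.isNilpotent_congr (H.equivMapOfInjective (MulAut.conj x).toMonoidHom
    (MulEquiv.injective _))).1 ‹_›

/-- Subgroups of order involving only primes of a nilpotent Hall subgroup are nilpotent. -/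
theorem isNilpotent_of_primes_subset {G : Type*} [Group G] [Finite G] (H : Subgroup G)
    [Group.IsNilpotent H] (hHall : (Nat.card H).Coprime H.index) (K : Subgroup G)
    (hK : ∀ p : ℕ, p.Prime → p ∣ Nat.card K → p ∣ Nat.card H) : Group.IsNilpotent K := by
  refine isNilpotent_of_forall_hasNormalPComplement fun q hq => ?_
  have := Fact.mk hq
  refine CfsgLib.Transfer.hasNormalPComplement_iff_frobenius.2 fun D hD g hg hgq => ?_
  refine mem_centralizer_iff.2 fun d hd => Subtype.ext ?_
  by_cases hqK : q ∣ Nat.card K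
  swap
  · have hd1 : d = 1 := by
      obtain ⟨k, hk⟩ := (IsPGroup.iff_orderOf.1 hD) ⟨d, hd⟩
      rw [Subgroup.orderOf_mk] at hk
      rcases Nat.eq_zero_or_pos k with rfl | hk0
      · exact orderOf_eq_one_iff.1 (by simpa using hk)
      · exact absurd ((dvd_pow_self q hk0.ne').trans (hk ▸ orderOf_dvd_natCard d)) hqK
    simp [hd1]
  -- move `H` so that it contains the image of `D`
  set E := D.map K.subtype with hE
  obtain ⟨P, hP⟩ := (hD.map K.subtype).exists_le_sylow
  obtain ⟨Q₀, hQ₀, -⟩ := exists_sylow_le_centralized H hHall (hK q hq hqK)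
  obtain ⟨x, hx⟩ := MulAction.exists_smul_eq G Q₀ P
  set H' := MulAut.conj x • H with hH'
  have := isNilpotent_conj_smul H x
  have hcard : Nat.card H' = Nat.card H := card_conj_smul x H
  have hHall' : (Nat.card H').Coprime H'.index := by rwa [hcard, hH', index_conj_smul]
  have hPH : (P : Subgroup G) ≤ H' := by
    rw [← hx, Sylow.coe_subgroup_smul]
    exact conj_smul_mono x hQ₀
  have hEH : E ≤ H' := hP.trans hPH
  have hgN : (g : G) ∈ normalizer (E : Set G) := le_normalizer_map K.subtype ⟨g, hg, rfl⟩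
  refine mem_centralizer_iff.1 (mem_of_coprime_relIndex (C := centralizer (E : Set G))
    ?_ hgN ?_) d (mem_map_of_mem _ hd)
  · rw [normal_subgroupOf_iff (centralizer_le_normalizer _)]
    intro c n hc hn
    refine mem_centralizer_iff.2 fun e he => ?_
    have h1 : n⁻¹ * e * n ∈ E := by
      simpa using (mem_normalizer_iff.1 (inv_mem hn) e).1 he
    have h2 := mem_centralizer_iff.1 hc _ h1
    calc e * (n * c * n⁻¹) = n * ((n⁻¹ * e * n) * c) * n⁻¹ := by group
      _ = n * (c * (n⁻¹ * e * n)) * n⁻¹ := by rw [h2]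
      _ = _ := by group
  · rw [orderOf_coe]
    refine Nat.coprime_of_dvd fun r hr hrg hri => ?_
    have := Fact.mk hr
    have hrq : r ≠ q := by
      rintro rfl
      exact hr.coprime_iff_not_dvd.1 hgq.symm hrg
    obtain ⟨R, hRH, -⟩ := exists_sylow_le_centralized H' hHall' (q := r)
      (hcard ▸ hK r hr (hrg.trans (orderOf_dvd_natCard g)))
    obtain ⟨Q, hQH, hQc⟩ := exists_sylow_le_centralized H' hHall' (q := q) (hcard ▸ hK q hq hqK)
    refine R.not_dvd_index (hri.trans ?_)
    have hRC : (R : Subgroup G) ≤ centralizer (E : Set G) := by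
      intro a ha
      refine mem_centralizer_iff.2 fun e he => ?_
      obtain ⟨i, hi⟩ := (IsPGroup.iff_orderOf.1 R.2) ⟨a, ha⟩
      obtain ⟨j, hj⟩ := (IsPGroup.iff_orderOf.1 (hD.map K.subtype)) ⟨e, he⟩
      rw [Subgroup.orderOf_mk] at hi hj
      exact congrArg Subtype.val (OddLocal.commute_of_coprime_of_isNilpotent
        ‹Group.IsNilpotent H'› (x := (⟨e, hEH he⟩ : H')) (y := ⟨a, hRH ha⟩)
        (by rw [Subgroup.orderOf_mk, Subgroup.orderOf_mk, hi, hj]
            exact ((Nat.coprime_primes hq hr).2 hrq.symm).pow j i)).eq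
    exact (dvd_mul_right _ _).trans (relIndex_mul_index (centralizer_le_normalizer _)).dvd
      |>.trans (index_dvd_of_le hRC)

theorem exists_conj_le_aux {G : Type*} [Group G] [Finite G] (H : Subgroup G)
    [Group.IsNilpotent H] (hHall : (Nat.card H).Coprime H.index) : ∀ (n : ℕ) (K : Subgroup G),
    Nat.card K ≤ n → (∀ p : ℕ, p.Prime → p ∣ Nat.card K → p ∣ Nat.card H) →
    ∃ x : G, K ≤ MulAut.conj x • H := by
  intro n
  induction n with
  | zero => intro K hK _; exact absurd hK (Nat.card_pos (α := K)).not_ge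
  | succ n ih =>
    intro K hKn hK
    by_cases hK1 : Nat.card K = 1
    · exact ⟨1, by rw [card_eq_one.1 hK1]; exact bot_le⟩
    obtain ⟨q, hq, hqK⟩ := Nat.exists_prime_and_dvd hK1
    have := Fact.mk hq
    have hKnil := isNilpotent_of_primes_subset H hHall K hK
    let T : Sylow q K := default
    have hTn : (T : Subgroup K).Normal :=
      T.normal_of_normalizerCondition Group.normalizerCondition_of_isNilpotent
    obtain ⟨R, hR⟩ := exists_right_complement'_of_coprime (N := (T : Subgroup K))
      T.card_coprime_index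
    set R' := R.map K.subtype with hR'
    set T' := (T : Subgroup K).map K.subtype with hT'
    have hRc : Nat.card R' = Nat.card R := card_map_of_injective K.subtype_injective
    have hcopR : (Nat.card R').Coprime q := by
      rw [hRc, ← hR.symm.index_eq_card]
      exact (hq.coprime_iff_not_dvd.2 T.not_dvd_index).symm
    have hlt : Nat.card R' ≤ n := by
      have hT1 : 1 < Nat.card T :=
        Finite.one_lt_card_iff_nontrivial.2 ((nontrivial_iff_ne_bot _).2 (T.ne_bot_of_dvd_card hqK))
      have := hR.card_mul_card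
      rw [hRc]
      have := Nat.card_pos (α := R)
      nlinarith
    obtain ⟨x, hx⟩ := ih R' hlt fun p hp hpR =>
      hK p hp (hpR.trans (hRc ▸ R.card_subgroup_dvd_card))
    set H' := MulAut.conj x • H with hH'
    have := isNilpotent_conj_smul H x
    have hcard : Nat.card H' = Nat.card H := card_conj_smul x H
    have hHall' : (Nat.card H').Coprime H'.index := by rwa [hcard, hH', index_conj_smul]
    obtain ⟨Q, hQH, hQc⟩ := exists_sylow_le_centralized H' hHall' (hcard ▸ hK q hq hqK)
    have hQR : (Q : Subgroup G) ≤ centralizer (R' : Set G) :=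
      le_centralizer_iff.1 fun r hr =>
        hQc r (hx hr) (hcopR.coprime_dvd_left (Subgroup.orderOf_dvd_natCard _ hr))
    have hTR : T' ≤ centralizer (R' : Set G) := by
      rintro _ ⟨t, ht, rfl⟩
      refine mem_centralizer_iff.2 ?_
      rintro _ ⟨r, hr, rfl⟩
      obtain ⟨i, hi⟩ := (IsPGroup.iff_orderOf.1 T.2) ⟨t, ht⟩
      rw [Subgroup.orderOf_mk] at hi
      exact congrArg K.subtype (OddLocal.commute_of_coprime_of_isNilpotent hKnil (x := r) (y := t)
        (by
          rw [hi]
          exact ((hRc ▸ hcopR).coprime_dvd_left (Subgroup.orderOf_dvd_natCard _ hr)).pow_right i)).eq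
    -- Sylow's theorem in the centralizer of `R'`
    obtain ⟨S, hS⟩ := ((T.2.map K.subtype).comap_of_injective _
      (centralizer (R' : Set G)).subtype_injective).exists_le_sylow
    obtain ⟨c, hc⟩ := MulAction.exists_smul_eq (centralizer (R' : Set G)) (Q.subtype hQR) S
    refine ⟨(c : G) * x, ?_⟩
    rw [← conj_smul_conj_smul]
    have hKeq : K = T' ⊔ R' := by
      rw [hT', hR', ← Subgroup.map_sup, hR.sup_eq_top, ← MonoidHom.range_eq_map, range_subtype]
    rw [hKeq, sup_le_iff]
    refine ⟨fun t ht => ?_, fun r hr => ?_⟩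
    · have h1 : (⟨t, hTR ht⟩ : centralizer (R' : Set G)) ∈ S := hS ht
      rw [← hc, Sylow.smul_subtype hQR] at h1
      exact conj_smul_mono (c : G) hQH h1
    · refine mem_conj_smul.2 ?_
      have := mem_centralizer_iff.1 c.2 r hr
      rw [mul_assoc, this, inv_mul_cancel_left]
      exact hx hr

end CfsgLib.Solvable
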