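import Cfsg.Agent.Lib.Solvable.Basic
import Mathlib.GroupTheory.Sylow
import Mathlib.RingTheory.Coprime.Lemmas
import Mathlib.RingTheory.PrincipalIdealDomain
import Mathlib.RingTheory.Int.Basic

/-!
Complements in commutative groups of prime exponent.
-/

set_option autoImplicit false

namespace CfsgLib.Solvable

open Subgroup
open scoped Pointwise

/-- In a finite commutative group of prime exponent every subgroup has a complement. -/
theorem exists_isCompl_of_pow_eq_one {Q : Type*} [CommGroup Q] [Finite Q] {p : ℕ} [hp : Fact p.Prime]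
    (h : ∀ q : Q, q ^ p = 1) (A : Subgroup Q) : ∃ B : Subgroup Q, IsCompl A B := by
  classical
  have : Finite (Subgroup Q) := Finite.of_injective _ SetLike.coe_injective
  obtain ⟨B, -, hB⟩ := Finite.exists_le_maximal (p := fun B : Subgroup Q => A ⊓ B = ⊥) (a := ⊥)
    (inf_bot_eq _)
  refine ⟨B, disjoint_iff.mpr hB.1, codisjoint_iff.mpr (eq_top_iff.mpr fun x _ => ?_)⟩
  by_contra hx
  have hxB : x ∉ B := fun hh => hx (Subgroup.mem_sup_right hh)
  have h2 : A ⊓ (B ⊔ zpowers x) ≠ ⊥ := fun he =>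
    hxB (hB.2 he le_sup_left (Subgroup.mem_sup_right (mem_zpowers x)))
  apply h2
  rw [eq_bot_iff]
  rintro a ⟨ha, hab⟩
  obtain ⟨b, hb, z, hz, rfl⟩ := Subgroup.mem_sup.mp (hab : a ∈ B ⊔ zpowers x)
  obtain ⟨k, rfl⟩ := hz
  by_cases hk : (p : ℤ) ∣ k
  · obtain ⟨m, rfl⟩ := hk
    have : x ^ ((p : ℤ) * m) = 1 := by rw [zpow_mul, zpow_natCast, h, one_zpow]
    simp only [this, mul_one] at ha ⊢
    rw [← hB.1]
    exact ⟨ha, hb⟩
  · exfalso
    apply hx
    obtain ⟨u, v, huv⟩ : IsCoprime (p : ℤ) k :=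
      (Prime.coprime_iff_not_dvd (Nat.prime_iff_prime_int.mp hp.out)).mpr hk
    have hxk : x ^ k ∈ A ⊔ B := by
      have := Subgroup.mul_mem (A ⊔ B) (Subgroup.mem_sup_left (T := B) ha)
        (Subgroup.mem_sup_right (S := A) (B.inv_mem hb))
      rwa [mul_right_comm, mul_inv_cancel, one_mul] at this
    have hx' : x = (x ^ k) ^ v := by
      rw [← zpow_mul]
      nth_rw 1 [← zpow_one x, ← huv, zpow_add, mul_comm u, zpow_mul, zpow_natCast, h, one_zpow,
        one_mul, mul_comm v]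
    rw [hx']
    exact Subgroup.zpow_mem _ hxk v

end CfsgLib.Solvable
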