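import Cfsg.Agent.Lib.Solvable.Frattini

/-!
Further facts on Frattini subgroups.
-/

set_option autoImplicit false

namespace CfsgLib.Solvable

open Subgroup
open scoped Pointwise commutatorElement IsMulCommutative

variable {G : Type*} [Group G]

/-- Gaschütz: a normal subgroup lying in the Frattini subgroup of some subgroup lies in the
Frattini subgroup of the whole group. -/
theorem le_frattini_of_le_frattini_subgroup [Finite G] {N Y : Subgroup G} [N.Normal]
    (h : N ≤ (frattini Y).map Y.subtype) : N ≤ frattini G := by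
  by_contra hc
  obtain ⟨M, hM, hsup, hle⟩ := exists_coatom_sup_eq_top hc
  have hNY : N ≤ Y := h.trans (Subgroup.map_subtype_le _)
  have hN' : N.subgroupOf Y ≤ frattini Y := by
    intro y hy
    obtain ⟨z, hz, he⟩ := h hy
    rwa [Subgroup.subtype_injective Y he] at hz
  have htop : M.subgroupOf Y = ⊤ := by
    refine eq_top_of_sup_eq_top_of_le_frattini hN' (eq_top_iff.mpr fun y _ => ?_)
    have hy : (y : G) ∈ ((N ⊔ M : Subgroup G) : Set G) := by rw [hsup]; trivial
    rw [Subgroup.normal_mul] at hy
    obtain ⟨n, hn, m, hm, hnm⟩ := Set.mem_mul.mp hy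
    have hmY : m ∈ Y := (Y.mul_mem_cancel_left (hNY hn)).mp (hnm ▸ y.2)
    have he : y = (⟨n, hNY hn⟩ : Y) * ⟨m, hmY⟩ := Subtype.ext hnm.symm
    rw [he]
    exact Subgroup.mul_mem _ (Subgroup.mem_sup_right (show (⟨n, hNY hn⟩ : Y) ∈ N.subgroupOf Y from hn))
      (Subgroup.mem_sup_left (show (⟨m, hmY⟩ : Y) ∈ M.subgroupOf Y from hm))
  exact hle (hNY.trans (Subgroup.subgroupOf_eq_top.mp htop))

/-- In a finite nilpotent group the derived subgroup lies in the Frattini subgroup. -/
theorem commutator_le_frattini [Finite G] [Group.IsNilpotent G] : commutator G ≤ frattini G := by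
  refine le_iInf₂ fun M hM => ?_
  have : M.Normal := (Group.isNilpotent_of_finite_tfae (G := G)).out 0 2 rfl rfl |>.mp ‹_› M hM
  have : IsSimpleGroup (G ⧸ M) := by
    have : Nontrivial (G ⧸ M) := by
      rw [← Finite.one_lt_card_iff_nontrivial, ← Subgroup.index_eq_card]
      exact M.one_lt_index_of_ne_top hM.1
    refine ⟨fun H _ => ?_⟩
    rcases hM.le_iff.mp (show M ≤ H.comap (QuotientGroup.mk' M) from fun y hy => by
      simp [(QuotientGroup.eq_one_iff y).mpr hy]) with h | h
    · exact Or.inr (Subgroup.comap_injective (QuotientGroup.mk'_surjective M)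
        (h.trans (Subgroup.comap_top _).symm))
    · refine Or.inl ?_
      rw [← Subgroup.map_comap_eq_self_of_surjective (QuotientGroup.mk'_surjective M) H, h,
        QuotientGroup.map_mk'_self]
  rw [commutator_def, Subgroup.commutator_le]
  intro a _ b _
  rw [← QuotientGroup.eq_one_iff]
  change QuotientGroup.mk' M ⁅a, b⁆ = 1
  rw [map_commutatorElement, commutatorElement_eq_one_iff_mul_comm]
  exact IsSimpleGroup.comm_iff_isSolvable.mpr inferInstance _ _

end CfsgLib.Solvable
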