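import Cfsg.Agent.Lib.Solvable.Fitting
import Cfsg.Agent.Lib.Solvable.MinNormal
import Mathlib.GroupTheory.Frattini

/-!
The Frattini subgroup of a finite group: non-generation, nilpotence modulo the Frattini subgroup,
complements of abelian normal subgroups.
-/

set_option autoImplicit false

namespace CfsgLib.Solvable

open Subgroup
open scoped Pointwise IsMulCommutative

variable {G : Type*} [Group G]

theorem exists_coatom_sup_eq_top {N : Subgroup G} (h : ¬ N ≤ frattini G) :
    ∃ M : Subgroup G, IsCoatom M ∧ N ⊔ M = ⊤ ∧ ¬ N ≤ M := by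
  by_contra hc
  refine h (le_iInf₂ fun M hM => ?_)
  by_contra hNM
  exact hc ⟨M, hM, hM.2 _ (lt_of_le_of_ne le_sup_right fun he => hNM (he ▸ le_sup_left)), hNM⟩

theorem eq_top_of_sup_eq_top_of_le_frattini [Finite G] {K N : Subgroup G} (hN : N ≤ frattini G)
    (h : K ⊔ N = ⊤) : K = ⊤ := by
  have : Finite (Subgroup G) := Finite.of_injective _ SetLike.coe_injective
  refine frattini_nongenerating (top_le_iff.mp ?_)
  rw [← h]
  exact sup_le_sup_left hN K

/-- If `A/B` is nilpotent, `A`, `B` normal and `B ≤ Φ(G)`, then `A` is nilpotent. -/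
theorem isNilpotent_of_quotient_frattini [Finite G] {A B : Subgroup G} [A.Normal] [B.Normal]
    (hBA : B ≤ A) (hB : B ≤ frattini G) (h : Group.IsNilpotent (↥A ⧸ B.subgroupOf A)) :
    Group.IsNilpotent A := by
  refine (Group.isNilpotent_of_finite_tfae (G := A)).out 3 0 rfl rfl |>.mp ?_
  intro p hp P
  have : Fact p.Prime := hp
  set π := QuotientGroup.mk' (B.subgroupOf A) with hπ
  have hsurj : Function.Surjective π := QuotientGroup.mk'_surjective _
  -- `PB` is characteristic in `A`
  have hchar : ((P : Subgroup A) ⊔ B.subgroupOf A).Normal := by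
    have hn : (((P.mapSurjective hsurj) : Sylow p (↥A ⧸ B.subgroupOf A)) :
        Subgroup (↥A ⧸ B.subgroupOf A)).Normal := inferInstance
    have := hn.comap π
    rwa [Sylow.coe_mapSurjective, Subgroup.comap_map_eq, QuotientGroup.ker_mk'] at this
  -- it is normal in `G`
  set Q := (P : Subgroup A).map A.subtype with hQ
  have hnor : (Q ⊔ B).Normal := by
    refine normal_of_forall_conj_smul_eq fun g => ?_
    have key : ∀ x : G, MulAut.conj x • (Q ⊔ B) ≤ Q ⊔ B := by
      intro x
      rw [Subgroup.smul_sup, Subgroup.Normal.conj_smul_eq_self x B]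
      refine sup_le ?_ le_sup_right
      set φ := MulAut.conjNormal (H := A) x with hφ
      obtain ⟨P', hP'⟩ : ∃ P' : Sylow p A, (P' : Subgroup A) = (P : Subgroup A).map φ.toMonoidHom :=
        ⟨P.mapSurjective (f := φ.toMonoidHom) φ.surjective, rfl⟩
      obtain ⟨a, ha⟩ := MulAction.exists_smul_eq A P P'
      have hle : (P' : Subgroup A) ≤ (P : Subgroup A) ⊔ B.subgroupOf A := by
        rw [← ha, Sylow.coe_subgroup_smul]
        calc MulAut.conj a • (P : Subgroup A)
            ≤ MulAut.conj a • ((P : Subgroup A) ⊔ B.subgroupOf A) := conj_smul_mono a le_sup_left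
          _ = _ := Subgroup.Normal.conj_smul_eq_self a _
      have h2 := Subgroup.map_mono (f := A.subtype) hle
      rw [Subgroup.map_sup, Subgroup.map_subgroupOf_eq_of_le hBA, hP', Subgroup.map_map] at h2
      refine le_trans (le_of_eq ?_) h2
      rw [hQ, conj_smul_eq_map, Subgroup.map_map]
      rfl
    refine le_antisymm (key g) ?_
    have h2 := conj_smul_mono g (key g⁻¹)
    rwa [conj_smul_conj_smul, mul_inv_cancel, conj_one_smul] at h2
  -- Frattini argument
  have hPle : (P : Subgroup A).map A.subtype ≤ Q ⊔ B := le_sup_left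
  have hQA : Q ⊔ B ≤ A := sup_le (Subgroup.map_subtype_le _) hBA
  let P' : Sylow p (Q ⊔ B : Subgroup G) :=
    (P.subtype (N := (Q ⊔ B).subgroupOf A) (Subgroup.map_le_iff_le_comap.mp hPle)).mapSurjective
      (f := (Subgroup.subgroupOfEquivOfLe hQA).toMonoidHom)
      (Subgroup.subgroupOfEquivOfLe hQA).surjective
  have hP' : (P' : Subgroup (Q ⊔ B : Subgroup G)).map (Q ⊔ B).subtype = Q := by
    ext x
    constructor
    · rintro ⟨y, ⟨z, hz, rfl⟩, rfl⟩
      exact ⟨z.1, hz, rfl⟩
    · rintro ⟨z, hz, rfl⟩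
      have hz' : (z : G) ∈ Q ⊔ B := hPle ⟨z, hz, rfl⟩
      exact ⟨⟨z, hz'⟩, ⟨⟨z, hz'⟩, hz, rfl⟩, rfl⟩
  have hfr := Sylow.normalizer_sup_eq_top P'
  rw [hP'] at hfr
  have htop : normalizer (Q : Set G) = ⊤ := by
    refine eq_top_of_sup_eq_top_of_le_frattini hB (top_le_iff.mp ?_)
    rw [← hfr]
    exact sup_le le_sup_left (sup_le ((Subgroup.le_normalizer).trans le_sup_left) le_sup_right)
  have hQn : Q.Normal := Subgroup.normalizer_eq_top_iff.mp htop
  exact hQn.of_map_subtype

theorem isNilpotent_of_isNilpotent_quotient_frattini [Finite G]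
    (h : Group.IsNilpotent (G ⧸ frattini G)) : Group.IsNilpotent G := by
  refine (Group.isNilpotent_top (G := G)).mp ?_
  refine isNilpotent_of_quotient_frattini (A := ⊤) le_top le_rfl ?_
  let e : (↥(⊤ : Subgroup G) ⧸ (frattini G).subgroupOf ⊤) ≃* G ⧸ frattini G :=
    QuotientGroup.congr _ _ Subgroup.topEquiv (by
      ext x
      exact ⟨fun ⟨y, hy, he⟩ => he ▸ hy, fun hx => ⟨⟨x, trivial⟩, hx, rfl⟩⟩)
  exact (Group.isNilpotent_congr e).mpr h

/-- If `A` is abelian normal and `A ⊔ M = ⊤` then `A ⊓ M` is normal. -/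
theorem inf_normal_of_sup_eq_top {A M : Subgroup G} [A.Normal] [hA : IsMulCommutative A]
    (h : A ⊔ M = ⊤) : (A ⊓ M).Normal := by
  rw [← Subgroup.normalizer_eq_top_iff, eq_top_iff, ← h]
  refine sup_le ?_ ?_
  · intro a ha
    rw [← conj_smul_eq_self_iff]
    ext x
    rw [mem_conj_smul]
    constructor
    · intro hx
      have hxA : x ∈ A := by
        have h2 := A.mul_mem (A.mul_mem ha hx.1) (A.inv_mem ha)
        simpa [mul_assoc] using h2
      have hc : a⁻¹ * x = x * a⁻¹ :=
        congrArg Subtype.val (hA.is_comm.comm (⟨a⁻¹, A.inv_mem ha⟩ : A) ⟨x, hxA⟩)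
      rwa [hc, inv_mul_cancel_right] at hx
    · intro hx
      have hc : a⁻¹ * x = x * a⁻¹ :=
        congrArg Subtype.val (hA.is_comm.comm (⟨a⁻¹, A.inv_mem ha⟩ : A) ⟨x, hx.1⟩)
      rwa [hc, inv_mul_cancel_right]
  · intro m hm
    rw [← conj_smul_eq_self_iff, Subgroup.smul_inf, Subgroup.Normal.conj_smul_eq_self m A,
      conj_smul_eq_self_of_mem hm]

/-- An abelian normal subgroup meeting the Frattini subgroup trivially has a complement. -/
theorem exists_isComplement'_of_inf_frattini [Finite G] {A : Subgroup G} [A.Normal]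
    [IsMulCommutative A] (h : A ⊓ frattini G = ⊥) : ∃ H : Subgroup G, IsComplement' A H := by
  classical
  -- choose a supplement of least order
  have hex : ∃ k, ∃ H : Subgroup G, A ⊔ H = ⊤ ∧ Nat.card H = k := ⟨_, ⊤, sup_top_eq _, rfl⟩
  obtain ⟨H, hsup, hcard⟩ := Nat.find_spec hex
  have hmin : ∀ K : Subgroup G, A ⊔ K = ⊤ → K ≤ H → K = H := fun K hK hKH =>
    eq_of_le_of_card_le hKH (hcard.trans_le (Nat.find_le ⟨K, hK, rfl⟩))
  have hn := inf_normal_of_sup_eq_top hsup
  refine ⟨H, ?_⟩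
  have hdis : A ⊓ H = ⊥ := by
    by_contra hne
    have hnle : ¬ A ⊓ H ≤ frattini G := fun hle =>
      hne (le_bot_iff.mp (h ▸ le_inf inf_le_left hle))
    obtain ⟨M, hM, hMsup, hMle⟩ := exists_coatom_sup_eq_top hnle
    have hHM : A ⊔ (H ⊓ M) = ⊤ := by
      rw [eq_top_iff, ← hsup]
      refine sup_le le_sup_left fun x hx => ?_
      have hx' : x ∈ ((A ⊓ H ⊔ M : Subgroup G) : Set G) := by rw [hMsup]; trivial
      rw [Subgroup.normal_mul] at hx'
      obtain ⟨a, ha, m, hm, rfl⟩ := Set.mem_mul.mp hx'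
      have hmH : m ∈ H := (H.mul_mem_cancel_left (Subgroup.mem_inf.mp ha).2).mp hx
      exact Subgroup.mul_mem _ (Subgroup.mem_sup_left (Subgroup.mem_inf.mp ha).1)
        (Subgroup.mem_sup_right ⟨hmH, hm⟩)
    exact hMle (inf_le_right.trans ((hmin _ hHM inf_le_left).ge.trans inf_le_right))
  refine isComplement'_of_disjoint_and_mul_eq_univ (disjoint_iff.mpr hdis) ?_
  rw [← Subgroup.normal_mul, hsup, Subgroup.coe_top]

end CfsgLib.Solvable
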