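import Mathlib.GroupTheory.Complement
import Mathlib.GroupTheory.QuotientGroup.Finite
import Mathlib.GroupTheory.Index
import Mathlib.Data.Nat.GCD.Basic
import Mathlib.GroupTheory.OrderOfElement
import Mathlib.Tactic.Group
import Cfsg.Agent.Lib.Solvable.Basic

/-!
# The theorem of Gaschütz on complements of abelian normal subgroups
-/

namespace CfsgLib.Solvable

open Subgroup
open scoped Pointwise IsMulCommutative

variable {G : Type*} [Group G] {K : Subgroup G} [K.Normal] [IsMulCommutative K]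

theorem conjNormal_of_mem {k : G} (hk : k ∈ K) (x : K) : MulAut.conjNormal k x = x :=
  Subtype.ext <| by
    rw [MulAut.conjNormal_apply,
      show k * (x : G) = x * k from congrArg Subtype.val (mul_comm (⟨k, hk⟩ : K) x),
      mul_inv_cancel_right]

omit [IsMulCommutative K] in
theorem exists_mul_of_mem_sup {A : Subgroup G} {u : G} (hu : u ∈ K ⊔ A) :
    ∃ k ∈ K, ∃ a ∈ A, u = k * a := by
  have hu' : u ∈ ((K ⊔ A : Subgroup G) : Set G) := hu
  rw [Subgroup.normal_mul] at hu'
  obtain ⟨k, hk, a, ha, rfl⟩ := Set.mem_mul.1 hu'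
  exact ⟨k, hk, a, ha, rfl⟩

omit [K.Normal] [IsMulCommutative K] in
theorem eq_of_mul_eq_of_inf_eq_bot {A : Subgroup G} (h : A ⊓ K = ⊥) {k k' : K} {a a' : G}
    (ha : a ∈ A) (ha' : a' ∈ A) (e : (k : G) * a = k' * a') : k = k' := by
  have h1 : (k' : G)⁻¹ * k ∈ A ⊓ K := by
    refine mem_inf.2 ⟨?_, mul_mem (inv_mem k'.2) k.2⟩
    have : (k' : G)⁻¹ * k = a' * a⁻¹ := by
      rw [eq_mul_inv_iff_mul_eq, mul_assoc, e, inv_mul_cancel_left]
    rw [this]
    exact mul_mem ha' (inv_mem ha)
  rw [h, mem_bot, inv_mul_eq_one] at h1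
  exact Subtype.ext h1.symm

/-- A crossed homomorphism which is a bijective power map on `K` yields a complement of `K`. -/
theorem exists_isComplement'_of_cocycle [Finite G] (c : G → K) (m : ℕ)
    (hm : (Nat.card K).Coprime m) (hc : ∀ g h, c (g * h) = c g * MulAut.conjNormal g (c h))
    (hK : ∀ k : K, c k = k ^ m) : ∃ H : Subgroup G, K.IsComplement' H := by
  have hone : c 1 = 1 := by simpa using hK 1
  have hinv : ∀ g, c g = 1 → c g⁻¹ = 1 := by
    intro g hg
    have := hc g⁻¹ g
    rwa [inv_mul_cancel, hone, hg, map_one, mul_one, eq_comm] at this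
  let H : Subgroup G :=
    { carrier := {g | c g = 1}
      one_mem' := hone
      mul_mem' := fun {a b} ha hb => by
        change c (a * b) = 1
        rw [hc, show c a = 1 from ha, show c b = 1 from hb, map_one, mul_one]
      inv_mem' := fun {a} ha => hinv a ha }
  have hbij : Function.Bijective fun k : K => k ^ m := (powCoprime hm).bijective
  refine ⟨H, isComplement'_of_disjoint_and_mul_eq_univ ?_ (Set.eq_univ_iff_forall.2 fun g => ?_)⟩
  · rw [disjoint_def]
    intro x hxK (hxH : c x = 1)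
    have h1 : (⟨x, hxK⟩ : K) = 1 := hbij.1 (by
      change _ ^ m = _ ^ m
      rw [one_pow, ← hK]; exact hxH)
    exact congrArg Subtype.val h1
  · obtain ⟨k, hk⟩ := hbij.2 (c g)
    refine ⟨(k : G), k.2, (k : G)⁻¹ * g, ?_, by simp⟩
    change c ((k : G)⁻¹ * g) = 1
    rw [hc, conjNormal_of_mem (inv_mem k.2), ← K.coe_inv, hK, inv_pow]
    change k ^ m = c g at hk
    rw [hk, inv_mul_cancel]

/-- **Gaschütz**: existence of a complement. -/
theorem gaschutz_exists [Finite G] {U A : Subgroup G} (hKU : K ≤ U)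
    (hcop : (Nat.card K).Coprime U.index) (hAK : A ⊓ K = ⊥) (hKA : K ⊔ A = U) :
    ∃ H : Subgroup G, K.IsComplement' H := by
  classical
  have : Fintype (G ⧸ U) := Fintype.ofFinite _
  have hu : ∀ (g : G) (q : G ⧸ U), ∃ k : K, (k : G)⁻¹ * ((g • q).out⁻¹ * g * q.out) ∈ A := by
    intro g q
    have h1 : (g • q).out⁻¹ * g * q.out ∈ U := by
      rw [mul_assoc, ← QuotientGroup.eq, QuotientGroup.out_eq']
      exact (congrArg (g • ·) (QuotientGroup.out_eq' q)).symm
    replace h1 : (g • q).out⁻¹ * g * q.out ∈ K ⊔ A := hKA.symm.le h1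
    obtain ⟨k, hk, a, ha, e⟩ := exists_mul_of_mem_sup h1
    exact ⟨⟨k, hk⟩, by rw [e, inv_mul_cancel_left]; exact ha⟩
  choose κ hκ using hu
  refine exists_isComplement'_of_cocycle
    (fun g => ∏ q, MulAut.conjNormal (g • q).out (κ g q)) U.index hcop (fun g h => ?_) fun k => ?_
  · simp only [map_prod]
    rw [← Equiv.prod_comp (MulAction.toPerm h) fun q => MulAut.conjNormal (g • q).out (κ g q),
      ← Finset.prod_mul_distrib]
    refine Finset.prod_congr rfl fun q _ => ?_
    change MulAut.conjNormal ((g * h) • q).out (κ (g * h) q) =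
      MulAut.conjNormal (g • h • q).out (κ g (h • q)) *
        MulAut.conjNormal g (MulAut.conjNormal (h • q).out (κ h q))
    rw [mul_smul]
    obtain ⟨a', ha', e'⟩ : ∃ a' ∈ A, (g • h • q).out⁻¹ * g * (h • q).out = κ g (h • q) * a' :=
      ⟨_, hκ g (h • q), (mul_inv_cancel_left _ _).symm⟩
    obtain ⟨a, ha, e⟩ : ∃ a ∈ A, (h • q).out⁻¹ * h * q.out = κ h q * a :=
      ⟨_, hκ h q, (mul_inv_cancel_left _ _).symm⟩
    have hκ' : κ (g * h) q = κ g (h • q) * MulAut.conjNormal a' (κ h q) := by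
      refine eq_of_mul_eq_of_inf_eq_bot hAK (hκ (g * h) q) (mul_mem ha' ha) ?_
      rw [mul_inv_cancel_left, Subgroup.coe_mul, MulAut.conjNormal_apply, mul_smul]
      calc (g • h • q).out⁻¹ * (g * h) * q.out
          = ((g • h • q).out⁻¹ * g * (h • q).out) * ((h • q).out⁻¹ * h * q.out) := by group
        _ = (κ g (h • q) * a') * (κ h q * a) := by rw [e', e]
        _ = _ := by group
    rw [hκ', map_mul]
    congr 1
    rw [← MulAut.mul_apply, ← map_mul, ← MulAut.mul_apply, ← map_mul]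
    have e2 : g * (h • q).out = (g • h • q).out * (κ g (h • q) * a') := by
      rw [← e']; group
    rw [e2, map_mul, map_mul, map_mul]
    simp only [MulAut.mul_apply, conjNormal_of_mem (κ g (h • q)).2]
  · have h1 : ∀ q : G ⧸ U, (k : G) • q = q := by
      intro q
      induction q using QuotientGroup.induction_on with
      | _ x =>
        rw [MulAction.Quotient.smul_coe, smul_eq_mul, QuotientGroup.eq]
        have h2 : (x⁻¹ * (k : G)⁻¹ * x) ∈ U :=
          hKU (by simpa using Subgroup.Normal.conj_mem ‹K.Normal› _ (inv_mem k.2) x⁻¹)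
        simpa [mul_assoc] using h2
    rw [U.index_eq_card, Nat.card_eq_fintype_card, ← Finset.card_univ, ← Finset.prod_const]
    refine Finset.prod_congr rfl fun q _ => ?_
    have h3 : κ (k : G) q = MulAut.conjNormal (q.out)⁻¹ k := by
      refine eq_of_mul_eq_of_inf_eq_bot hAK (hκ (k : G) q) (one_mem A) ?_
      rw [mul_inv_cancel_left, h1, MulAut.conjNormal_apply, inv_inv, mul_one]
    rw [h1, h3, ← MulAut.mul_apply, ← map_mul, mul_inv_cancel, map_one, MulAut.one_apply]

/-- **Gaschütz**: conjugacy of complements. -/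
theorem gaschutz_conj [Finite G] {U H₀ H₁ : Subgroup G} (hKU : K ≤ U)
    (hcop : (Nat.card K).Coprime U.index) (h₀ : K.IsComplement' H₀) (h₁ : K.IsComplement' H₁)
    (hU : H₀ ⊓ U = H₁ ⊓ U) : ∃ g : G, MulAut.conj g • H₀ = H₁ := by
  classical
  have : Fintype (G ⧸ U) := Fintype.ofFinite _
  have hex : ∀ H : Subgroup G, K.IsComplement' H → ∀ g, ∃ k : K, (k : G)⁻¹ * g ∈ H := by
    intro H hH g
    obtain ⟨⟨k, h⟩, e, -⟩ := Subgroup.IsComplement.existsUnique hH g
    exact ⟨k, by rw [← e]; simp⟩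
  have hinf : ∀ H : Subgroup G, K.IsComplement' H → H ⊓ K = ⊥ := fun H hH => by
    rw [inf_comm]; exact hH.disjoint.eq_bot
  choose p₀ hp₀ using hex H₀ h₀
  choose p₁ hp₁ using hex H₁ h₁
  have hmul : ∀ H : Subgroup G, H ⊓ K = ⊥ → ∀ p : G → K, (∀ g, (p g : G)⁻¹ * g ∈ H) →
      ∀ g h, p (g * h) = p g * MulAut.conjNormal g (p h) := by
    intro H hH p hp g h
    refine eq_of_mul_eq_of_inf_eq_bot hH (hp (g * h)) (mul_mem (hp g) (hp h)) ?_
    have e1 : MulAut.conjNormal g (p h) = MulAut.conjNormal ((p g : G)⁻¹ * g) (p h) := by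
      rw [map_mul, MulAut.mul_apply, conjNormal_of_mem (inv_mem (p g).2)]
    rw [e1, Subgroup.coe_mul, MulAut.conjNormal_apply]
    group
  let d : G → K := fun g => p₀ g * (p₁ g)⁻¹
  have hd : ∀ g h, d (g * h) = d g * MulAut.conjNormal g (d h) := fun g h => by
    simp only [d, mul_inv, hmul H₀ (hinf _ h₀) p₀ hp₀, hmul H₁ (hinf _ h₁) p₁ hp₁, map_mul, map_inv]
    simp only [mul_left_comm, mul_assoc]
  have hdU : ∀ u ∈ U, d u = 1 := by
    intro u hu
    have hb : (p₀ u : G)⁻¹ * u ∈ H₁ ⊓ U :=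
      hU ▸ mem_inf.2 ⟨hp₀ u, mul_mem (inv_mem (hKU (p₀ u).2)) hu⟩
    have := eq_of_mul_eq_of_inf_eq_bot (hinf _ h₁) (k := p₀ u) (k' := p₁ u) hb.1 (hp₁ u)
      (by rw [mul_inv_cancel_left, mul_inv_cancel_left])
    simp [d, this]
  have hdq : ∀ g x : G, d (g * (x : G ⧸ U).out) = d (g * x) := by
    intro g x
    obtain ⟨u, hu⟩ := QuotientGroup.mk_out_eq_mul U x
    rw [hu, ← mul_assoc, hd (g * x), hdU u u.2, map_one, mul_one]
  set e : K := ∏ q : G ⧸ U, d q.out with he
  have key : ∀ g, e = d g ^ U.index * MulAut.conjNormal g e := by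
    intro g
    rw [he, map_prod, U.index_eq_card, Nat.card_eq_fintype_card, ← Finset.card_univ,
      ← Finset.prod_const, ← Finset.prod_mul_distrib]
    conv_lhs => rw [← Equiv.prod_comp (MulAction.toPerm g) fun q : G ⧸ U => d q.out]
    refine Finset.prod_congr rfl fun q _ => ?_
    rw [← hd]
    induction q using QuotientGroup.induction_on with
    | _ x =>
      change d ((g * x : G) : G ⧸ U).out = _
      have := hdq 1 (g * x)
      rw [one_mul, one_mul] at this
      rw [this, hdq]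
  obtain ⟨b, hb⟩ := (powCoprime hcop).surjective e
  refine ⟨(b : G), eq_of_le_of_card_ge ?_ ?_⟩
  · intro x hx
    rw [mem_pointwise_smul_iff_inv_smul_mem, ← map_inv] at hx
    change (b : G)⁻¹ * x * (b : G)⁻¹⁻¹ ∈ H₀ at hx
    rw [inv_inv] at hx
    set h := (b : G)⁻¹ * x * b with hh
    have h1 : p₀ h = 1 := eq_of_mul_eq_of_inf_eq_bot (hinf _ h₀) (hp₀ h) hx
      (by rw [mul_inv_cancel_left, K.coe_one, one_mul])
    have h2 := key h
    rw [← hb] at h2
    change b ^ U.index = d h ^ U.index * MulAut.conjNormal h (b ^ U.index) at h2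
    rw [map_pow, ← mul_pow] at h2
    have h3 : b = d h * MulAut.conjNormal h b := (powCoprime hcop).injective h2
    have h4 := congrArg Subtype.val h3
    simp only [d, h1, one_mul, Subgroup.coe_mul, InvMemClass.coe_inv, MulAut.conjNormal_apply] at h4
    have h5 : (p₁ h : G)⁻¹ * h ∈ H₁ := hp₁ h
    have h6 : (p₁ h : G)⁻¹ * h = x := by
      have : x = (b : G) * h * (b : G)⁻¹ := by rw [hh]; group
      rw [this]
      conv_rhs => enter [1, 1]; rw [h4]
      group
    exact h6 ▸ h5
  · refine le_of_eq ?_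
    change _ = Nat.card (H₀.map (MulAut.conj (b : G)).toMonoidHom)
    rw [card_map_of_injective (MulEquiv.injective _)]
    exact Nat.eq_of_mul_eq_mul_left (Nat.card_pos (α := K))
      (h₁.card_mul_card.trans h₀.card_mul_card.symm)

end CfsgLib.Solvable
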