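import Mathlib.FieldTheory.Finite.Basic
import Mathlib.Algebra.Module.ZMod
import Mathlib.LinearAlgebra.Span.Basic

/-!
An automorphism of exponent dividing `p - 1` of an elementary abelian `p`-group has an eigenvector.
-/

set_option autoImplicit false

namespace CfsgLib.Solvable

open Finset

/-- Eigenvectors of an endomorphism `f` with `f ^ (p - 1) = 1` over `ZMod p`. -/
theorem exists_eigen_of_pow_sub_one {p : ℕ} [hp : Fact p.Prime] {V : Type*} [AddCommGroup V]
    [Module (ZMod p) V] (f : Module.End (ZMod p) V) (hf : f ^ (p - 1) = 1) {y : V} (hy : y ≠ 0) :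
    ∃ v : V, v ≠ 0 ∧ ∃ a : ZMod p, f v = a • v := by
  classical
  set n := p - 1 with hn
  have hn0 : 0 < n := by have := hp.out.two_le; omega
  let v : (ZMod p)ˣ → V := fun a => ∑ i ∈ range n, ((a⁻¹ : (ZMod p)ˣ) : ZMod p) ^ i • (f ^ i) y
  have hcard : ∀ a : (ZMod p)ˣ, (a : ZMod p) ^ n = 1 := fun a => by
    rw [← Units.val_pow_eq_pow_val, ← Units.val_one, Units.val_inj]
    exact ZMod.units_pow_card_sub_one_eq_one p a
  have hv : ∀ a, f (v a) = (a : ZMod p) • v a := by
    intro a
    set c : ZMod p := ((a⁻¹ : (ZMod p)ˣ) : ZMod p)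
    have hc : (a : ZMod p) * c = 1 := by
      show (a : ZMod p) * ((a⁻¹ : (ZMod p)ˣ) : ZMod p) = 1
      rw [← Units.val_mul, mul_inv_cancel, Units.val_one]
    let g : ℕ → V := fun i => c ^ i • (f ^ i) y
    have hg : g n = g 0 := by
      show c ^ n • (f ^ n) y = c ^ 0 • (f ^ 0) y
      rw [hcard, hf, pow_zero, pow_zero]
    have h1 : f (v a) = ∑ i ∈ range n, (a : ZMod p) • g (i + 1) := by
      simp only [v, map_sum, map_smul]
      refine sum_congr rfl fun i _ => ?_
      simp only [g, smul_smul, pow_succ', ← mul_assoc, hc, one_mul, Module.End.mul_apply]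
      rfl
    have h2 : ∑ i ∈ range n, g (i + 1) = ∑ i ∈ range n, g i := by
      have h := (sum_range_succ g n).symm.trans (sum_range_succ' g n)
      rw [hg, add_left_inj] at h
      exact h.symm
    rw [h1, ← smul_sum, h2]
  have hsum : ∑ a, v a = -y := by
    simp only [v]
    rw [sum_comm]
    simp_rw [← sum_smul]
    rw [sum_eq_single 0]
    · have h0 : ∑ a : (ZMod p)ˣ, ((a⁻¹ : (ZMod p)ˣ) : ZMod p) ^ 0 = -1 := by
        rw [Finset.sum_congr rfl (fun a _ => pow_zero _), sum_const, card_univ, ZMod.card_units p,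
          nsmul_one, Nat.cast_sub hp.out.one_le, ZMod.natCast_self, Nat.cast_one, zero_sub]
      rw [h0, pow_zero, Module.End.one_apply, neg_one_smul]
    · intro i hi hi0
      have hz : ∑ a : (ZMod p)ˣ, ((a⁻¹ : (ZMod p)ˣ) : ZMod p) ^ i = 0 := by
        refine (Fintype.sum_equiv (Equiv.inv (ZMod p)ˣ) (fun a => ((a⁻¹ : (ZMod p)ˣ) : ZMod p) ^ i)
          (fun a => (a : ZMod p) ^ i) fun a => rfl).trans ?_
        have h := FiniteField.sum_pow_units (ZMod p) i
        rw [ZMod.card p, if_neg] at h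
        · simpa using h
        · intro hd
          have := mem_range.mp hi
          exact absurd (Nat.le_of_dvd (Nat.pos_of_ne_zero hi0) hd) (by omega)
      rw [hz, zero_smul]
    · intro h; exact absurd (mem_range.mpr hn0) h
  by_contra hc
  apply hy
  have hz : ∀ a, v a = 0 := fun a => by
    by_contra h0
    exact hc ⟨v a, h0, a, hv a⟩
  rw [← neg_eq_zero, ← hsum]
  exact sum_eq_zero fun a _ => hz a

theorem exists_eigen_aux {p : ℕ} [hp : Fact p.Prime] {N : Type*} [CommGroup N]
    [Module (ZMod p) (Additive N)] (f : MulAut N) (hf : f ^ (p - 1) = 1) {y : N} (hy : y ≠ 1) :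
    ∃ v : N, v ≠ 1 ∧ ∃ k : ℕ, f v = v ^ k := by
  let F : Module.End (ZMod p) (Additive N) :=
    (MonoidHom.toAdditive f.toMonoidHom).toZModLinearMap p
  have hF : ∀ (i : ℕ) (x : Additive N), (F ^ i) x = Additive.ofMul ((f ^ i) x.toMul) := by
    intro i
    induction i with
    | zero => intro x; rfl
    | succ i ih => intro x; rw [pow_succ', Module.End.mul_apply, ih, pow_succ', MulAut.mul_apply]; rfl
  obtain ⟨v, hv, a, ha⟩ := exists_eigen_of_pow_sub_one F
    (LinearMap.ext fun x => by rw [hF, hf]; rfl) (y := Additive.ofMul y) hy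
  refine ⟨v.toMul, hv, a.val, ?_⟩
  have h1 : F v = a.val • v := by
    rw [ha, ← Nat.cast_smul_eq_nsmul (ZMod p), ZMod.natCast_zmod_val]
  exact h1

/-- Multiplicative form. -/
theorem exists_eigen_of_pow_sub_one' {p : ℕ} [hp : Fact p.Prime] {N : Type*} [CommGroup N]
    (hN : ∀ x : N, x ^ p = 1) (f : MulAut N) (hf : f ^ (p - 1) = 1) {y : N} (hy : y ≠ 1) :
    ∃ v : N, v ≠ 1 ∧ ∃ k : ℕ, f v = v ^ k :=
  @exists_eigen_aux p hp N _ (AddCommGroup.zmodModule fun x : Additive N => hN x.toMul) f hf y hy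

end CfsgLib.Solvable
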