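import Cfsg.Agent.Lib.Solvable.Supersolvable
import Cfsg.Agent.Lib.Solvable.MinNormal
import Cfsg.Agent.Lib.Solvable.Nilpotent
import Cfsg.Agent.Lib.Solvable.Eigen
import Cfsg.Agent.Lib.OddLocal.Stab
import Mathlib.Algebra.Group.ConjFinite

/-!
Actions on normal `p`-subgroups with one-dimensional factors.
-/

set_option autoImplicit false

namespace CfsgLib.Solvable

open Subgroup
open scoped Pointwise commutatorElement

universe u

/-- In a supersolvable group, `p'`-elements which are commutators or `(p-1)`-th powers centralise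
each normal `p`-subgroup. -/
theorem mem_centralizer_of_isSupersolvable {G : Type u} [Group G] [Finite G]
    (hG : Cfsg.IsSupersolvable G) {p : ℕ} [Fact p.Prime] {P : Subgroup G} [P.Normal]
    (hP : IsPGroup p P) {x : G} (hx : (orderOf x).Coprime p)
    (hx2 : (∃ a b : G, x = ⁅a, b⁆) ∨ ∃ a : G, x = a ^ (p - 1)) :
    x ∈ centralizer (P : Set G) := by
  induction hn : Nat.card G using Nat.strong_induction_on generalizing G with
  | _ n ih =>
    subst hn
    by_cases hb : P = ⊥
    · subst hb
      exact mem_centralizer_iff.mpr fun y hy => by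
        rw [Subgroup.mem_bot.mp hy, one_mul, mul_one]
    obtain ⟨Q, hQn, hQP, hQp⟩ := exists_normal_prime_le hG hb
    have : IsCyclic Q := isCyclic_of_card_prime hQp
    obtain ⟨k, hk⟩ := IsPGroup.iff_card.mp hP
    have hQcard : Nat.card Q = p :=
      (Nat.prime_dvd_prime_iff_eq hQp Fact.out).mp
        (hQp.dvd_of_dvd_pow (hk ▸ Subgroup.card_dvd_of_le hQP))
    -- `x` centralises `Q`
    let φ : G →* MulAut Q := MulAut.conjNormal
    have hφc : ∀ a b : G, φ a * φ b = φ b * φ a := by
      intro a b
      obtain ⟨u, hu⟩ := MonoidHom.map_cyclic (φ a).toMonoidHom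
      obtain ⟨v, hv⟩ := MonoidHom.map_cyclic (φ b).toMonoidHom
      ext z
      simp only [MulAut.mul_apply]
      rw [show φ a (φ b z) = (φ b z) ^ u from hu _, show φ b z = z ^ v from hv z,
        show φ b (φ a z) = (φ a z) ^ v from hv _, show φ a z = z ^ u from hu z, ← zpow_mul,
        ← zpow_mul, mul_comm]
    have hφx : φ x = 1 := by
      rcases hx2 with ⟨a, b, rfl⟩ | ⟨a, rfl⟩
      · rw [map_commutatorElement, commutatorElement_eq_one_iff_mul_comm]
        exact hφc a b
      · rw [map_pow]
        have h := pow_card_eq_one' (x := φ a)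
        rwa [IsCyclic.card_mulAut, hQcard, Nat.totient_prime Fact.out] at h
    -- `x` centralises `P / Q`
    set π := QuotientGroup.mk' Q
    have hs : Function.Surjective π := QuotientGroup.mk'_surjective Q
    have : (P.map π).Normal := Subgroup.Normal.map ‹_› π hs
    have h2 := ih _ (card_quotient_lt (ne_bot_of_card_prime hQp))
      (isSupersolvable_of_surjective π hs hG) (P := P.map π) (hP.map π) (x := π x)
      (hx.coprime_dvd_left (orderOf_map_dvd π x))
      (by
        rcases hx2 with ⟨a, b, rfl⟩ | ⟨a, rfl⟩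
        · exact Or.inl ⟨π a, π b, map_commutatorElement π a b⟩
        · exact Or.inr ⟨π a, map_pow π a _⟩) rfl
    have hcop : (Nat.card (zpowers x)).Coprime (Nat.card P) := by
      rw [Nat.card_zpowers, hk]; exact hx.pow_right k
    have hcent := CfsgLib.OddLocal.le_centralizer_of_stabilizes (H := P) (N := Q) hQP hcop
      (zpowers_le.mpr (mem_centralizer_iff.mpr fun q hq => ?_)) (fun a ha h hh => ?_)
    · exact hcent (mem_zpowers x)
    · have := congrArg Subtype.val (DFunLike.congr_fun hφx ⟨q, hq⟩)
      simp only [φ, MulAut.conjNormal_apply, MulAut.one_apply] at this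
      exact (mul_inv_eq_iff_eq_mul.mp this).symm
    · have hc : π a ∈ centralizer ((P.map π : Subgroup (G ⧸ Q)) : Set (G ⧸ Q)) := by
        obtain ⟨j, rfl⟩ := mem_zpowers_iff.mp ha
        rw [map_zpow]; exact zpow_mem h2 j
      have := mem_centralizer_iff.mp hc (π h) ⟨h, hh, rfl⟩
      rw [← QuotientGroup.eq_one_iff]
      change π (a * h * a⁻¹ * h⁻¹) = 1
      rw [map_mul, map_mul, map_mul, map_inv, map_inv, ← this, mul_inv_cancel_right, mul_inv_cancel]

/-- A minimal normal `p`-subgroup on which a supplement acts through an abelian group of exponent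
dividing `p - 1` has order `p`. -/
theorem card_minimal_normal_eq {G : Type u} [Group G] [Finite G] {p : ℕ} [hp : Fact p.Prime]
    {P H N : Subgroup G} [P.Normal] [N.Normal] (hP : IsPGroup p P) (hsup : P ⊔ H = ⊤)
    (hNP : N ≤ P) (hne : N ≠ ⊥) (hmin : ∀ K : Subgroup G, K.Normal → K ≤ N → K = ⊥ ∨ K = N)
    (hcomm : ∀ a ∈ H, ∀ b ∈ H, ⁅a, b⁆ ∈ centralizer (N : Set G))
    (hpow : ∀ a ∈ H, a ^ (p - 1) ∈ centralizer (N : Set G)) :
    Nat.card N = p := by
  have hNp : IsPGroup p N := hP.to_le hNP
  have : Group.IsSolvable N := by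
    have := hNp.isNilpotent
    infer_instance
  have hab : IsMulCommutative N := isMulCommutative_of_minimal_normal hne hmin
  obtain ⟨q, hq, hexp⟩ := exists_prime_pow_eq_one_of_minimal_normal hne hmin
  have hqp : q = p := by
    have : Nontrivial N := N.nontrivial_iff_ne_bot.mpr hne
    obtain ⟨y, hy⟩ := exists_ne (1 : N)
    obtain ⟨k, hk⟩ := IsPGroup.iff_orderOf.mp hNp y
    have h1 : orderOf y ∣ q := orderOf_dvd_of_pow_eq_one (Subtype.ext (by simpa using hexp y y.2))
    have h2 : k ≠ 0 := fun h0 => hy (orderOf_eq_one_iff.mp (by rw [hk, h0, pow_zero]))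
    exact ((Nat.prime_dvd_prime_iff_eq hp.out hq).mp ((dvd_pow_self p h2).trans (hk ▸ h1))).symm
  rw [hqp] at hexp
  -- `P` centralises `N`
  have hPN : ∀ y ∈ N, ∀ x ∈ P, x * y = y * x := by
    have := hP.isNilpotent
    have : (N.subgroupOf P).Normal := Subgroup.normal_subgroupOf
    have h1 := normal_inf_center_ne_bot (N.subgroupOf P) (fun he => hne (by
      rw [Subgroup.subgroupOf_eq_bot, disjoint_iff, inf_eq_left.mpr hNP] at he
      exact he))
    rcases hmin (N ⊓ (center P).map P.subtype) inferInstance inf_le_left with h2 | h2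
    · exfalso
      apply h1
      rw [eq_bot_iff]
      intro y hy
      have h3 : (y : G) ∈ N ⊓ (center P).map P.subtype := ⟨hy.1, y, hy.2, rfl⟩
      rw [h2, Subgroup.mem_bot] at h3
      exact Subgroup.mem_bot.mpr (Subtype.ext h3)
    · intro y hy x hx
      obtain ⟨z, hz, rfl⟩ := (h2.ge hy).2
      exact congrArg Subtype.val (Subgroup.mem_center_iff.mp hz ⟨x, hx⟩)
  let : CommGroup N := { (inferInstance : Group N) with mul_comm := fun a b => hab.is_comm.comm a b }
  let φ : G →* MulAut N := MulAut.conjNormal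
  have hker : ∀ a : G, a ∈ centralizer (N : Set G) → φ a = 1 := by
    intro a ha
    ext y
    simp [φ, ← mem_centralizer_iff.mp ha y y.2]
  have scalar : ∀ h ∈ H, ∃ k : ℕ, ∀ y : N, φ h y = y ^ k := by
    intro h hh
    have : Nontrivial N := N.nontrivial_iff_ne_bot.mpr hne
    obtain ⟨y, hy⟩ := exists_ne (1 : N)
    obtain ⟨v, hv, k, hk⟩ := exists_eigen_of_pow_sub_one' (p := p)
      (fun x : N => Subtype.ext (by simpa using hexp x x.2)) (φ h)
      (by rw [← map_pow]; exact hker _ (hpow h hh)) hy
    refine ⟨k, ?_⟩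
    let E : Subgroup G :=
      { carrier := {g | ∃ hg : g ∈ N, φ h ⟨g, hg⟩ = (⟨g, hg⟩ : N) ^ k}
        one_mem' := ⟨N.one_mem, by
          show φ h 1 = (1 : N) ^ k
          rw [map_one, one_pow]⟩
        mul_mem' := by
          rintro a b ⟨ha, ha'⟩ ⟨hb, hb'⟩
          refine ⟨N.mul_mem ha hb, ?_⟩
          show φ h (⟨a, ha⟩ * ⟨b, hb⟩) = (⟨a, ha⟩ * ⟨b, hb⟩ : N) ^ k
          rw [map_mul, ha', hb', mul_pow]
        inv_mem' := by
          rintro a ⟨ha, ha'⟩
          refine ⟨N.inv_mem ha, ?_⟩
          show φ h (⟨a, ha⟩ : N)⁻¹ = ((⟨a, ha⟩ : N)⁻¹) ^ k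
          rw [map_inv, ha', inv_pow] }
    have hEN : E ≤ N := fun g hg => hg.1
    have hEn : E.Normal := by
      refine normal_of_forall_conj_smul_eq fun g => ?_
      have hg : g ∈ normalizer (E : Set G) := by
        have hle : P ⊔ H ≤ normalizer (E : Set G) := by
          refine sup_le ((le_trans ?_ (Subgroup.centralizer_le_normalizer (E : Set G)))) ?_
          · intro x hx
            exact mem_centralizer_iff.mpr fun e he => (hPN e (hEN he) x hx).symm
          · have hinv : ∀ b ∈ H, ∀ e ∈ E, b * e * b⁻¹ ∈ E := by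
              rintro b hb e ⟨he, he'⟩
              refine ⟨‹N.Normal›.conj_mem e he b, ?_⟩
              show φ h (φ b ⟨e, he⟩) = (φ b ⟨e, he⟩) ^ k
              have hcomm' : φ h * φ b = φ b * φ h := by
                rw [← commutatorElement_eq_one_iff_mul_comm, ← map_commutatorElement]
                exact hker _ (hcomm h hh b hb)
              rw [← MulAut.mul_apply, hcomm', MulAut.mul_apply, he', map_pow]
            intro b hb
            rw [Subgroup.mem_normalizer_iff]
            refine fun e => ⟨hinv b hb e, fun he => ?_⟩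
            simpa [mul_assoc] using hinv b⁻¹ (H.inv_mem hb) _ he
        rw [hsup] at hle
        exact hle (Subgroup.mem_top g)
      exact conj_smul_eq_self_iff.mpr hg
    rcases hmin E hEn hEN with he | he
    · exfalso
      exact hv (Subtype.ext (Subgroup.mem_bot.mp (he.le (show (v : G) ∈ E from ⟨v.2, hk⟩))))
    · intro y
      obtain ⟨_, hy'⟩ := he.ge y.2
      exact hy'
  -- every cyclic subgroup of `N` is normal
  have : Nontrivial N := N.nontrivial_iff_ne_bot.mpr hne
  obtain ⟨y, hy⟩ := exists_ne (1 : N)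
  have hY : (zpowers (y : G)).Normal := by
    have hle : P ⊔ H ≤ normalizer (zpowers (y : G) : Set G) := by
      refine sup_le ((le_trans ?_ (Subgroup.centralizer_le_normalizer _))) ?_
      · intro x hx
        refine mem_centralizer_iff.mpr fun e he => (hPN e ?_ x hx).symm
        exact (zpowers_le.mpr y.2) he
      · have hinv : ∀ b ∈ H, ∀ e ∈ zpowers (y : G), b * e * b⁻¹ ∈ zpowers (y : G) := by
          intro b hb e he
          obtain ⟨j, rfl⟩ := mem_zpowers_iff.mp he
          obtain ⟨k, hk⟩ := scalar b hb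
          have h2 : b * (y : G) * b⁻¹ = (y : G) ^ k := by
            simpa [φ] using congrArg Subtype.val (hk y)
          rw [← conj_zpow, h2]
          exact zpow_mem (pow_mem (mem_zpowers _) k) j
        intro b hb
        rw [Subgroup.mem_normalizer_iff]
        refine fun e => ⟨hinv b hb e, fun he => ?_⟩
        simpa [mul_assoc] using hinv b⁻¹ (H.inv_mem hb) _ he
    rw [hsup] at hle
    exact Subgroup.normalizer_eq_top_iff.mp (top_le_iff.mp hle)
  rcases hmin _ hY (zpowers_le.mpr y.2) with h1 | h1
  · exact absurd (Subtype.ext (Subgroup.zpowers_eq_bot.mp h1)) hy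
  · rw [← h1, Nat.card_zpowers, orderOf_eq_prime (hexp y y.2)]
    exact fun h => hy (Subtype.ext h)

/-- `G = PH` with `P` a normal `p`-subgroup, `H` supersolvable, acting on `P` through an abelian
group of exponent dividing `p - 1`, is supersolvable. -/
theorem isSupersolvable_of_action {G : Type u} [Group G] [Finite G] {p : ℕ} [Fact p.Prime]
    {P H : Subgroup G} [P.Normal] (hP : IsPGroup p P) (hsup : P ⊔ H = ⊤)
    (hH : Cfsg.IsSupersolvable H)
    (hcomm : ∀ a ∈ H, ∀ b ∈ H, ⁅a, b⁆ ∈ centralizer (P : Set G))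
    (hpow : ∀ a ∈ H, a ^ (p - 1) ∈ centralizer (P : Set G)) :
    Cfsg.IsSupersolvable G := by
  induction hn : Nat.card G using Nat.strong_induction_on generalizing G with
  | _ n ih =>
    subst hn
    by_cases hb : P = ⊥
    · subst hb
      rw [bot_sup_eq] at hsup
      subst hsup
      exact isSupersolvable_of_surjective (Subgroup.topEquiv : (⊤ : Subgroup G) ≃* G).toMonoidHom
        Subgroup.topEquiv.surjective hH
    obtain ⟨N, hNn, hNne, hNP, hmin⟩ := exists_minimal_normal_le ‹P.Normal› hb
    have hle : centralizer (P : Set G) ≤ centralizer (N : Set G) :=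
      Subgroup.centralizer_le (SetLike.coe_subset_coe.mpr hNP)
    have hc := card_minimal_normal_eq hP hsup hNP hNne hmin
      (fun a ha b hb => hle (hcomm a ha b hb)) (fun a ha => hle (hpow a ha))
    have : IsCyclic N := isCyclic_of_card_prime (hc ▸ Fact.out)
    set π := QuotientGroup.mk' N
    have hs : Function.Surjective π := QuotientGroup.mk'_surjective N
    have : (P.map π).Normal := Subgroup.Normal.map ‹_› π hs
    have key : ∀ z ∈ centralizer (P : Set G), π z ∈ centralizer ((P.map π : Subgroup _) : Set (G ⧸ N)) :=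
      fun z hz => mem_centralizer_iff.mpr fun w hw => by
        obtain ⟨v, hv, rfl⟩ := hw
        rw [← map_mul, ← map_mul, mem_centralizer_iff.mp hz v hv]
    refine isSupersolvable_of_cyclic_normal N
      (ih _ (card_quotient_lt hNne) (P := P.map π) (H := H.map π) (hP.map π) ?_ ?_ ?_ ?_ rfl)
    · rw [← Subgroup.map_sup, hsup, Subgroup.map_top_of_surjective π hs]
    · exact isSupersolvable_of_surjective (π.subgroupMap H) (π.subgroupMap_surjective H) hH
    · rintro _ ⟨a, ha, rfl⟩ _ ⟨b, hb', rfl⟩
      rw [← map_commutatorElement]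
      exact key _ (hcomm a ha b hb')
    · rintro _ ⟨a, ha, rfl⟩
      rw [← map_pow]
      exact key _ (hpow a ha)

end CfsgLib.Solvable
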