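import Cfsg.Prelude.Def_SolvableStructure
import Cfsg.Agent.Lib.Solvable.Basic
import Mathlib.GroupTheory.SpecificGroups.Cyclic
import Mathlib.GroupTheory.Sylow

/-!
Supersolvable groups: closure properties and the recursive description.
-/

set_option autoImplicit false

namespace CfsgLib.Solvable

open Subgroup
open scoped Pointwise

universe u v

theorem isSupersolvable_of_surjective {G : Type u} [Group G] {H : Type v} [Group H] (f : G →* H)
    (hf : Function.Surjective f) (h : Cfsg.IsSupersolvable G) : Cfsg.IsSupersolvable H := by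
  obtain ⟨n, A, h0, hn, hnor, hs⟩ := h
  refine ⟨n, fun i => (A i).map f, by simp [h0], ?_, fun i => (hnor i).map f hf, fun i => ?_⟩
  · show (A (Fin.last n)).map f = ⊤
    rw [hn, Subgroup.map_top_of_surjective f hf]
  · obtain ⟨g, hg⟩ := hs i
    exact ⟨f g, by simp only [hg, Subgroup.map_sup, MonoidHom.map_zpowers]⟩

theorem isSupersolvable_of_subsingleton (G : Type u) [Group G] [Subsingleton G] :
    Cfsg.IsSupersolvable G :=
  ⟨0, fun _ => ⊥, rfl, Subsingleton.elim _ _, fun _ => inferInstance, fun i => i.elim0⟩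

/-- An extension of a cyclic normal subgroup by a supersolvable group is supersolvable. -/
theorem isSupersolvable_of_cyclic_normal {G : Type u} [Group G] (N : Subgroup G) [N.Normal]
    [IsCyclic N] (h : Cfsg.IsSupersolvable (G ⧸ N)) : Cfsg.IsSupersolvable G := by
  obtain ⟨n, A, h0, hn, hnor, hs⟩ := h
  set π := QuotientGroup.mk' N with hπ
  have hsurj : Function.Surjective π := QuotientGroup.mk'_surjective N
  refine ⟨n + 1, Fin.cons ⊥ fun i => (A i).comap π, rfl, ?_, fun i => ?_, fun i => ?_⟩
  · rw [← Fin.succ_last, Fin.cons_succ, hn, Subgroup.comap_top]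
  · induction i using Fin.cases with
    | zero => exact Subgroup.normal_bot
    | succ i => rw [Fin.cons_succ]; exact (hnor i).comap π
  · induction i using Fin.cases with
    | zero =>
      obtain ⟨g, hg⟩ := IsCyclic.exists_generator (α := N)
      refine ⟨g, ?_⟩
      rw [Fin.castSucc_zero, Fin.cons_zero, Fin.cons_succ, bot_sup_eq, h0, MonoidHom.comap_bot,
        hπ, QuotientGroup.ker_mk']
      refine le_antisymm (fun x hx => ?_) (zpowers_le.mpr g.2)
      obtain ⟨k, hk⟩ := mem_zpowers_iff.mp (hg ⟨x, hx⟩)
      exact mem_zpowers_iff.mpr ⟨k, by rw [← Subgroup.coe_zpow, hk]⟩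
    | succ i =>
      obtain ⟨g, hg⟩ := hs i
      obtain ⟨g, rfl⟩ := hsurj g
      refine ⟨g, ?_⟩
      rw [Fin.cons_succ, ← Fin.succ_castSucc, Fin.cons_succ, hg, ← MonoidHom.map_zpowers,
        ← Subgroup.map_comap_eq_self_of_surjective hsurj (A i.castSucc), ← Subgroup.map_sup,
        Subgroup.comap_map_eq, Subgroup.map_comap_eq_self_of_surjective hsurj,
        sup_eq_left]
      exact (Subgroup.ker_le_comap π _).trans le_sup_left

/-- Subgroups of supersolvable groups are supersolvable. -/
theorem isSupersolvable_subgroup {G : Type u} [Group G] (h : Cfsg.IsSupersolvable G)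
    (S : Subgroup G) : Cfsg.IsSupersolvable S := by
  obtain ⟨n, A, h0, hn, hnor, hs⟩ := h
  refine ⟨n, fun i => (A i).subgroupOf S, by simp [h0], by simp [hn],
    fun i => (hnor i).subgroupOf S, fun i => ?_⟩
  obtain ⟨g, hg⟩ := hs i
  have := hnor i.castSucc
  set π := (QuotientGroup.mk' (A i.castSucc)).comp S.subtype with hπ
  have hle : ((A i.succ).subgroupOf S).map π ≤ zpowers (QuotientGroup.mk' (A i.castSucc) g) := by
    refine le_trans (b := (A i.succ).map (QuotientGroup.mk' (A i.castSucc))) ?_ (le_of_eq ?_)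
    · rw [hπ, ← Subgroup.map_map]
      exact Subgroup.map_mono (Subgroup.map_comap_le _ _)
    · rw [hg, Subgroup.map_sup, QuotientGroup.map_mk'_self, bot_sup_eq, MonoidHom.map_zpowers]
  have : IsCyclic (((A i.succ).subgroupOf S).map π) :=
    isCyclic_of_injective (Subgroup.inclusion hle) (Subgroup.inclusion_injective hle)
  obtain ⟨⟨y, hy⟩, hgen⟩ := IsCyclic.exists_generator (α := ((A i.succ).subgroupOf S).map π)
  obtain ⟨s, hs', rfl⟩ := hy
  refine ⟨s, le_antisymm (fun z hz => ?_) (sup_le ?_ (zpowers_le.mpr hs'))⟩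
  · obtain ⟨k, hk⟩ := mem_zpowers_iff.mp (hgen ⟨π z, z, hz, rfl⟩)
    have h2 : π (s ^ k) = π z := by rw [map_zpow]; exact congrArg Subtype.val hk
    have h3 : (s ^ k)⁻¹ * z ∈ (A i.castSucc).subgroupOf S := by
      have h4 := QuotientGroup.eq.mp h2
      simpa [Subgroup.mem_subgroupOf] using h4
    rw [sup_comm]
    have h5 := Subgroup.mul_mem_sup (zpow_mem (mem_zpowers s) k) h3
    rwa [mul_inv_cancel_left] at h5
  · exact Subgroup.comap_mono (hg ▸ le_sup_left)

/-- A nontrivial normal subgroup of a supersolvable group contains a normal subgroup of prime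
order. -/
theorem exists_normal_prime_le {G : Type u} [Group G] [Finite G] (h : Cfsg.IsSupersolvable G)
    {N : Subgroup G} [hN : N.Normal] (hne : N ≠ ⊥) :
    ∃ Q : Subgroup G, Q.Normal ∧ Q ≤ N ∧ (Nat.card Q).Prime := by
  obtain ⟨n, A, h0, hn, hnor, hs⟩ := h
  by_contra hc
  have key : ∀ i, A i ⊓ N = ⊥ := by
    intro i
    induction i using Fin.induction with
    | zero => rw [h0, bot_inf_eq]
    | succ i ih =>
      obtain ⟨g, hg⟩ := hs i
      have := hnor i.castSucc
      have := hnor i.succ
      set π := QuotientGroup.mk' (A i.castSucc)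
      have hle : (A i.succ ⊓ N).map π ≤ zpowers (π g) := by
        refine (Subgroup.map_mono inf_le_left).trans (le_of_eq ?_)
        rw [hg, Subgroup.map_sup, QuotientGroup.map_mk'_self, bot_sup_eq, MonoidHom.map_zpowers]
      have : IsCyclic (A i.succ ⊓ N : Subgroup G) := by
        refine isCyclic_of_injective ((Subgroup.inclusion hle).comp (π.subgroupMap _)) ?_
        refine (Subgroup.inclusion_injective hle).comp ?_
        rw [injective_iff_map_eq_one]
        intro x hx
        have h1 : (x : G) ∈ A i.castSucc :=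
          (QuotientGroup.eq_one_iff _).mp (congrArg Subtype.val hx)
        have h2 : (x : G) ∈ A i.castSucc ⊓ N := ⟨h1, x.2.2⟩
        rw [ih, Subgroup.mem_bot] at h2
        exact Subtype.ext h2
      by_contra hb
      obtain ⟨q, hq, hqd⟩ := Nat.exists_prime_and_dvd
        ((A i.succ ⊓ N).one_lt_card_iff_ne_bot.mpr hb).ne'
      obtain ⟨x, hx⟩ := IsCyclic.exists_generator (α := (A i.succ ⊓ N : Subgroup G))
      have hox : orderOf (x : G) = Nat.card (A i.succ ⊓ N : Subgroup G) := by
        rw [Subgroup.orderOf_coe, orderOf_eq_card_of_forall_mem_zpowers hx]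
      refine hc ⟨zpowers ((x : G) ^ (orderOf (x : G) / q)), ⟨fun y hy c => ?_⟩, ?_, ?_⟩
      · obtain ⟨k, rfl⟩ := mem_zpowers_iff.mp hy
        obtain ⟨j, hj⟩ := mem_zpowers_iff.mp (hx ⟨c * x * c⁻¹,
          (inferInstance : (A i.succ ⊓ N).Normal).conj_mem x x.2 c⟩)
        have hj' : (x : G) ^ j = c * x * c⁻¹ := by rw [← Subgroup.coe_zpow, hj]
        refine mem_zpowers_iff.mpr ⟨j * k, ?_⟩
        rw [← conj_zpow, ← conj_pow, ← hj', ← zpow_natCast, ← zpow_natCast, ← zpow_mul, ← zpow_mul,
          ← zpow_mul]
        congr 1; ring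
      · exact zpowers_le.mpr (pow_mem x.2.2 _)
      · rw [Nat.card_zpowers, orderOf_pow_orderOf_div (orderOf_pos _).ne' (hox ▸ hqd)]
        exact hq
  have := key (Fin.last n)
  rw [hn, top_inf_eq] at this
  exact hne this

theorem isCyclic_of_card_prime {G : Type u} [Group G] {Q : Subgroup G} (hQ : (Nat.card Q).Prime) :
    IsCyclic Q :=
  @isCyclic_of_prime_card _ _ _ ⟨hQ⟩ rfl

/-- A supersolvable nontrivial group has a normal subgroup of prime order with supersolvable
quotient; together with `isSupersolvable_of_cyclic_normal` this gives induction. -/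
theorem exists_normal_prime_quotient {G : Type u} [Group G] [Finite G] [Nontrivial G]
    (h : Cfsg.IsSupersolvable G) :
    ∃ (Q : Subgroup G) (_ : Q.Normal), (Nat.card Q).Prime ∧ IsCyclic Q ∧
      Cfsg.IsSupersolvable (G ⧸ Q) := by
  obtain ⟨Q, hQ, -, hp⟩ := exists_normal_prime_le h (N := ⊤) top_ne_bot
  exact ⟨Q, hQ, hp, isCyclic_of_card_prime hp,
    isSupersolvable_of_surjective _ (QuotientGroup.mk'_surjective Q) h⟩

theorem ne_bot_of_card_prime {G : Type u} [Group G] {Q : Subgroup G} (hQ : (Nat.card Q).Prime) :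
    Q ≠ ⊥ := fun he => by
  rw [he, Subgroup.card_bot] at hQ
  exact Nat.not_prime_one hQ

/-- Finite `p`-groups are supersolvable. -/
theorem isSupersolvable_of_isPGroup {G : Type u} [Group G] [Finite G] {p : ℕ} [Fact p.Prime]
    (hG : IsPGroup p G) : Cfsg.IsSupersolvable G := by
  induction hn : Nat.card G using Nat.strong_induction_on generalizing G with
  | _ n ih =>
    subst hn
    rcases subsingleton_or_nontrivial G with h | h
    · exact isSupersolvable_of_subsingleton G
    · have := hG.center_nontrivial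
      have hd : p ∣ Nat.card (center G) :=
        (IsPGroup.card_eq_or_dvd (hG.to_subgroup _)).resolve_left Finite.one_lt_card.ne'
      obtain ⟨z, hz⟩ := exists_prime_orderOf_dvd_card' p hd
      have hn' : (zpowers (z : G)).Normal := ⟨fun y hy c => by
        have hyc : y ∈ center G := zpowers_le.mpr z.2 hy
        rwa [Subgroup.mem_center_iff.mp hyc c, mul_inv_cancel_right]⟩
      have hne : zpowers (z : G) ≠ ⊥ := by
        rw [Ne, Subgroup.zpowers_eq_bot]
        intro h1
        rw [← Subgroup.orderOf_coe, h1, orderOf_one] at hz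
        exact (Fact.out : p.Prime).ne_one hz.symm
      exact isSupersolvable_of_cyclic_normal (zpowers (z : G))
        (ih _ (card_quotient_lt hne) (hG.to_quotient _) rfl)

theorem isSolvable_of_isSupersolvable {G : Type u} [Group G] [Finite G]
    (h : Cfsg.IsSupersolvable G) : Group.IsSolvable G := by
  induction hn : Nat.card G using Nat.strong_induction_on generalizing G with
  | _ n ih =>
    subst hn
    rcases subsingleton_or_nontrivial G with hs | hs
    · exact Group.isSolvable_of_comm fun a b => Subsingleton.elim _ _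
    · obtain ⟨Q, hQn, hQp, hQc, hQs⟩ := exists_normal_prime_quotient h
      have := ih _ (card_quotient_lt (ne_bot_of_card_prime hQp)) hQs rfl
      have : Group.IsSolvable Q := Group.isSolvable_of_comm fun a b => by
        let := IsCyclic.commGroup (α := Q)
        exact mul_comm a b
      exact (Group.isSolvable_iff_subgroup_quotient Q).mpr ⟨this, inferInstance⟩

end CfsgLib.Solvable
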