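import Cfsg.Agent.Lib.Solvable.CoprimeProductCount
import Cfsg.Agent.Lib.Char.Burnside

/-!
# The theorem of Kegel and Wielandt
-/

namespace CfsgLib.Solvable

open Subgroup
open scoped Pointwise

universe u

variable {G : Type u} [Group G] [Finite G]

omit [Finite G] in
theorem isNilpotent_inf_subgroupOf {A : Subgroup G} (hA : Group.IsNilpotent A) (L : Subgroup G) :
    Group.IsNilpotent ((L ⊓ A).subgroupOf L) := by
  have := hA
  have : Group.IsNilpotent (L ⊓ A : Subgroup G) :=
    (Group.isNilpotent_congr (subgroupOfEquivOfLe inf_le_right)).1 inferInstance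
  exact (Group.isNilpotent_congr (subgroupOfEquivOfLe inf_le_left).symm).1 this

/-- A simple product of nilpotent subgroups of coprime orders is solvable. -/
theorem isSolvable_of_coprime_of_simple {A B : Subgroup G}
    (hsimple : ∀ N : Subgroup G, N.Normal → N = ⊥ ∨ N = ⊤)
    (hA : Group.IsNilpotent A) (hB : Group.IsNilpotent B)
    (hcop : (Nat.card A).Coprime (Nat.card B)) (hAB : ∀ g : G, ∃ a ∈ A, ∃ b ∈ B, g = a * b)
    (hsolv : ∀ L : Subgroup G, L ≠ ⊤ → (∀ g ∈ L, ∃ a ∈ L ⊓ A, ∃ b ∈ L ⊓ B, g = a * b) →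
      Group.IsSolvable L) : Group.IsSolvable G := by
  by_contra hns
  have : Nontrivial G := by
    by_contra hn
    have := not_nontrivial_iff_subsingleton.1 hn
    exact hns (Group.isSolvable_of_comm fun a b => Subsingleton.elim _ _)
  have hS : IsSimpleGroup G := ⟨fun N hN => hsimple N hN⟩
  -- each factor involves two primes
  have two : ∀ A B : Subgroup G, Group.IsNilpotent B → (Nat.card A).Coprime (Nat.card B) →
      (∀ g : G, ∃ a ∈ A, ∃ b ∈ B, g = a * b) → Group.IsNilpotent A →
      ∀ p : ℕ, ∃ r, r.Prime ∧ r ≠ p ∧ r ∣ Nat.card A := by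
    intro A B hB hcop hAB hA p
    by_contra hall
    push Not at hall
    by_cases hB1 : B = ⊥
    · refine hns ?_
      have hAtop : A = ⊤ := eq_top_iff.2 fun g _ => by
        obtain ⟨a, ha, b, hb, rfl⟩ := hAB g
        rw [hB1, mem_bot] at hb
        simpa [hb] using ha
      subst hAtop
      have := hA
      have : Group.IsNilpotent G := Group.isNilpotent_top.1 ‹_›
      infer_instance
    obtain ⟨k, hk⟩ : ∃ k, Nat.card A = p ^ k :=
      ⟨_, Nat.eq_prime_pow_of_unique_prime_dvd Nat.card_pos.ne' fun {r} hr hrA => by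
        by_contra hne; exact hall r hr hne hrA⟩
    obtain ⟨w, hw, hw1⟩ := exists_mem_ne_one_of_ne_bot
      (normal_inf_center_ne_bot (G := B) ⊤ (by
        intro e
        refine hB1 (eq_bot_of_card_eq _ ?_)
        rw [← card_top (G := B), e, card_bot]))
    have hBc : B ≤ centralizer {(w : G)} := fun b hb =>
      mem_centralizer_singleton_iff.2 (congrArg Subtype.val (mem_center_iff.1 hw.2 ⟨b, hb⟩))
    have hdvd : (centralizer ({(w : G)} : Set G)).index ∣ Nat.card A := by
      refine (index_dvd_of_le hBc).trans ?_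
      have hinf : A ⊓ B = ⊥ := disjoint_iff.1 (disjoint_of_coprime_natCard hcop)
      have := (forall_exists_mul_iff_card A B).1 hAB
      rw [hinf, card_bot, mul_one, ← B.card_mul_index, mul_comm (Nat.card A)] at this
      exact (Nat.eq_of_mul_eq_mul_left Nat.card_pos this).dvd
    by_cases hp : p.Prime
    · obtain ⟨i, -, hi⟩ := (Nat.dvd_prime_pow hp).1 (hk ▸ hdvd)
      have := Fact.mk (CfsgLib.Char.burnside_class_prime_power p i hp (w : G)
        (fun e => hw1 (Subtype.ext e)) hi)
      have := isCyclic_of_prime_card (rfl : Nat.card G = Nat.card G)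
      open scoped IsMulCommutative in
      exact hns (Group.isSolvable_of_comm fun a b => mul_comm a b)
    · have hA1 : Nat.card A = 1 := by
        rw [hk]
        rcases Nat.eq_zero_or_pos k with rfl | hk0
        · simp
        by_contra hne
        obtain ⟨r, hr, hrA⟩ := Nat.exists_prime_and_dvd hne
        exact hall r hr (fun e => hp (e ▸ hr)) (hk ▸ hrA)
      have hBtop : B = ⊤ := eq_top_iff.2 fun g _ => by
        obtain ⟨a, ha, b, hb, rfl⟩ := hAB g
        rw [card_eq_one.1 hA1, mem_bot] at ha
        simpa [ha] using hb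
      subst hBtop
      have := hB
      have : Group.IsNilpotent G := Group.isNilpotent_top.1 ‹_›
      exact hns inferInstance
  refine CoprimeFactors.elim (A := A) (B := B) ⟨hsimple, hA, hB, hcop, hAB, hsolv,
    two A B hB hcop hAB hA, two B A hA hcop.symm (fun g => ?_) hB⟩
  obtain ⟨a, ha, b, hb, e⟩ := hAB g⁻¹
  exact ⟨b⁻¹, inv_mem hb, a⁻¹, inv_mem ha, by rw [← mul_inv_rev, ← e, inv_inv]⟩

theorem exists_sylow_mul_conj {A B : Subgroup G} (hAB : ∀ g : G, ∃ a ∈ A, ∃ b ∈ B, g = a * b)
    {p : ℕ} [Fact p.Prime] (P : Sylow p A) (Q : Sylow p B) (hP : (P : Subgroup A).Normal)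
    (hQ : (Q : Subgroup B).Normal) (x : G) : ∃ S : Subgroup G, IsPGroup p S ∧
      (S : Set G) = (((P : Subgroup A).map A.subtype : Subgroup G) : Set G) *
        ((MulAut.conj x • (Q : Subgroup B).map B.subtype : Subgroup G) : Set G) := by
  obtain ⟨R, hR⟩ := exists_sylow_coe_eq_mul hAB P Q hP hQ
  obtain ⟨a, ha, b, hb, rfl⟩ := hAB x
  have hnA : (((P : Subgroup A).map A.subtype).subgroupOf A).Normal := by
    rw [← comap_subtype, comap_map_eq_self_of_injective A.subtype_injective]; exact hP
  have hnB : (((Q : Subgroup B).map B.subtype).subgroupOf B).Normal := by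
    rw [← comap_subtype, comap_map_eq_self_of_injective B.subtype_injective]; exact hQ
  refine ⟨MulAut.conj a • (R : Subgroup G), ?_, ?_⟩
  · exact R.2.map _
  · rw [coe_pointwise_smul, hR, smul_mul', ← coe_pointwise_smul, ← coe_pointwise_smul,
      conj_smul_eq_of_mem_normal (map_subtype_le _) hnA ha, ← conj_smul_conj_smul,
      conj_smul_eq_of_mem_normal (map_subtype_le _) hnB hb]

/-- The join of a normal subgroup `N` with the Sylow subgroup of a supplement is normal of index
prime to `p`. -/
theorem normal_sup_sylow_of_supplement {A N : Subgroup G} [N.Normal] (hAN : A ⊔ N = ⊤) {p : ℕ}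
    [Fact p.Prime] (P : Sylow p A) (hP : (P : Subgroup A).Normal) :
    (N ⊔ (P : Subgroup A).map A.subtype).Normal ∧
      ¬ p ∣ (N ⊔ (P : Subgroup A).map A.subtype).index := by
  set P' := (P : Subgroup A).map A.subtype with hP'
  set K := N ⊔ P' with hK
  have hnA : (P'.subgroupOf A).Normal := by
    rw [← comap_subtype, comap_map_eq_self_of_injective A.subtype_injective]; exact hP
  have hKn : K.Normal := by
    refine normalizer_eq_top_iff.1 (top_le_iff.1 (hAN ▸ sup_le (fun a ha => ?_) ?_))
    · refine conj_smul_eq_self_iff.1 ?_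
      rw [hK, smul_sup, Subgroup.Normal.conj_smul_eq_self a N,
        conj_smul_eq_of_mem_normal (map_subtype_le _) hnA ha]
    · exact le_sup_left.trans le_normalizer
  refine ⟨hKn, fun hd => P.not_dvd_index (hd.trans ?_)⟩
  have htop : K ⊔ A = ⊤ := top_le_iff.1 (hAN ▸ sup_le le_sup_right (le_sup_left.trans le_sup_left))
  rw [← K.relIndex_top_right, ← htop, relIndex_sup_left]
  refine (relIndex_dvd_of_le_left A (le_sup_right (a := N))).trans (dvd_of_eq ?_)
  rw [relIndex, hP', ← comap_subtype, comap_map_eq_self_of_injective A.subtype_injective]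

theorem kegel_wielandt_aux : ∀ (n : ℕ) {G : Type u} [Group G] [Finite G] (A B : Subgroup G),
    Nat.card G ≤ n → Group.IsNilpotent A → Group.IsNilpotent B →
    (∀ g : G, ∃ a ∈ A, ∃ b ∈ B, g = a * b) → Group.IsSolvable G := by
  intro n
  induction n with
  | zero => intro G _ _ A B hn; exact absurd hn (Nat.card_pos (α := G)).not_ge
  | succ n ih =>
    intro G _ _ A B hn hA hB hAB
    by_contra hns
    have hfac : ∀ L : Subgroup G, L ≠ ⊤ → (∀ g ∈ L, ∃ a ∈ L ⊓ A, ∃ b ∈ L ⊓ B, g = a * b) →
        Group.IsSolvable L := by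
      intro L hL hf
      refine ih ((L ⊓ A).subgroupOf L) ((L ⊓ B).subgroupOf L) ?_
        (isNilpotent_inf_subgroupOf hA L) (isNilpotent_inf_subgroupOf hB L) fun g => ?_
      · have := card_subgroup_lt hL; omega
      · obtain ⟨a, ha, b, hb, e⟩ := hf g g.2
        exact ⟨⟨a, ha.1⟩, ha, ⟨b, hb.1⟩, hb, Subtype.ext e⟩
    have hquot : ∀ N : Subgroup G, [N.Normal] → N ≠ ⊥ → Group.IsSolvable (G ⧸ N) := by
      intro N _ hN
      have := hA
      have := hB
      refine ih (A.map (QuotientGroup.mk' N)) (B.map (QuotientGroup.mk' N)) ?_ ?_ ?_ fun q => ?_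
      · have := card_quotient_lt hN; omega
      · exact Group.nilpotent_of_surjective _ (MonoidHom.subgroupMap_surjective _ A)
      · exact Group.nilpotent_of_surjective _ (MonoidHom.subgroupMap_surjective _ B)
      · obtain ⟨g, rfl⟩ := QuotientGroup.mk'_surjective N q
        obtain ⟨a, ha, b, hb, rfl⟩ := hAB g
        exact ⟨_, mem_map_of_mem _ ha, _, mem_map_of_mem _ hb, map_mul _ _ _⟩
    have hext : ∀ N : Subgroup G, [N.Normal] → N ≠ ⊥ → ¬ Group.IsSolvable N := fun N _ hN hNs =>
      hns (have := hquot N hN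
        have := hNs
        Group.isSolvable_of_ker_le_range N.subtype (QuotientGroup.mk' N) (by simp))
    have hsyl : ∀ (C : Subgroup G), Group.IsNilpotent C → ∀ (p : ℕ) [Fact p.Prime]
        (T : Sylow p C), (T : Subgroup C).Normal := fun C hC p _ T =>
      have := hC
      T.normal_of_normalizerCondition Group.normalizerCondition_of_isNilpotent
    by_cases hsimple : ∀ N : Subgroup G, N.Normal → N = ⊥ ∨ N = ⊤
    · by_cases hcop : (Nat.card A).Coprime (Nat.card B)
      · exact hns (isSolvable_of_coprime_of_simple hsimple hA hB hcop hAB hfac)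
      obtain ⟨p, hp, hpA, hpB⟩ := Nat.Prime.not_coprime_iff_dvd.1 hcop
      have := Fact.mk hp
      obtain ⟨P⟩ : Nonempty (Sylow p A) := inferInstance
      obtain ⟨Q⟩ : Nonempty (Sylow p B) := inferInstance
      obtain ⟨N, hN, hNtop, hle⟩ := kegel_lemma ((P : Subgroup A).map A.subtype)
        ((Q : Subgroup B).map B.subtype) fun x => by
          obtain ⟨S, hS, hSeq⟩ :=
            exists_sylow_mul_conj hAB P Q (hsyl A hA p P) (hsyl B hB p Q) x
          refine ⟨S, fun e => hns ?_, hSeq⟩
          have : IsPGroup p G := (e ▸ hS : IsPGroup p (⊤ : Subgroup G)).of_equiv topEquiv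
          have := this.isNilpotent
          infer_instance
      rcases hsimple N hN with rfl | rfl
      · rcases hle with hh | hh
        · exact P.ne_bot_of_dvd_card hpA
            ((map_eq_bot_iff_of_injective _ A.subtype_injective).1 (le_bot_iff.1 hh))
        · exact Q.ne_bot_of_dvd_card hpB
            ((map_eq_bot_iff_of_injective _ B.subtype_injective).1 (le_bot_iff.1 hh))
      · exact hNtop rfl
    push Not at hsimple
    obtain ⟨N₀, hN₀, hN₀b, hN₀t⟩ := hsimple
    obtain ⟨N, hN, hNb, hNle, hmin⟩ := exists_minimal_normal_le hN₀ hN₀b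
    have hNtop : N ≠ ⊤ := fun e => hN₀t (top_le_iff.1 (e ▸ hNle))
    have hAB' : ∀ g : G, ∃ b ∈ B, ∃ a ∈ A, g = b * a := fun g => by
      obtain ⟨a, ha, b, hb, e⟩ := hAB g⁻¹
      exact ⟨b⁻¹, inv_mem hb, a⁻¹, inv_mem ha, by rw [← mul_inv_rev, ← e, inv_inv]⟩
    -- both factors supplement `N`
    have hAN : A ⊔ N = ⊤ := by
      by_contra hne
      refine hext N hNb ?_
      have := hfac (A ⊔ N) hne fun g hg => by
        obtain ⟨a, ha, b, hb, rfl⟩ := hAB g
        exact ⟨a, ⟨mem_sup_left ha, ha⟩, b,
          ⟨((A ⊔ N).mul_mem_cancel_left (mem_sup_left ha)).1 hg, hb⟩, rfl⟩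
      exact Group.isSolvable_of_isSolvable_injective (inclusion_injective (le_sup_right (a := A)))
    have hBN : B ⊔ N = ⊤ := by
      by_contra hne
      refine hext N hNb ?_
      have := hfac (B ⊔ N) hne fun g hg => by
        obtain ⟨b, hb, a, ha, e⟩ := hAB' g⁻¹
        refine ⟨a⁻¹, mem_inf.2 ⟨?_, inv_mem ha⟩, b⁻¹, mem_inf.2 ⟨mem_sup_left (inv_mem hb), inv_mem hb⟩,
          by rw [← mul_inv_rev, ← e, inv_inv]⟩
        have h1 : g * b ∈ B ⊔ N := mul_mem hg (mem_sup_left hb)
        rw [← inv_inv g, e, mul_inv_rev, inv_mul_cancel_right] at h1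
        exact h1
      exact Group.isSolvable_of_isSolvable_injective (inclusion_injective (le_sup_right (a := B)))
    obtain ⟨p, hp, hpN⟩ := Nat.exists_prime_and_dvd (fun e => hNtop (index_eq_one.1 e))
    have := Fact.mk hp
    obtain ⟨P⟩ : Nonempty (Sylow p A) := inferInstance
    obtain ⟨Q⟩ : Nonempty (Sylow p B) := inferInstance
    obtain ⟨hKn, hKi⟩ := normal_sup_sylow_of_supplement hAN P (hsyl A hA p P)
    obtain ⟨hK'n, hK'i⟩ := normal_sup_sylow_of_supplement hBN Q (hsyl B hB p Q)
    set P' := (P : Subgroup A).map A.subtype with hP'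
    set Q' := (Q : Subgroup B).map B.subtype with hQ'
    set K := N ⊔ P' with hK
    have hle : ∀ T M : Subgroup G, M.Normal → ¬ p ∣ M.index → IsPGroup p T → T ≤ M := by
      intro T M hM hMi hT x hx
      refine mem_of_coprime_relIndex (N := ⊤) inferInstance (mem_top x) ?_
      obtain ⟨i, hi⟩ := IsPGroup.iff_card.1 hT
      rw [relIndex_top_right]
      exact ((hp.coprime_iff_not_dvd.2 hMi).pow_left i).coprime_dvd_left
        (hi ▸ Subgroup.orderOf_dvd_natCard T hx)
    have hQK : Q' ≤ K := hle Q' K hKn hKi (Q.2.map B.subtype)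
    have hPK : P' ≤ K := le_sup_right
    have hKK' : N ⊔ Q' = K := le_antisymm (sup_le le_sup_left hQK)
      (sup_le le_sup_left (hle P' _ hK'n hK'i (P.2.map A.subtype)))
    -- neither Sylow subgroup lies in a proper normal subgroup of `K`
    have finish : ∀ (C T : Subgroup G), C ⊔ N = ⊤ → N ⊔ T = K → T ≤ K →
        C ≤ normalizer (T : Set G) → ∀ M : Subgroup K, M.Normal → M ≠ ⊤ →
        T.subgroupOf K ≤ M → False := by
      intro C T hCN hNT hTK hCT M hM hMtop hTM
      set R := closure {g : G | ∃ k ∈ K, ∃ t ∈ T, g = k * t * k⁻¹} with hR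
      have hTR : T ≤ R := fun t ht => subset_closure ⟨1, one_mem K, t, ht, by simp⟩
      have hRM : R ≤ M.map K.subtype := by
        refine (closure_le _).2 ?_
        rintro _ ⟨k, hk, t, ht, rfl⟩
        exact ⟨⟨k, hk⟩ * ⟨t, hTK ht⟩ * ⟨k, hk⟩⁻¹, hM.conj_mem ⟨t, hTK ht⟩ (hTM ht) _, rfl⟩
      have hRn : R.Normal := by
        have hinv : ∀ c : G, c ∈ K ∨ c ∈ C → ∀ k ∈ K, ∀ t ∈ T,
            c * (k * t * k⁻¹) * c⁻¹ ∈ R := by
          rintro c (hc | hc) k hk t ht
          · exact subset_closure ⟨c * k, mul_mem hc hk, t, ht, by group⟩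
          · exact subset_closure ⟨c * k * c⁻¹, hKn.conj_mem k hk c, c * t * c⁻¹,
              (mem_normalizer_iff.1 (hCT hc) t).1 ht, by group⟩
        have hnorm : ∀ c : G, c ∈ K ∨ c ∈ C → c ∈ normalizer (R : Set G) := by
          intro c hc
          refine conj_smul_eq_self_iff.1 (eq_of_le_of_card_ge ?_ (card_conj_smul c R).ge)
          rw [conj_smul_eq_map, hR, MonoidHom.map_closure, closure_le]
          rintro _ ⟨_, ⟨k, hk, t, ht, rfl⟩, rfl⟩
          exact hinv c hc k hk t ht
        refine normalizer_eq_top_iff.1 (top_le_iff.1 (hCN ▸ sup_le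
          (fun c hc => hnorm c (Or.inr hc)) fun c hc => hnorm c (Or.inl ?_)))
        exact (le_sup_left (a := N) (b := T)).trans hNT.le hc
      have hRb : R ≠ ⊥ := fun e => by
        have hT : T = ⊥ := le_bot_iff.1 (e ▸ hTR)
        rw [hT, sup_bot_eq] at hNT
        exact hKi (hNT ▸ hpN)
      have hRN : R ⊓ N = ⊥ := by
        refine (hmin _ (normal_inf_normal R N) inf_le_right).resolve_right fun e => ?_
        refine hMtop ?_
        have h1 : K ≤ M.map K.subtype :=
          hNT.ge.trans (sup_le ((inf_eq_right.1 e).trans hRM) (hTR.trans hRM))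
        refine eq_top_iff.2 fun k _ => ?_
        obtain ⟨m, hm, e'⟩ := h1 k.2
        rwa [← Subtype.ext (show (m : G) = k from e')]
      refine hext N hNb ?_
      have := hquot R hRb
      refine Group.isSolvable_of_isSolvable_injective (f := (QuotientGroup.mk' R).comp N.subtype) ?_
      rw [← MonoidHom.ker_eq_bot_iff, eq_bot_iff]
      intro x hx
      have : (x : G) ∈ R ⊓ N := ⟨(QuotientGroup.eq_one_iff (x : G)).1 hx, x.2⟩
      rw [hRN, mem_bot] at this
      exact Subtype.ext this
    obtain ⟨M, hM, hMtop, hle'⟩ := kegel_lemma (G := K) (P'.subgroupOf K) (Q'.subgroupOf K)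
      fun x => by
        obtain ⟨S, hS, hSeq⟩ :=
          exists_sylow_mul_conj hAB P Q (hsyl A hA p P) (hsyl B hB p Q) (x : G)
        have hxQ : MulAut.conj (x : G) • Q' ≤ K :=
          (conj_smul_mono _ hQK).trans (Subgroup.Normal.conj_smul_eq_self _ K).le
        have hSK : S ≤ K := fun s hs => by
          obtain ⟨u, hu, v, hv, rfl⟩ := hSeq.le hs
          exact mul_mem (hPK hu) (hxQ hv)
        refine ⟨S.subgroupOf K, fun e => hext N hNb ?_, ?_⟩
        · have hKS : K ≤ S := fun k hk => by
            have : (⟨k, hk⟩ : K) ∈ S.subgroupOf K := e ▸ mem_top _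
            exact this
          have := (hS.to_le ((le_sup_left (a := N) (b := P')).trans hKS)).isNilpotent
          infer_instance
        · refine K.subtype_injective.image_injective ?_
          rw [Set.image_mul, ← coe_map, ← coe_map, ← coe_map, map_subgroupOf_eq_of_le hSK,
            map_subgroupOf_eq_of_le hPK, conj_smul_subtype, map_subgroupOf_eq_of_le hQK]
          exact hSeq
    have hnA : A ≤ normalizer (P' : Set G) := by
      have := le_normalizer_map (H := (P : Subgroup A)) A.subtype
      rwa [normalizer_eq_top_iff.2 (hsyl A hA p P), ← MonoidHom.range_eq_map, range_subtype] at this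
    have hnB : B ≤ normalizer (Q' : Set G) := by
      have := le_normalizer_map (H := (Q : Subgroup B)) B.subtype
      rwa [normalizer_eq_top_iff.2 (hsyl B hB p Q), ← MonoidHom.range_eq_map, range_subtype] at this
    rcases hle' with h | h
    · exact finish A P' hAN rfl hPK hnA M hM hMtop h
    · exact finish B Q' hBN hKK' hQK hnB M hM hMtop h

/-- The theorem of Kegel and Wielandt. -/
theorem isSolvable_of_mul_nilpotent (A B : Subgroup G) (hA : Group.IsNilpotent A)
    (hB : Group.IsNilpotent B) (hAB : ∀ g : G, ∃ a ∈ A, ∃ b ∈ B, g = a * b) :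
    Group.IsSolvable G :=
  kegel_wielandt_aux (Nat.card G) A B le_rfl hA hB hAB

/-- A nilpotent proper product of nilpotent subgroups: one factor is in a proper normal
subgroup. -/
theorem exists_normal_ge_of_isNilpotent [Group.IsNilpotent G] {B : Subgroup G} (hB : B ≠ ⊤) :
    ∃ N : Subgroup G, N.Normal ∧ N ≠ ⊤ ∧ B ≤ N := by
  obtain ⟨M, hM, hBM⟩ := (eq_top_or_exists_le_coatom B).resolve_left hB
  exact ⟨M, NormalizerCondition.normal_of_coatom M Group.normalizerCondition_of_isNilpotent hM,
    hM.1, hBM⟩

theorem exists_normal_ge_aux : ∀ (n : ℕ) {G : Type u} [Group G] [Finite G] (A B : Subgroup G),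
    Nat.card G ≤ n → Group.IsNilpotent A → Group.IsNilpotent B →
    (∀ g : G, ∃ a ∈ A, ∃ b ∈ B, g = a * b) → (A ≠ ⊤ ∨ B ≠ ⊤) →
    ∃ N : Subgroup G, N.Normal ∧ N ≠ ⊤ ∧ (A ≤ N ∨ B ≤ N) := by
  intro n
  induction n with
  | zero => intro G _ _ A B hn; exact absurd hn (Nat.card_pos (α := G)).not_ge
  | succ n ih =>
    intro G _ _ A B hn hA hB hAB hne
    by_cases hAt : A = ⊤
    · subst hAt
      have : Group.IsNilpotent G := Group.isNilpotent_top.1 hA
      obtain ⟨N, h1, h2, h3⟩ := exists_normal_ge_of_isNilpotent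
        (hne.resolve_left (fun h => h rfl))
      exact ⟨N, h1, h2, Or.inr h3⟩
    by_cases hBt : B = ⊤
    · subst hBt
      have : Group.IsNilpotent G := Group.isNilpotent_top.1 hB
      obtain ⟨N, h1, h2, h3⟩ := exists_normal_ge_of_isNilpotent hAt
      exact ⟨N, h1, h2, Or.inl h3⟩
    have := isSolvable_of_mul_nilpotent A B hA hB hAB
    have : Nontrivial G := by
      by_contra hn'
      have := not_nontrivial_iff_subsingleton.1 hn'
      exact hAt (Subsingleton.elim _ _)
    obtain ⟨N, hN, hNb, hmin⟩ := exists_minimal_normal (G := G)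
    by_cases hsup : A ⊔ N ≠ ⊤ ∨ B ⊔ N ≠ ⊤
    · set π := QuotientGroup.mk' N
      have hker : π.ker = N := QuotientGroup.ker_mk' N
      have hmap : ∀ C : Subgroup G, C ⊔ N ≠ ⊤ → C.map π ≠ ⊤ := fun C hC e => hC (by
        have := congrArg (Subgroup.comap π) e
        rwa [comap_map_eq, hker, comap_top] at this)
      obtain ⟨M, hM, hMtop, hle⟩ := ih (A.map π) (B.map π)
        (by have := card_quotient_lt hNb; omega)
        (have := hA; Group.nilpotent_of_surjective _ (MonoidHom.subgroupMap_surjective π A))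
        (have := hB; Group.nilpotent_of_surjective _ (MonoidHom.subgroupMap_surjective π B))
        (fun q => by
          obtain ⟨g, rfl⟩ := QuotientGroup.mk'_surjective N q
          obtain ⟨a, ha, b, hb, rfl⟩ := hAB g
          exact ⟨_, mem_map_of_mem _ ha, _, mem_map_of_mem _ hb, map_mul _ _ _⟩)
        (hsup.imp (hmap A) (hmap B))
      refine ⟨M.comap π, inferInstance, fun e => hMtop ?_, ?_⟩
      · rw [← map_comap_eq_self_of_surjective (QuotientGroup.mk'_surjective N) M, e,
          map_top_of_surjective _ (QuotientGroup.mk'_surjective N)]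
      · exact hle.imp map_le_iff_le_comap.1 map_le_iff_le_comap.1
    push Not at hsup
    obtain ⟨p, hp, hNp, -, hNab⟩ := exists_isPGroup_of_minimal_normal hNb hmin
    have := Fact.mk hp
    -- both factors are complements of `N`
    have hdisj : ∀ C : Subgroup G, C ⊔ N = ⊤ → C ≠ ⊤ → C ⊓ N = ⊥ := by
      intro C hC hCt
      have hn : (C ⊓ N).Normal := by
        refine normalizer_eq_top_iff.1 (top_le_iff.1 (hC ▸ sup_le (fun c hc => ?_) ?_))
        · refine conj_smul_eq_self_iff.1 ?_
          rw [Subgroup.smul_inf, conj_smul_eq_self_of_mem hc,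
            Subgroup.Normal.conj_smul_eq_self c N]
        · intro x hx
          refine centralizer_le_normalizer _ (mem_centralizer_iff.2 fun y hy => ?_)
          exact congrArg Subtype.val (hNab.is_comm.comm (⟨y, hy.2⟩ : N) ⟨x, hx⟩)
      refine (hmin _ hn inf_le_right).resolve_right fun e => hCt ?_
      rw [← hC, sup_eq_left.2 (inf_eq_right.1 e)]
    have hAn := hdisj A hsup.1 hAt
    have hBn := hdisj B hsup.2 hBt
    have hsyl : ∀ (C : Subgroup G), Group.IsNilpotent C → ∀ (T : Sylow p C),
        (T : Subgroup C).Normal := fun C hC T =>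
      have := hC
      T.normal_of_normalizerCondition Group.normalizerCondition_of_isNilpotent
    obtain ⟨P⟩ : Nonempty (Sylow p A) := inferInstance
    obtain ⟨Q⟩ : Nonempty (Sylow p B) := inferInstance
    obtain ⟨R, hR⟩ := exists_sylow_coe_eq_mul hAB P Q (hsyl A hA P) (hsyl B hB Q)
    set P' := (P : Subgroup A).map A.subtype with hP'
    set Q' := (Q : Subgroup B).map B.subtype with hQ'
    have hNR : N ≤ R := normal_pgroup_le_sylow hNp R
    -- `B` centralizes `N`
    have hBcen : B ≤ centralizer (N : Set G) := by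
      have hQn : ∀ (C T : Subgroup G), C ⊔ N = ⊤ → C ⊓ N = ⊥ → T ≤ C → IsPGroup p T →
          C ≤ normalizer (T : Set G) → T.Normal := by
        intro C T hC hCN hT hTp hCT
        refine normalizer_eq_top_iff.1 (top_le_iff.1 (hC ▸ sup_le hCT ?_))
        by_contra hTN
        set X := T ⊔ N with hX
        have hXp : IsPGroup p X := hTp.to_sup_of_normal_right hNp
        have hTX : T < X := lt_of_le_of_ne le_sup_left fun e => hTN
          ((le_sup_right.trans e.symm.le).trans le_normalizer)
        obtain ⟨x, hxX, hxN, hxT⟩ := CfsgLib.Transfer.exists_mem_normalizer_not_mem hXp hTX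
        -- `N_N(T)` is normal in `G`
        have hnn : (normalizer (T : Set G) ⊓ N).Normal := by
          refine normalizer_eq_top_iff.1 (top_le_iff.1 (hC ▸ sup_le (fun c hc => ?_) ?_))
          · refine conj_smul_eq_self_iff.1 ?_
            rw [Subgroup.smul_inf, conj_smul_eq_self_of_mem (hCT hc),
              Subgroup.Normal.conj_smul_eq_self c N]
          · intro y hy
            refine centralizer_le_normalizer _ (mem_centralizer_iff.2 fun z hz => ?_)
            exact congrArg Subtype.val (hNab.is_comm.comm (⟨z, hz.2⟩ : N) ⟨y, hy⟩)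
        rcases hmin _ hnn inf_le_right with e | e
        · obtain ⟨u, hu, v, hv, rfl⟩ : ∃ u ∈ T, ∃ v ∈ N, u * v = x := by
            have : x ∈ ((X : Subgroup G) : Set G) := hxX
            rw [hX, Subgroup.mul_normal] at this
            exact this
          have : v ∈ normalizer (T : Set G) ⊓ N :=
            ⟨(Subgroup.mul_mem_cancel_left _ (le_normalizer hu)).1 hxN, hv⟩
          rw [e, mem_bot] at this
          exact hxT (by rwa [this, mul_one])
        · exact hTN (inf_eq_right.1 e)
      have hnA : A ≤ normalizer (P' : Set G) := by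
        have := le_normalizer_map (H := (P : Subgroup A)) A.subtype
        rwa [normalizer_eq_top_iff.2 (hsyl A hA P), ← MonoidHom.range_eq_map, range_subtype] at this
      have hnB : B ≤ normalizer (Q' : Set G) := by
        have := le_normalizer_map (H := (Q : Subgroup B)) B.subtype
        rwa [normalizer_eq_top_iff.2 (hsyl B hB Q), ← MonoidHom.range_eq_map, range_subtype] at this
      have hPn := hQn A P' hsup.1 hAn (map_subtype_le _) (P.2.map _) hnA
      have hQn' := hQn B Q' hsup.2 hBn (map_subtype_le _) (Q.2.map _) hnB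
      have hQc : ∀ q ∈ Q', ∀ x ∈ N, x * q = q * x := fun q hq x hx =>
        (commute_of_normal_of_disjoint N Q' hN hQn'
          (disjoint_iff.2 (le_bot_iff.1 ((inf_le_inf_left N (map_subtype_le _)).trans
            (inf_comm B N ▸ hBn).le))) x q hx hq).eq
      intro b hb
      have := hB
      have := CfsgLib.Transfer.pResidual_normal (G := B) (p := p)
      obtain ⟨q, hq, c, hc, e⟩ := CfsgLib.Transfer.exists_mem_sylow_mul Q
        (C := Cfsg.pResidual p B) (fun g hg => CfsgLib.Transfer.mem_pResidual_of_coprime hg)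
        ⟨b, hb⟩
      have hres : Cfsg.pResidual p B ≤ (centralizer (N : Set G)).comap B.subtype := by
        rw [Cfsg.pResidual, closure_le]
        intro c hc
        refine mem_centralizer_iff.2 fun x hx => ?_
        obtain ⟨u, hu, v, hv, rfl⟩ := hR.le (hNR hx)
        obtain ⟨v', hv', rfl⟩ := hv
        obtain ⟨k, hk⟩ := (IsPGroup.iff_orderOf.1 Q.2) ⟨v', hv'⟩
        rw [Subgroup.orderOf_mk] at hk
        have hcv : (c : G) * v' = v' * c := congrArg Subtype.val
          (OddLocal.commute_of_coprime_of_isNilpotent hB (x := c) (y := v')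
            (hk ▸ Nat.Coprime.pow_right k hc)).eq
        set w := (c : G) * u * (c : G)⁻¹ with hw
        have h1 : w * (v' : G) ∈ N := by
          have := hN.conj_mem _ hx (c : G)
          have e : (c : G) * (u * v') * (c : G)⁻¹ = w * v' := by
            calc (c : G) * (u * v') * (c : G)⁻¹ = w * ((c : G) * v' * (c : G)⁻¹) := by
                  simp [hw, mul_assoc]
              _ = w * v' := by rw [hcv, mul_inv_cancel_right]
          rw [← e]
          exact this
        have h2 : w * u⁻¹ ∈ P' ⊓ N := by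
          refine mem_inf.2 ⟨mul_mem (hPn.conj_mem u hu _) (inv_mem hu), ?_⟩
          have := mul_mem h1 (inv_mem hx)
          simpa [mul_assoc] using this
        have h3 : P' ⊓ N = ⊥ :=
          le_bot_iff.1 ((inf_le_inf_right N (map_subtype_le _)).trans hAn.le)
        rw [h3, mem_bot, mul_inv_eq_one, hw, mul_inv_eq_iff_eq_mul] at h2
        change u * (v' : G) * c = c * (u * v')
        rw [mul_assoc, ← hcv, ← mul_assoc, ← h2, mul_assoc]
      have e' : b = (q : G) * c := congrArg Subtype.val e
      rw [e']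
      refine mul_mem (mem_centralizer_iff.2 fun x hx => ?_) (hres hc)
      exact hQc _ (mem_map_of_mem _ hq) x hx
    -- so `N` is central and normalizes `A`
    refine ⟨A, normalizer_eq_top_iff.1 (top_le_iff.1 (hsup.1 ▸ sup_le le_normalizer ?_)), hAt,
      Or.inl le_rfl⟩
    refine fun x hx => centralizer_le_normalizer _ (mem_centralizer_iff.2 fun a ha => ?_)
    have ha' : a ∈ ((B ⊔ N : Subgroup G) : Set G) := hsup.2 ▸ mem_top a
    rw [Subgroup.mul_normal] at ha'
    obtain ⟨b, hb, m, hm, rfl⟩ := ha'
    have h1 : m * x = x * m := congrArg Subtype.val (hNab.is_comm.comm (⟨m, hm⟩ : N) ⟨x, hx⟩)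
    have h2 := mem_centralizer_iff.1 (hBcen hb) x hx
    rw [mul_assoc, h1, ← mul_assoc, ← h2, mul_assoc]

end CfsgLib.Solvable
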