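import Cfsg.Agent.Lib.Solvable.MinNormal
import Mathlib.GroupTheory.SchurZassenhaus

/-!
Conjugacy of complements: the abelian case (Schur) and the case where the normal subgroup or
the quotient is solvable (Zassenhaus).
-/

set_option autoImplicit false

namespace CfsgLib.Solvable

open Subgroup MulOpposite
open scoped Pointwise

universe u

theorem exists_conj_eq_of_isComplement'_abelian {G : Type*} [Group G] [Finite G] {A : Subgroup G}
    [A.Normal] [IsMulCommutative A] (hA : (Nat.card A).Coprime A.index) {H K : Subgroup G}
    (hH : IsComplement' A H) (hK : IsComplement' A K) : ∃ a ∈ A, MulAut.conj a • H = K := by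
  have fix : ∀ L : Subgroup G, IsComplement' A L →
      ∃ q : A.QuotientDiff, MulAction.stabilizer G q = L := by
    intro L hL
    let T : A.LeftTransversal := ⟨(L : Set G), hL.symm⟩
    let q : A.QuotientDiff := Quotient.mk'' T
    have hle : L ≤ MulAction.stabilizer G q := by
      intro l hl
      rw [MulAction.mem_stabilizer_iff]
      show Quotient.mk'' (op l⁻¹ • T) = Quotient.mk'' T
      refine congrArg Quotient.mk'' (Subtype.ext ?_)
      show op l⁻¹ • (L : Set G) = (L : Set G)
      exact op_smul_coe_set (inv_mem hl)
    refine ⟨q, (eq_of_le_of_card_le hle ?_).symm⟩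
    have h1 := (isComplement'_stabilizer_of_coprime (α := q) hA).card_mul_card
    have h2 := hL.card_mul_card
    rw [← h2] at h1
    exact (Nat.eq_of_mul_eq_mul_left Nat.card_pos h1).le
  obtain ⟨α, hα⟩ := fix H hH
  obtain ⟨β, hβ⟩ := fix K hK
  obtain ⟨a, ha⟩ := exists_smul_eq hA α β
  refine ⟨a, a.2, ?_⟩
  rw [← hα, ← hβ, ← ha]
  ext x
  rw [mem_conj_smul, MulAction.mem_stabilizer_iff, MulAction.mem_stabilizer_iff, mul_smul, mul_smul,
    inv_smul_eq_iff]
  exact Iff.rfl

/-- Complements are the subgroups of order equal to the index, in the coprime case. -/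
theorem isComplement'_of_card_eq_index {G : Type*} [Group G] [Finite G] {N H : Subgroup G}
    (hN : (Nat.card N).Coprime N.index) (hH : Nat.card H = N.index) : IsComplement' N H :=
  isComplement'_of_coprime (by rw [hH, N.card_mul_index]) (by rwa [hH])

theorem card_eq_index_of_isComplement' {G : Type*} [Group G] {N H : Subgroup G}
    (h : IsComplement' N H) : Nat.card H = N.index :=
  h.symm.index_eq_card.symm

/-- If `K`, `H` lie in `U`, and are conjugate there. -/
theorem exists_conj_of_subgroupOf {G : Type*} [Group G] {U H K : Subgroup G} (hH : H ≤ U)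
    (hK : K ≤ U) (h : ∃ u : U, MulAut.conj u • H.subgroupOf U = K.subgroupOf U) :
    ∃ u ∈ U, MulAut.conj u • H = K := by
  obtain ⟨u, hu⟩ := h
  refine ⟨u, u.2, ?_⟩
  have := congrArg (Subgroup.map U.subtype) hu
  rwa [conj_smul_subtype, Subgroup.map_subgroupOf_eq_of_le hH,
    Subgroup.map_subgroupOf_eq_of_le hK] at this

/-- If the images of `H` and `K` modulo `M` are conjugate, then a conjugate of `H` lies in `K ⊔ M`. -/
theorem exists_conj_sup_eq_of_quotient {G : Type*} [Group G] {M : Subgroup G} [M.Normal]
    {H K : Subgroup G}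
    (h : ∃ g : G ⧸ M, MulAut.conj g • H.map (QuotientGroup.mk' M) = K.map (QuotientGroup.mk' M)) :
    ∃ g : G, MulAut.conj g • H ⊔ M = K ⊔ M := by
  obtain ⟨q, hq⟩ := h
  obtain ⟨g, rfl⟩ := QuotientGroup.mk'_surjective M q
  refine ⟨g, ?_⟩
  rw [← map_conj_smul] at hq
  have := congrArg (Subgroup.comap (QuotientGroup.mk' M)) hq
  rwa [Subgroup.comap_map_eq, Subgroup.comap_map_eq, QuotientGroup.ker_mk'] at this

theorem exists_conj_eq_of_isComplement'_aux : ∀ (n : ℕ) {G : Type u} [Group G] [Finite G],
    Nat.card G ≤ n → ∀ (N : Subgroup G) [N.Normal], (Nat.card N).Coprime N.index →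
      (Group.IsSolvable N ∨ Group.IsSolvable (G ⧸ N)) →
      ∀ H K : Subgroup G, IsComplement' N H → IsComplement' N K →
        ∃ g : G, MulAut.conj g • H = K := by
  intro n
  induction n with
  | zero => intro G _ _ hG; exact absurd hG (by have := Nat.card_pos (α := G); omega)
  | succ n ih =>
    intro G _ _ hG N _ hcop hsolv H K hH hK
    by_cases hNbot : N = ⊥
    · subst hNbot
      rw [isComplement'_bot_left] at hH hK
      exact ⟨1, by rw [hH, hK, conj_one_smul]⟩
    have hmk : Function.Surjective (QuotientGroup.mk' N) := QuotientGroup.mk'_surjective N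
    rcases hsolv with hN | hQ
    · -- normal subgroup solvable: pass to the quotient by a minimal normal subgroup below it
      obtain ⟨M, hMn, hMne, hMN, hmin⟩ := exists_minimal_normal_le ‹N.Normal› hNbot
      have : Group.IsSolvable M := Group.isSolvable_of_isSolvable_injective (f := Subgroup.inclusion hMN)
        (Subgroup.inclusion_injective hMN)
      have hMab := isMulCommutative_of_minimal_normal hMne hmin
      set π := QuotientGroup.mk' M with hπ
      have hsurj : Function.Surjective π := QuotientGroup.mk'_surjective M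
      have : (N.map π).Normal := Subgroup.Normal.map ‹_› _ hsurj
      have hidx : (N.map π).index = N.index := N.index_map_eq hsurj (by rwa [QuotientGroup.ker_mk'])
      have hcop' : (Nat.card (N.map π)).Coprime (N.map π).index := by
        rw [hidx]; exact hcop.coprime_dvd_left (card_map_mk'_dvd M N)
      have key : ∀ L : Subgroup G, IsComplement' N L → IsComplement' (N.map π) (L.map π) := by
        intro L hL
        refine isComplement'_of_card_eq_index hcop' ?_
        rw [hidx, ← card_eq_index_of_isComplement' hL]
        have hLM : L ⊓ M = ⊥ :=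
          le_bot_iff.mp ((inf_le_inf_left L hMN).trans hL.disjoint.symm.le_bot)
        have := card_map_mk'_mul M L
        rwa [hLM, Subgroup.card_bot, mul_one] at this
      have : Group.IsSolvable (N.map π) :=
        Group.isSolvable_of_surjective (f := π.subgroupMap N) (π.subgroupMap_surjective N)
      obtain ⟨g, hg⟩ := exists_conj_sup_eq_of_quotient (M := M)
        (ih (Nat.le_of_lt_succ ((card_quotient_lt hMne).trans_le hG)) (N.map π) hcop' (.inl this)
          _ _ (key H hH) (key K hK))
      set H' := MulAut.conj g • H with hH'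
      set U := K ⊔ M with hU
      have hHU : H' ≤ U := le_sup_left.trans hg.le
      have hMU : M ≤ U := le_sup_right
      have hKcop : (Nat.card K).Coprime (Nat.card M) := by
        rw [card_eq_index_of_isComplement' hK]
        exact (hcop.coprime_dvd_left (Subgroup.card_dvd_of_le hMN)).symm
      have hcardU : ∀ L : Subgroup G, L ≤ U → Nat.card L = Nat.card K →
          IsComplement' (M.subgroupOf U) (L.subgroupOf U) := by
        intro L hL hLK
        have e1 := Nat.card_congr (Subgroup.subgroupOfEquivOfLe hMU).toEquiv
        have e2 := Nat.card_congr (Subgroup.subgroupOfEquivOfLe hL).toEquiv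
        refine isComplement'_of_coprime ?_ ?_
        · rw [e1, e2, hLK]
          refine Nat.dvd_antisymm (hKcop.symm.mul_dvd_of_dvd_of_dvd (Subgroup.card_dvd_of_le hMU)
            (Subgroup.card_dvd_of_le le_sup_left)) ?_
          rw [mul_comm]; exact card_sup_dvd K M
        · rw [e1, e2, hLK]; exact hKcop.symm
      have hH'card : Nat.card H' = Nat.card K := by
        rw [hH', card_conj_smul, card_eq_index_of_isComplement' hH,
          card_eq_index_of_isComplement' hK]
      have c1 := hcardU H' hHU hH'card
      have c2 := hcardU K le_sup_left rfl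
      have hMcop : (Nat.card (M.subgroupOf U)).Coprime (M.subgroupOf U).index := by
        rw [← card_eq_index_of_isComplement' c2, Nat.card_congr (Subgroup.subgroupOfEquivOfLe hMU).toEquiv,
          Nat.card_congr (Subgroup.subgroupOfEquivOfLe (le_sup_left : K ≤ U)).toEquiv]
        exact hKcop.symm
      have : IsMulCommutative (M.subgroupOf U) :=
        ⟨⟨fun a b => Subtype.ext (Subtype.ext (congrArg (fun z : M => (z : G))
          (hMab.is_comm.comm ⟨a.1.1, a.2⟩ ⟨b.1.1, b.2⟩)))⟩⟩
      obtain ⟨a, -, ha⟩ := exists_conj_eq_of_isComplement'_abelian hMcop c1 c2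
      obtain ⟨u, -, hu⟩ := exists_conj_of_subgroupOf hHU le_sup_left ⟨a, ha⟩
      exact ⟨u * g, by rw [← conj_smul_conj_smul]; exact hu⟩
    · -- quotient solvable
      by_cases hNtop : N = ⊤
      · subst hNtop
        rw [isComplement'_top_left] at hH hK
        exact ⟨1, by rw [hH, hK, conj_one_smul]⟩
      have : Nontrivial (G ⧸ N) := by
        rw [← Finite.one_lt_card_iff_nontrivial, ← Subgroup.index_eq_card]
        exact N.one_lt_index_of_ne_top hNtop
      obtain ⟨Q, hQn, hQne, hQmin⟩ := exists_minimal_normal (G := G ⧸ N)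
      obtain ⟨p, hp, hQp, -, -⟩ := exists_isPGroup_of_minimal_normal hQne hQmin
      have : Fact p.Prime := ⟨hp⟩
      set R := Q.comap (QuotientGroup.mk' N) with hR
      have hNR : N ≤ R := by
        intro x hx; simp [hR, (QuotientGroup.eq_one_iff x).mpr hx]
      obtain ⟨k, hk⟩ := IsPGroup.iff_card.mp hQp
      have hk0 : k ≠ 0 := by
        rintro rfl
        rw [pow_zero, Subgroup.card_eq_one] at hk
        exact hQne hk
      have hRcard : Nat.card R = p ^ k * Nat.card N := by rw [hR, card_comap_mk', hk]
      have hpidx : p ∣ N.index := by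
        rw [Subgroup.index_eq_card]
        exact ((dvd_pow_self p hk0).trans hk.symm.dvd).trans Q.card_subgroup_dvd_card
      have hpN : ¬ p ∣ Nat.card N := fun hd =>
        hp.one_lt.ne' (Nat.dvd_one.mp (hcop ▸ Nat.dvd_gcd hd hpidx))
      have hRn : R.Normal := hQn.comap _
      have key : ∀ L : Subgroup G, IsComplement' N L →
          Nat.card (L ⊓ R : Subgroup G) = p ^ k := by
        intro L hL
        have hmap : (L ⊓ R).map (QuotientGroup.mk' N) = Q := by
          refine le_antisymm ((Subgroup.map_mono inf_le_right).trans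
            (Subgroup.map_comap_le _ _)) fun q hq => ?_
          obtain ⟨x, rfl⟩ := QuotientGroup.mk'_surjective N q
          have hx : x ∈ (L : Set G) * (N : Set G) := by rw [hL.symm.mul_eq]; trivial
          obtain ⟨l, hl, m, hm, rfl⟩ := Set.mem_mul.mp hx
          have hlm : (l * m : G) ∈ R := hq
          exact ⟨l, ⟨hl, (R.mul_mem_cancel_right (hNR hm)).mp hlm⟩,
            (QuotientGroup.eq.mpr (by simpa using hm))⟩
        have hdis : (L ⊓ R) ⊓ N = ⊥ :=
          le_bot_iff.mp ((inf_le_inf_right N inf_le_left).trans hL.disjoint.symm.le_bot)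
        have := card_map_mk'_mul N (L ⊓ R)
        rw [hdis, Subgroup.card_bot, mul_one, hmap, hk] at this
        exact this.symm
      -- Sylow `p`-subgroups of `R`
      have hfac : (Nat.card R).factorization p = k := by
        rw [hRcard, Nat.factorization_mul (pow_ne_zero k hp.ne_zero) Nat.card_pos.ne',
          Finsupp.add_apply, hp.factorization_pow, Finsupp.single_eq_same,
          Nat.factorization_eq_zero_of_not_dvd hpN, add_zero]
      have syl : ∀ L : Subgroup G, IsComplement' N L → ∃ P : Sylow p R,
          (P : Subgroup R) = (L ⊓ R).subgroupOf R := by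
        intro L hL
        refine ⟨Sylow.ofCard ((L ⊓ R).subgroupOf R) ?_, rfl⟩
        rw [Nat.card_congr (Subgroup.subgroupOfEquivOfLe inf_le_right).toEquiv, key L hL, hfac]
      obtain ⟨P1, hP1⟩ := syl H hH
      obtain ⟨P2, hP2⟩ := syl K hK
      obtain ⟨r, hr⟩ := MulAction.exists_smul_eq R P1 P2
      obtain ⟨g, -, hg⟩ := exists_conj_of_subgroupOf (H := H ⊓ R) (K := K ⊓ R) inf_le_right
        inf_le_right ⟨r, by rw [← hP1, ← hP2, ← hr, Sylow.coe_subgroup_smul]⟩
      set H' := MulAut.conj g • H with hH'
      set P := K ⊓ R with hP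
      have hPne : P ≠ ⊥ := fun h => by
        have := key K hK
        rw [← hP, h, Subgroup.card_bot] at this
        exact (Nat.one_lt_pow hk0 hp.one_lt).ne this
      have hH'R : H' ⊓ R = P := by
        rw [← hg, Subgroup.smul_inf, hH', Subgroup.Normal.conj_smul_eq_self g R]
      have hcH : IsComplement' N H' := by
        refine isComplement'_of_card_eq_index hcop ?_
        rw [hH', card_conj_smul, card_eq_index_of_isComplement' hH]
      set L := normalizer (P : Set G) with hL
      have hnor : ∀ X : Subgroup G, X ⊓ R = P → X ≤ L := by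
        intro X hX x hx
        rw [hL, ← conj_smul_eq_self_iff, ← hX, Subgroup.smul_inf, conj_smul_eq_self_of_mem hx,
          Subgroup.Normal.conj_smul_eq_self x R]
      have hHL : H' ≤ L := hnor H' hH'R
      have hKL : K ≤ L := hnor K hP.symm
      have hPL : P ≤ L := Subgroup.le_normalizer
      have : (P.subgroupOf L).Normal := Subgroup.normal_in_normalizer
      set πP := QuotientGroup.mk' (P.subgroupOf L) with hπP
      set N' := (N.subgroupOf L).map πP with hN'
      have : N'.Normal := Subgroup.Normal.map inferInstance _ (QuotientGroup.mk'_surjective _)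
      have hcd : (Nat.card (N.subgroupOf L)).Coprime (N.subgroupOf L).index :=
        (hcop.coprime_dvd_left (by
          simpa using Subgroup.card_comap_dvd_of_injective N L.subtype L.subtype_injective)).coprime_dvd_right
          (by simpa [Subgroup.relIndex] using Subgroup.relIndex_dvd_index_of_normal (H := N) (K := L))
      have hN'cop : (Nat.card N').Coprime N'.index :=
        (hcd.coprime_dvd_left (card_map_mk'_dvd _ _)).coprime_dvd_right
          (Subgroup.index_map_dvd _ (QuotientGroup.mk'_surjective _))
      have hcompl : ∀ X : Subgroup G, X ≤ L → X ⊓ R = P → IsComplement' N X →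
          IsComplement' N' ((X.subgroupOf L).map πP) := by
        intro X hXL hXR hX
        have hX1 : IsComplement' (N.subgroupOf L) (X.subgroupOf L) := by
          refine isComplement'_of_disjoint_and_mul_eq_univ ?_ ?_
          · rw [disjoint_iff, Subgroup.subgroupOf, Subgroup.subgroupOf, ← Subgroup.comap_inf, hX.disjoint.eq_bot, ← Subgroup.subgroupOf, Subgroup.bot_subgroupOf]
          · refine Set.eq_univ_of_forall fun x => ?_
            have hx : (x : G) ∈ (N : Set G) * (X : Set G) := by rw [hX.mul_eq]; trivial
            obtain ⟨m, hm, l, hl, hml⟩ := Set.mem_mul.mp hx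
            have hmL : m ∈ L := by
              rw [eq_mul_inv_of_mul_eq hml]; exact L.mul_mem x.2 (L.inv_mem (hXL hl))
            exact Set.mem_mul.mpr ⟨⟨m, hmL⟩, hm, ⟨l, hXL hl⟩, hl, Subtype.ext hml⟩
        have hPX : P.subgroupOf L ≤ X.subgroupOf L := Subgroup.comap_mono (hXR ▸ inf_le_left)
        refine isComplement'_of_card_eq_index hN'cop ?_
        have hdisj : (N.subgroupOf L) ⊓ P.subgroupOf L = ⊥ :=
          le_bot_iff.mp ((inf_le_inf_left _ hPX).trans hX1.disjoint.le_bot)
        have e1 : N'.index * Nat.card N' = (L ⧸ P.subgroupOf L |> Nat.card) := N'.index_mul_card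
        have e2 := card_map_mk'_mul (P.subgroupOf L) (N.subgroupOf L)
        rw [hdisj, Subgroup.card_bot, mul_one] at e2
        have e3 := card_map_mk'_eq (P.subgroupOf L) hPX
        have e4 := (P.subgroupOf L).card_eq_card_quotient_mul_card_subgroup
        rw [← hX1.card_mul_card, ← e1, ← e3] at e4
        rw [hN'] at e4 ⊢
        rw [e2] at e4
        refine Nat.eq_of_mul_eq_mul_right (m := Nat.card (N.subgroupOf L) * Nat.card (P.subgroupOf L))
          (Nat.mul_pos Nat.card_pos Nat.card_pos) ?_
        rw [hπP]; linarith
      have hlt : Nat.card (L ⧸ P.subgroupOf L) < Nat.card G := by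
        refine lt_of_lt_of_le (card_quotient_lt ?_) (Nat.le_of_dvd Nat.card_pos L.card_subgroup_dvd_card)
        rw [Ne, Subgroup.subgroupOf_eq_bot, disjoint_iff, inf_eq_left.mpr hPL]
        exact hPne
      have hsolvQ : Group.IsSolvable ((L ⧸ P.subgroupOf L) ⧸ N') := by
        have : Group.IsSolvable (L ⧸ N.subgroupOf L) :=
          Group.isSolvable_of_isSolvable_injective
            (f := QuotientGroup.map (N.subgroupOf L) N L.subtype le_rfl) (by
            refine (injective_iff_map_eq_one _).mpr fun x => ?_
            induction x using QuotientGroup.induction_on with | H y => ?_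
            intro hy
            exact (QuotientGroup.eq_one_iff y).mpr ((QuotientGroup.eq_one_iff (y : G)).mp hy))
        refine Group.isSolvable_of_surjective
          (f := QuotientGroup.lift (N.subgroupOf L)
            ((QuotientGroup.mk' N').comp πP) fun x hx => ?_) ?_
        · rw [MonoidHom.mem_ker, MonoidHom.comp_apply, QuotientGroup.mk'_apply,
            QuotientGroup.eq_one_iff]
          exact Subgroup.mem_map_of_mem _ hx
        · intro z
          obtain ⟨y, rfl⟩ := QuotientGroup.mk'_surjective N' z
          obtain ⟨x, rfl⟩ := QuotientGroup.mk'_surjective (P.subgroupOf L) y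
          exact ⟨QuotientGroup.mk' _ x, rfl⟩
      obtain ⟨u, hu⟩ := exists_conj_sup_eq_of_quotient (M := P.subgroupOf L)
        (ih (Nat.le_of_lt_succ (hlt.trans_le hG)) N' hN'cop (.inr hsolvQ) _ _
          (hcompl H' hHL hH'R hcH) (hcompl K hKL hP.symm hK))
      have hPK : P.subgroupOf L ≤ K.subgroupOf L := Subgroup.comap_mono (inf_le_left : P ≤ K)
      rw [sup_eq_left.mpr hPK] at hu
      have hle : MulAut.conj u • H'.subgroupOf L ≤ K.subgroupOf L := le_sup_left.trans hu.le
      have heq := eq_of_le_of_card_le hle (by
        rw [card_conj_smul, Nat.card_congr (Subgroup.subgroupOfEquivOfLe hHL).toEquiv,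
          Nat.card_congr (Subgroup.subgroupOfEquivOfLe hKL).toEquiv,
          card_eq_index_of_isComplement' hK, card_eq_index_of_isComplement' hcH])
      obtain ⟨v, -, hv⟩ := exists_conj_of_subgroupOf hHL hKL ⟨u, heq⟩
      exact ⟨v * g, by rw [← conj_smul_conj_smul]; exact hv⟩

/-- Zassenhaus: complements of a normal Hall subgroup are conjugate when it or its quotient is
solvable. -/
theorem exists_conj_eq_of_isComplement' {G : Type u} [Group G] [Finite G] (N : Subgroup G)
    [N.Normal] (hN : (Nat.card N).Coprime N.index)
    (hsolv : Group.IsSolvable N ∨ Group.IsSolvable (G ⧸ N)) {H K : Subgroup G}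
    (hH : IsComplement' N H) (hK : IsComplement' N K) : ∃ g : G, MulAut.conj g • H = K :=
  exists_conj_eq_of_isComplement'_aux _ le_rfl N hN hsolv H K hH hK

/-- The conjugating element may be taken in the normal subgroup. -/
theorem exists_mem_conj_eq_of_isComplement' {G : Type u} [Group G] [Finite G] (N : Subgroup G)
    [N.Normal] (hN : (Nat.card N).Coprime N.index)
    (hsolv : Group.IsSolvable N ∨ Group.IsSolvable (G ⧸ N)) {H K : Subgroup G}
    (hH : IsComplement' N H) (hK : IsComplement' N K) : ∃ a ∈ N, MulAut.conj a • H = K := by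
  obtain ⟨g, hg⟩ := exists_conj_eq_of_isComplement' N hN hsolv hH hK
  have hx : g ∈ (N : Set G) * (H : Set G) := by rw [hH.mul_eq]; trivial
  obtain ⟨a, ha, h, hh, rfl⟩ := Set.mem_mul.mp hx
  exact ⟨a, ha, by rwa [← conj_smul_conj_smul, conj_smul_eq_self_of_mem hh] at hg⟩

end CfsgLib.Solvable
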