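import Cfsg.Agent.Lib.Solvable.ItoFactor
import Cfsg.Agent.Lib.Solvable.KegelWielandt
import Mathlib.NumberTheory.ArithmeticFunction.Misc

/-!
# Products of an abelian subgroup and a subgroup of class two
-/

namespace CfsgLib.Solvable

open Subgroup
open scoped Pointwise commutatorElement

universe u

variable {G : Type u} [Group G]

/-- A proper supergroup of `A` meets `B'` if `G` is solvable and `B' ≠ 1`. -/
theorem exists_proper_meeting_derived [Finite G] [Group.IsSolvable G] {A B : Subgroup G}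
    [IsMulCommutative A] (hAB : ∀ g : G, ∃ a ∈ A, ∃ b ∈ B, g = a * b) (hAt : A ≠ ⊤)
    {z : G} (hz : z ∈ ⁅B, B⁆) (hz1 : z ≠ 1) (hzB : ∀ b ∈ B, b * z = z * b) :
    ∃ M : Subgroup G, A ≤ M ∧ M ≠ ⊤ ∧ ∃ w ∈ ⁅B, B⁆, w ≠ 1 ∧ w ∈ M := by
  by_contra hnone
  push Not at hnone
  obtain ⟨R, hR⟩ : ∃ R, Maximal (fun R : Subgroup G => R.Normal ∧ A ⊔ R ≠ ⊤) R :=
    (Set.toFinite {R : Subgroup G | R.Normal ∧ A ⊔ R ≠ ⊤}).exists_maximal
      ⟨⊥, inferInstance, by rw [sup_bot_eq]; exact hAt⟩
  obtain ⟨⟨hRn, hRA⟩, hRmax⟩ := hR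
  set π := QuotientGroup.mk' R with hπ
  have hker : π.ker = R := QuotientGroup.ker_mk' R
  set Ā := A.map π with hĀ
  have hĀt : Ā ≠ ⊤ := fun e => hRA (by
    have := congrArg (Subgroup.comap π) e
    rwa [hĀ, comap_map_eq, hker, comap_top] at this)
  have hbig : ∀ T : Subgroup (G ⧸ R), T.Normal → T ≠ ⊥ → Ā ⊔ T = ⊤ := by
    intro T hT hTb
    by_contra hne
    have h1 : T.comap π ≤ R := by
      refine hRmax ⟨inferInstance, fun e => hne ?_⟩ (le_trans hker.ge (comap_mono bot_le))
      rw [hĀ, ← map_comap_eq_self_of_surjective (QuotientGroup.mk'_surjective R) T,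
        ← Subgroup.map_sup, e, map_top_of_surjective _ (QuotientGroup.mk'_surjective R)]
    refine hTb (le_bot_iff.1 fun t ht => ?_)
    obtain ⟨g, rfl⟩ := QuotientGroup.mk'_surjective R t
    exact (QuotientGroup.eq_one_iff g).2 (h1 ht)
  have : Nontrivial (G ⧸ R) := by
    refine QuotientGroup.nontrivial_iff.2 fun e => hRA ?_
    rw [e, sup_top_eq]
  obtain ⟨T, hTn, hTb, hTmin⟩ := exists_minimal_normal (G := G ⧸ R)
  obtain ⟨p, -, -, -, hTab⟩ := exists_isPGroup_of_minimal_normal hTb hTmin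
  have hsup := hbig T hTn hTb
  have hĀab : ∀ a ∈ Ā, ∀ c ∈ Ā, a * c = c * a := by
    rintro _ ⟨a, ha, rfl⟩ _ ⟨c, hc, rfl⟩
    rw [← map_mul, ← map_mul, commute_of_isMulCommutative ha hc]
  have hdec : ∀ q : G ⧸ R, ∃ a ∈ Ā, ∃ t ∈ T, q = a * t := fun q => by
    have hq : q ∈ ((Ā ⊔ T : Subgroup (G ⧸ R)) : Set (G ⧸ R)) := by rw [hsup]; exact mem_top q
    rw [Subgroup.mul_normal] at hq
    obtain ⟨a, ha, t, ht, e⟩ := hq
    exact ⟨a, ha, t, ht, e.symm⟩
  -- the derived group lies in `T`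
  have hderived : commutator (G ⧸ R) ≤ T := by
    rw [_root_.commutator_def, commutator_le]
    intro x _ y _
    obtain ⟨a, ha, t, ht, rfl⟩ := hdec x
    obtain ⟨c, hc, s, hs, rfl⟩ := hdec y
    rw [← QuotientGroup.eq_one_iff (N := T), QuotientGroup.mk'_apply T _ |>.symm,
      map_commutatorElement, commutatorElement_eq_one_iff_mul_comm]
    simp only [map_mul, QuotientGroup.mk'_apply, (QuotientGroup.eq_one_iff t).2 ht,
      (QuotientGroup.eq_one_iff s).2 hs, mul_one]
    rw [← QuotientGroup.mk_mul, ← QuotientGroup.mk_mul, hĀab a ha c hc]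
  have hzT : π z ∈ T := hderived (map_derivedSeries_le_derivedSeries π 1 (mem_map_of_mem π
    ((commutator_mono le_top le_top : ⁅B, B⁆ ≤ commutator G) hz)))
  have hzA : π z ∉ Ā := by
    intro h
    refine hnone (A ⊔ R) le_sup_left hRA z hz hz1 ?_
    have h' : z ∈ (A.map π).comap π := h
    rwa [comap_map_eq, hker] at h'
  -- `B` maps into `T`
  have hB : B.map π ≤ T := by
    rintro _ ⟨b, hb, rfl⟩
    obtain ⟨a, ha, t, ht, e⟩ := hdec (π b)
    have hbz : π b * π z = π z * π b := by rw [← map_mul, ← map_mul, hzB b hb]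
    have htz : t * π z = π z * t := congrArg Subtype.val (hTab.is_comm.comm (⟨t, ht⟩ : T) ⟨π z, hzT⟩)
    have haz : a * π z = π z * a := by
      rw [e, mul_assoc, htz, ← mul_assoc, ← mul_assoc] at hbz
      exact mul_right_cancel hbz
    -- the fixed points of `a` on `T` form a normal subgroup
    have hn : (T ⊓ centralizer {a}).Normal := by
      refine normalizer_eq_top_iff.1 (top_le_iff.1 (hsup ▸ sup_le (fun c hc => ?_) ?_))
      · refine conj_smul_eq_self_iff.1 (eq_of_le_of_card_ge ?_ (card_conj_smul _ _).ge)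
        intro x hx
        rw [mem_conj_smul] at hx
        refine mem_inf.2 ⟨?_, mem_centralizer_singleton_iff.2 ?_⟩
        · have := hTn.conj_mem _ hx.1 c
          simpa [mul_assoc] using this
        · have h1 := mem_centralizer_singleton_iff.1 hx.2
          have h2 : c * a = a * c := hĀab c hc a ha
          calc x * a = c * ((c⁻¹ * x * c) * (c⁻¹ * a)) := by group
            _ = c * ((c⁻¹ * x * c) * (a * c⁻¹)) := by
              rw [show c⁻¹ * a = a * c⁻¹ from inv_mul_eq_iff_eq_mul.2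
                (by rw [← mul_assoc, h2, mul_inv_cancel_right])]
            _ = c * ((a * (c⁻¹ * x * c)) * c⁻¹) := by rw [← mul_assoc (c⁻¹ * x * c), h1]
            _ = (c * a) * (c⁻¹ * x) := by group
            _ = a * x := by rw [h2]; group
      · intro x hx
        refine centralizer_le_normalizer _ (mem_centralizer_iff.2 fun y hy => ?_)
        exact congrArg Subtype.val (hTab.is_comm.comm (⟨y, hy.1⟩ : T) ⟨x, hx⟩)
    rcases hTmin _ hn inf_le_left with h | h
    · exfalso
      have h1 : π z ∈ T ⊓ centralizer {a} := ⟨hzT, mem_centralizer_singleton_iff.2 haz.symm⟩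
      rw [h, mem_bot] at h1
      exact hzA (h1 ▸ one_mem _)
    · have hac : ∀ x ∈ T, x * a = a * x := fun x hx =>
        mem_centralizer_singleton_iff.1 ((inf_eq_left.1 h) hx)
      have han : (zpowers a).Normal := by
        refine ⟨fun x hx g => ?_⟩
        obtain ⟨c, hc, s, hs, rfl⟩ := hdec g
        obtain ⟨i, rfl⟩ := hx
        have h3 : Commute (c * s) a :=
          Commute.mul_left (show Commute c a from hĀab c hc a ha) (hac s hs)
        have := (h3.zpow_right i).eq
        rw [this, mul_inv_cancel_right]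
        exact ⟨i, rfl⟩
      have ha1 : a = 1 := by
        by_contra ha1
        refine hĀt ?_
        rw [← hbig _ han (fun e' => ha1 (zpowers_eq_bot.1 e')), sup_eq_left.2 ((zpowers_le).2 ha)]
      rw [e, ha1, one_mul]; exact ht
  have h1 : π z = 1 := by
    have h2 : π z ∈ (⁅B, B⁆).map π := mem_map_of_mem π hz
    rw [map_commutator] at h2
    have h3 := commutator_mono hB hB h2
    rw [commutator_eq_bot_iff_le_centralizer.2 (fun x hx => mem_centralizer_iff.2 fun y hy =>
      congrArg Subtype.val (hTab.is_comm.comm (⟨y, hy⟩ : T) ⟨x, hx⟩))] at h3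
    exact mem_bot.1 h3
  exact hzA (h1 ▸ one_mem _)

theorem isNilpotent_of_commutator_central {B : Subgroup G}
    (hB : ∀ z ∈ ⁅B, B⁆, ∀ b ∈ B, b * z = z * b) : Group.IsNilpotent B := by
  have hle : commutator B ≤ center B := fun z hz => mem_center_iff.2 fun b => Subtype.ext
    (hB z (B.map_subtype_commutator ▸ mem_map_of_mem B.subtype hz) b b.2)
  suffices h : Group.IsNilpotent (B ⧸ center B) from
    Subgroup.isNilpotent_of_ker_le_center (QuotientGroup.mk' (center B))
      (by rw [QuotientGroup.ker_mk'])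
  have hcomm : ∀ a b : B ⧸ center B, a * b = b * a := by
    intro a b
    induction a using QuotientGroup.induction_on with
    | _ a =>
      induction b using QuotientGroup.induction_on with
      | _ b =>
        rw [← QuotientGroup.mk_mul, ← QuotientGroup.mk_mul, eq_comm, QuotientGroup.eq]
        have := hle (commutator_mem_commutator (mem_top a⁻¹) (mem_top b⁻¹) :
          ⁅a⁻¹, b⁻¹⁆ ∈ commutator B)
        simpa [commutatorElement_def, mul_assoc] using this
  have : IsMulCommutative (B ⧸ center B) := ⟨⟨hcomm⟩⟩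
  open scoped IsMulCommutative in infer_instance

/-- `B'` meets a normal metabelian subgroup. -/
theorem exists_metabelian_meeting_derived [Finite G] {A B : Subgroup G} [IsMulCommutative A]
    (hAB : ∀ g : G, ∃ a ∈ A, ∃ b ∈ B, g = a * b)
    (hB : ∀ z ∈ ⁅B, B⁆, ∀ b ∈ B, b * z = z * b) (hne : ⁅B, B⁆ ≠ ⊥) :
    ∃ K : Subgroup G, K.Normal ∧ derivedSeries K 2 = ⊥ ∧ K ⊓ ⁅B, B⁆ ≠ ⊥ := by
  have hA : Group.IsNilpotent A := by open scoped IsMulCommutative in infer_instance
  obtain ⟨M, ⟨hAM, w, hw, hw1, hwM⟩, hmin⟩ : ∃ M, Minimal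
      (fun M : Subgroup G => A ≤ M ∧ ∃ w ∈ ⁅B, B⁆, w ≠ 1 ∧ w ∈ M) M := by
    obtain ⟨w, hw, hw1⟩ := exists_mem_ne_one_of_ne_bot hne
    exact (Set.toFinite {M : Subgroup G | A ≤ M ∧ ∃ w ∈ ⁅B, B⁆, w ≠ 1 ∧ w ∈ M}).exists_minimal
      ⟨⊤, le_top, w, hw, hw1, mem_top w⟩
  set A₁ := A.subgroupOf M with hA₁
  set B₁ := B.subgroupOf M with hB₁
  have hmul : ∀ g : M, ∃ a ∈ A₁, ∃ b ∈ B₁, g = a * b := fun g => by
    obtain ⟨a, ha, b, hb, e⟩ := hAB (g : G)
    exact ⟨⟨a, hAM ha⟩, ha, ⟨b, (Subgroup.mul_mem_cancel_left _ (hAM ha)).1 (e ▸ g.2)⟩, hb,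
      Subtype.ext e⟩
  have hA₁c : IsMulCommutative A₁ := isMulCommutative_subgroupOf A M
  have hle : (⁅B₁, B₁⁆ : Subgroup M).map M.subtype ≤ ⁅B, B⁆ := by
    rw [map_commutator]
    exact commutator_mono (map_le_iff_le_comap.2 le_rfl) (map_le_iff_le_comap.2 le_rfl)
  -- `B ∩ M` is abelian
  have hB₁ab : ⁅B₁, B₁⁆ = ⊥ := by
    by_contra hne₁
    obtain ⟨z, hz, hz1⟩ := exists_mem_ne_one_of_ne_bot hne₁
    have hB₁n : Group.IsNilpotent B₁ := isNilpotent_of_commutator_central fun z hz b hb =>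
      Subtype.ext (hB z (hle (mem_map_of_mem _ hz)) b hb)
    have := isSolvable_of_mul_nilpotent A₁ B₁
      ((have := hA; by open scoped IsMulCommutative in infer_instance)) hB₁n hmul
    have hA₁t : A₁ ≠ ⊤ := fun e => by
      refine hne₁ ((commutator_eq_bot_iff_le_centralizer).2 fun x _ => mem_centralizer_iff.2
        fun y _ => ?_)
      exact commute_of_isMulCommutative (A := A₁) (e ▸ mem_top y) (e ▸ mem_top x)
    obtain ⟨M₁, hAM₁, hM₁t, v, hv, hv1, hvM⟩ := exists_proper_meeting_derived hmul hA₁t hz hz1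
      fun b hb => Subtype.ext (hB z (hle (mem_map_of_mem _ hz)) b hb)
    refine hM₁t (top_le_iff.1 fun g _ => ?_)
    have h1 : A ≤ M₁.map M.subtype := fun a ha => ⟨⟨a, hAM ha⟩, hAM₁ ha, rfl⟩
    have h2 := hmin ⟨h1, (v : G), hle (mem_map_of_mem _ hv),
      fun e => hv1 (Subtype.ext e), mem_map_of_mem _ hvM⟩ (map_subtype_le _) g.2
    obtain ⟨g', hg', e⟩ := h2
    rwa [← Subtype.ext (show (g' : G) = g from e)]
  have hB₁c : IsMulCommutative B₁ := ⟨⟨fun a b => Subtype.ext <| by
    have h := commutator_eq_bot_iff_le_centralizer.1 hB₁ab a.2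
    exact (mem_centralizer_iff.1 h b b.2).symm⟩⟩
  have hM2 : derivedSeries M 2 = ⊥ := derivedSeries_two_of_mul_eq hmul
  set K := normalClosure {w} with hK
  have hKM : K ≤ M := by
    refine (Subgroup.closure_le _).2 fun c hc => ?_
    obtain ⟨c', hc', hcw⟩ := Group.mem_conjugatesOfSet_iff.1 hc
    rw [Set.mem_singleton_iff] at hc'
    rw [hc'] at hcw
    obtain ⟨g, rfl⟩ := isConj_iff.1 hcw
    obtain ⟨a, ha, b, hb, rfl⟩ := hAB g
    have e : a * b * w * (a * b)⁻¹ = a * w * a⁻¹ := by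
      rw [mul_assoc a b w, hB w hw b hb]; group
    rw [SetLike.mem_coe, e]
    exact mul_mem (mul_mem (hAM ha) hwM) (inv_mem (hAM ha))
  refine ⟨K, normalClosure_normal, ?_, fun e => hw1 ?_⟩
  · refine (map_eq_bot_iff_of_injective _ (inclusion_injective hKM)).1 (le_bot_iff.1 ?_)
    exact (map_derivedSeries_le_derivedSeries _ 2).trans hM2.le
  · have hwK : w ∈ K := subset_normalClosure (Set.mem_singleton w)
    exact mem_bot.1 (e ▸ mem_inf.2 ⟨hwK, hw⟩)

theorem derivedSeries_add_le {K : Subgroup G} {m : ℕ} (h : derivedSeries G m ≤ K) (j : ℕ) :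
    derivedSeries G (m + j) ≤ (derivedSeries K j).map K.subtype := by
  induction j with
  | zero => simpa [← MonoidHom.range_eq_map] using h
  | succ j ih =>
    rw [← add_assoc, derivedSeries_succ, derivedSeries_succ, map_commutator]
    exact commutator_mono ih ih

open ArithmeticFunction ArithmeticFunction.Omega in
theorem derived_length_aux : ∀ (n : ℕ) {G : Type u} [Group G] [Finite G] (A B : Subgroup G)
    [IsMulCommutative A], Nat.card G ≤ n → (∀ z ∈ ⁅B, B⁆, ∀ b ∈ B, b * z = z * b) →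
    (∀ g : G, ∃ a ∈ A, ∃ b ∈ B, g = a * b) →
    derivedSeries G (2 * (1 + Ω (Nat.card (⁅B, B⁆ : Subgroup G)))) = ⊥ := by
  intro n
  induction n with
  | zero => intro G _ _ A B _ h; exact absurd h (Nat.card_pos (α := G)).not_ge
  | succ n ih =>
    intro G _ _ A B _ hn hB hAB
    by_cases hne : ⁅B, B⁆ = ⊥
    · have : IsMulCommutative B := ⟨⟨fun a b => Subtype.ext
        (mem_centralizer_iff.1 (commutator_eq_bot_iff_le_centralizer.1 hne a.2) b b.2).symm⟩⟩
      have h2 := derivedSeries_two_of_mul_eq hAB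
      exact le_bot_iff.1 ((derivedSeries_antitone (G := G) (by omega)).trans h2.le)
    obtain ⟨K, hK, hK2, hKB⟩ := exists_metabelian_meeting_derived hAB hB hne
    have hKb : K ≠ ⊥ := fun e => hKB (by rw [e, bot_inf_eq])
    set π := QuotientGroup.mk' K with hπ
    set B' := ⁅B, B⁆ with hB'
    have hcomm : ⁅B.map π, B.map π⁆ = B'.map π := (map_commutator B B π).symm
    have hAc : IsMulCommutative (A.map π) := ⟨⟨by
      rintro ⟨_, a, ha, rfl⟩ ⟨_, c, hc, rfl⟩
      exact Subtype.ext (by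
        show π a * π c = π c * π a
        rw [← map_mul, ← map_mul, commute_of_isMulCommutative ha hc])⟩⟩
    have hBq : ∀ z ∈ ⁅B.map π, B.map π⁆, ∀ b ∈ B.map π, b * z = z * b := by
      rw [hcomm]
      rintro _ ⟨z, hz, rfl⟩ _ ⟨b, hb, rfl⟩
      rw [← map_mul, ← map_mul, hB z hz b hb]
    have hq := ih (A.map π) (B.map π) (by have := card_quotient_lt hKb; omega) hBq fun q => by
      obtain ⟨g, rfl⟩ := QuotientGroup.mk'_surjective K q
      obtain ⟨a, ha, b, hb, rfl⟩ := hAB g
      exact ⟨_, mem_map_of_mem _ ha, _, mem_map_of_mem _ hb, map_mul _ _ _⟩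
    rw [hcomm] at hq
    set m := 2 * (1 + Ω (Nat.card (B'.map π))) with hm
    have hmK : derivedSeries G m ≤ K := by
      have h1 := map_derivedSeries_le_derivedSeries π m
      rwa [hq, le_bot_iff, Subgroup.map_eq_bot_iff, hπ, QuotientGroup.ker_mk'] at h1
    have hlt : Ω (Nat.card (B'.map π)) + 1 ≤ Ω (Nat.card B') := by
      have h1 := card_map_mk'_mul K B'
      rw [← h1, cardFactors_mul Nat.card_pos.ne' Nat.card_pos.ne']
      refine Nat.add_le_add_left (cardFactors_pos_iff_one_lt.2 ?_) _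
      exact Finite.one_lt_card_iff_nontrivial.2 ((nontrivial_iff_ne_bot _).2
        (by rwa [inf_comm]))
    refine le_bot_iff.1 ((derivedSeries_antitone (G := G) (show m + 2 ≤ _ by omega)).trans ?_)
    refine (derivedSeries_add_le hmK 2).trans ?_
    rw [hK2, Subgroup.map_bot]

end CfsgLib.Solvable
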