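import Cfsg.Agent.Lib.OddLocal.PGroup
import Cfsg.Agent.Lib.Invol.TwoGroups
import Cfsg.Agent.Lib.Coprime.Abelian
import Mathlib.GroupTheory.SpecificGroups.Cyclic
import Mathlib.Data.ZMod.Basic
import Mathlib.FieldTheory.Finite.Basic
import Mathlib.RingTheory.Int.Basic

/-!
`p`-groups with a single subgroup of order `p` are cyclic or generalized quaternion.
-/

set_option autoImplicit false

namespace CfsgLib.Solvable

open Subgroup

variable {G : Type*} [Group G]

theorem mul_zpow_pow_of_conj {a x : G} {k : ℤ} (h : x⁻¹ * a * x = a ^ k) (j : ℤ) (m : ℕ) :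
    (x * a ^ j) ^ m = x ^ m * a ^ (j * ∑ i ∈ Finset.range m, k ^ i) := by
  induction m with
  | zero => simp
  | succ m ih =>
    have hc : ∀ z : ℤ, a ^ z * x = x * a ^ (k * z) := fun z => by
      rw [zpow_mul, ← h]
      have : (x⁻¹ * a * x) ^ z = x⁻¹ * a ^ z * x := by
        have := conj_zpow (i := z) (a := x⁻¹) (b := a)
        rwa [inv_inv] at this
      rw [this]; group
    rw [pow_succ, ih, mul_assoc, ← mul_assoc (a ^ _) x, hc, mul_assoc x, ← mul_assoc, ← pow_succ,
      ← zpow_add]
    congr 2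
    rw [Finset.mul_sum, Finset.mul_sum, Finset.mul_sum, Finset.sum_range_succ', pow_zero, mul_one]
    congr 1
    exact Finset.sum_congr rfl fun i _ => by rw [pow_succ]; ring

/-- If some `i + j S` is divisible by `q`, as soon as `gcd S q ∣ i`. -/
theorem exists_dvd_add_mul {S q i : ℤ} (h : (Int.gcd S q : ℤ) ∣ i) : ∃ j, q ∣ i + j * S := by
  obtain ⟨e, rfl⟩ := h
  refine ⟨-(e * Int.gcdA S q), e * Int.gcdB S q, ?_⟩
  rw [Int.gcd_eq_gcd_ab]
  ring

variable [Finite G] {p : ℕ} [hp : Fact p.Prime]

theorem zpowers_eq_of_orderOf_eq (huniq : ∀ H K : Subgroup G, Nat.card H = p → Nat.card K = p → H = K)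
    {x y : G} (hx : orderOf x = p) (hy : orderOf y = p) : zpowers x = zpowers y :=
  huniq _ _ ((Nat.card_zpowers x).trans hx) ((Nat.card_zpowers y).trans hy)

/-- The cyclic self-centralising subgroup: no element `y ∉ A` has order `p`. -/
theorem pow_ne_one_of_notMem (huniq : ∀ H K : Subgroup G, Nat.card H = p → Nat.card K = p → H = K)
    {a : G} {n : ℕ} (ha : orderOf a = p ^ (n + 1)) {y : G} (hy : y ∉ zpowers a) : y ^ p ≠ 1 := by
  intro h
  have hyo : orderOf y = p := orderOf_eq_prime h fun h1 => hy (h1 ▸ one_mem _)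
  have hao : orderOf (a ^ p ^ n) = p := by
    rw [orderOf_pow' _ (pow_ne_zero n hp.out.ne_zero), ha, Nat.gcd_eq_right (pow_dvd_pow p n.le_succ),
      Nat.pow_div n.le_succ hp.out.pos, Nat.succ_sub (le_refl n), Nat.sub_self, pow_one]
  apply hy
  have h2 : y ∈ zpowers (a ^ p ^ n) := zpowers_eq_of_orderOf_eq huniq hyo hao ▸ mem_zpowers y
  exact zpowers_le.mpr (pow_mem (mem_zpowers a) _) h2

theorem eq_or_quaternion_of_unique (hG : IsPGroup p G)
    (huniq : ∀ H K : Subgroup G, Nat.card H = p → Nat.card K = p → H = K)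
    {a : G} (hA : (zpowers a).Normal) (hself : centralizer (zpowers a : Set G) = zpowers a) :
    zpowers a = ⊤ ∨ (p = 2 ∧ ∃ n : ℕ, Nonempty (G ≃* QuaternionGroup (2 ^ n))) := by
  set A := zpowers a with hAdef
  by_cases htop : A = ⊤
  · exact Or.inl htop
  obtain ⟨e, he⟩ := (hG.to_subgroup A).exists_card_eq
  rw [hAdef, Nat.card_zpowers] at he
  obtain ⟨n, rfl⟩ : ∃ n, e = n + 1 := by
    rcases Nat.eq_zero_or_pos e with h0 | h0
    · exfalso
      rw [h0, pow_zero, orderOf_eq_one_iff] at he
      apply htop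
      have hb : A = ⊥ := by rw [hAdef, he, zpowers_one_eq_bot]
      rw [hb] at hself ⊢
      rw [← hself, eq_top_iff]
      intro g _
      simp [mem_centralizer_iff]
    · exact ⟨e - 1, by omega⟩
  have hcent : ∀ g : G, g⁻¹ * a * g = a → g ∈ A := by
    intro g hg
    rw [← hself, mem_centralizer_iff]
    intro b hb
    obtain ⟨z, rfl⟩ := mem_zpowers_iff.mp hb
    have hc : Commute g a := by
      calc g * a = g * (g⁻¹ * a * g) := by rw [hg]
        _ = a * g := by group
    exact ((hc.zpow_right z).eq).symm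
  have hconj : ∀ g : G, ∃ k : ℤ, g⁻¹ * a * g = a ^ k := by
    intro g
    have := hA.conj_mem a (mem_zpowers a) g⁻¹
    rw [inv_inv] at this
    obtain ⟨k, hk⟩ := mem_zpowers_iff.mp this
    exact ⟨k, hk.symm⟩
  have hzero : ∀ z : ℤ, a ^ z = 1 ↔ ((p : ℤ) ^ (n + 1) ∣ z) := fun z => by
    rw [← orderOf_dvd_iff_zpow_eq_one, he, Nat.cast_pow]
  have hpZ : Prime (p : ℤ) := Nat.prime_iff_prime_int.mp hp.out
  -- every element of order `p` modulo `A` inverts `A` and `p = 2`
  have key : ∀ x : G, x ∉ A → x ^ p ∈ A → p = 2 ∧ x⁻¹ * a * x = a⁻¹ := by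
    intro x hx hxp
    obtain ⟨k, hk⟩ := hconj x
    obtain ⟨i, hi⟩ := mem_zpowers_iff.mp hxp
    have hkne : ¬ (p : ℤ) ^ (n + 1) ∣ k - 1 := by
      intro hd
      apply hx
      refine hcent x ?_
      rw [hk]
      have := (hzero (k - 1)).mpr hd
      rw [zpow_sub_one, mul_inv_eq_one] at this
      exact this
    -- `x ^ p` commutes with `x`
    have hfix : (p : ℤ) ^ (n + 1) ∣ (k - 1) * i := by
      rw [← hzero, sub_mul, one_mul, zpow_sub, zpow_mul, ← hk]
      have e1 : (x⁻¹ * a * x) ^ i = x⁻¹ * a ^ i * x := by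
        have := conj_zpow (i := i) (a := x⁻¹) (b := a)
        rwa [inv_inv] at this
      rw [e1, hi, mul_inv_eq_one]
      group
    have hnosol : ∀ j : ℤ, ¬ (p : ℤ) ^ (n + 1) ∣ i + j * ∑ t ∈ Finset.range p, k ^ t := by
      intro j hd
      have hxj : x * a ^ j ∉ A := fun h => hx
        ((A.mul_mem_cancel_right (zpow_mem (mem_zpowers a) j)).mp h)
      refine pow_ne_one_of_notMem huniq he hxj ?_
      rw [mul_zpow_pow_of_conj hk, ← hi, ← zpow_add]
      exact (hzero _).mpr hd
    have hpi : (p : ℤ) ∣ i := by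
      by_contra hni
      exact hkne ((Prime.pow_dvd_of_dvd_mul_right hpZ _ hni hfix))
    by_cases hp2 : p = 2
    · subst hp2
      refine ⟨rfl, ?_⟩
      have hS : ∑ t ∈ Finset.range 2, k ^ t = 1 + k := by simp [Finset.sum_range_succ]
      suffices h : ((2 : ℕ) : ℤ) ^ (n + 1) ∣ k + 1 by
        rw [hk]
        have := (hzero (k + 1)).mpr h
        rw [zpow_add_one] at this
        exact eq_inv_of_mul_eq_one_left this
      by_contra hk1
      -- `gcd (1 + k) (2 ^ (n + 1)) ∣ i`
      obtain ⟨t, ht, hgt⟩ := (Nat.dvd_prime_pow Nat.prime_two).mp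
        (Int.natCast_dvd_natCast.mp (by
          have := Int.gcd_dvd_right (1 + k) (((2 : ℕ) : ℤ) ^ (n + 1))
          push_cast at this ⊢
          exact this) : Int.gcd (1 + k) (((2 : ℕ) : ℤ) ^ (n + 1)) ∣ 2 ^ (n + 1))
      have htd : (2 : ℤ) ^ t ∣ 1 + k := by
        have := Int.gcd_dvd_left (1 + k) (((2 : ℕ) : ℤ) ^ (n + 1))
        rw [hgt] at this
        exact_mod_cast this
      have htn : t ≠ n + 1 := fun h => hk1 (by push_cast; rw [add_comm k]; exact h ▸ htd)
      have hi' : (2 : ℤ) ^ t ∣ i := by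
        rcases Nat.lt_or_ge t 2 with h2 | h2
        · refine dvd_trans (pow_dvd_pow 2 (Nat.le_of_lt_succ h2)) ?_
          rw [pow_one]
          exact_mod_cast hpi
        · -- `k - 1` is twice an odd number
          have h4 : (4 : ℤ) ∣ 1 + k := dvd_trans (by
            have := pow_dvd_pow (2 : ℤ) h2; simpa using this) htd
          have hn1 : (2 : ℤ) ^ n ∣ i := by
            obtain ⟨u, hu⟩ : (2 : ℤ) ∣ k - 1 := by omega
            have hodd : ¬ (2 : ℤ) ∣ u := by omega
            have h5 : (2 : ℤ) * 2 ^ n ∣ 2 * (u * i) := by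
              rw [← pow_succ', ← mul_assoc, ← hu]; exact_mod_cast hfix
            exact (Int.prime_two).pow_dvd_of_dvd_mul_left _ hodd
              ((mul_dvd_mul_iff_left (two_ne_zero)).mp h5)
          exact dvd_trans (pow_dvd_pow 2 (by omega)) hn1
      obtain ⟨j, hj⟩ := exists_dvd_add_mul (S := 1 + k) (q := ((2 : ℕ) : ℤ) ^ (n + 1)) (i := i)
        (by rw [hgt]; exact_mod_cast hi')
      exact hnosol j (hS ▸ hj)
    · exfalso
      have hk1 : (p : ℤ) ∣ k - 1 := by
        -- from `a ^ (k ^ p) = a`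
        have hkp : (p : ℤ) ^ (n + 1) ∣ k ^ p - 1 := by
          have hm : ∀ m : ℕ, (x ^ m)⁻¹ * a * x ^ m = a ^ (k ^ m) := by
            intro m
            induction m with
            | zero => simp
            | succ m ih =>
              have e1 : x⁻¹ * a ^ (k ^ m) * x = (x⁻¹ * a * x) ^ (k ^ m) := by
                have := conj_zpow (i := k ^ m) (a := x⁻¹) (b := a)
                rw [inv_inv] at this
                exact this.symm
              calc (x ^ (m + 1))⁻¹ * a * x ^ (m + 1) = x⁻¹ * ((x ^ m)⁻¹ * a * x ^ m) * x := by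
                    rw [pow_succ]; group
                _ = a ^ (k ^ (m + 1)) := by rw [ih, e1, hk, ← zpow_mul, ← pow_succ']
          rw [← hzero, zpow_sub_one, ← hm p, ← hi]
          group
        have h1 : ((k : ZMod p)) ^ p = 1 := by
          have := dvd_trans (dvd_pow_self (p : ℤ) (Nat.succ_ne_zero n)) hkp
          rw [← ZMod.intCast_zmod_eq_zero_iff_dvd, Int.cast_sub, Int.cast_pow, Int.cast_one,
            sub_eq_zero] at this
          exact this
        rw [ZMod.pow_card] at h1
        rw [← ZMod.intCast_zmod_eq_zero_iff_dvd, Int.cast_sub, h1, Int.cast_one, sub_self]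
      obtain ⟨m, hm⟩ := hk1
      have hkm : k = 1 + (p : ℤ) * m := by linarith
      have hSp : ¬ ((p : ℤ) ^ 2) ∣ ∑ t ∈ Finset.range p, k ^ t := by
        intro hd
        have hlin : ∀ t : ℕ, ((p : ℤ) ^ 2) ∣ k ^ t - (1 + (t : ℤ) * (p * m)) := by
          intro t
          induction t with
          | zero => simp
          | succ t ih =>
            obtain ⟨c, hc⟩ := ih
            refine ⟨c * k + (t : ℤ) * m * m, ?_⟩
            have e1 : k ^ t = 1 + (t : ℤ) * (p * m) + (p : ℤ) ^ 2 * c := by linarith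
            rw [pow_succ, e1, hkm]
            push_cast
            ring
        have h2 := Finset.dvd_sum fun t (_ : t ∈ Finset.range p) => hlin t
        rw [Finset.sum_sub_distrib] at h2
        have h3 := (dvd_sub_right hd).mp h2
        rw [Finset.sum_add_distrib, ← Finset.sum_mul, Finset.sum_const, Finset.card_range,
          nsmul_eq_mul, mul_one, ← Nat.cast_sum, Finset.sum_range_id] at h3
        have hdiv : p ∣ p * (p - 1) / 2 := by
          obtain ⟨u, hu⟩ := Nat.Prime.even_sub_one hp.out hp2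
          rw [hu, show p * (u + u) = p * u * 2 by ring, Nat.mul_div_cancel _ two_pos]
          exact dvd_mul_right p u
        have h4 : ((p : ℤ) ^ 2) ∣ (((p * (p - 1) / 2 : ℕ) : ℤ)) * ((p : ℤ) * m) := by
          rw [sq, ← mul_assoc]
          exact dvd_trans (mul_dvd_mul (Int.natCast_dvd_natCast.mpr hdiv) dvd_rfl) (Dvd.intro m rfl)
        have h5 := (dvd_add_left h4).mp h3
        have : p ^ 2 ∣ p := by exact_mod_cast h5
        have := Nat.le_of_dvd hp.out.pos this
        have := hp.out.two_le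
        nlinarith
      obtain ⟨t, -, hgt⟩ := (Nat.dvd_prime_pow hp.out).mp
        (Int.natCast_dvd_natCast.mp (by
          have := Int.gcd_dvd_right (∑ t ∈ Finset.range p, k ^ t) ((p : ℤ) ^ (n + 1))
          push_cast at this ⊢
          exact this) : Int.gcd (∑ t ∈ Finset.range p, k ^ t) ((p : ℤ) ^ (n + 1)) ∣ p ^ (n + 1))
      have ht1 : t ≤ 1 := by
        by_contra h
        apply hSp
        refine dvd_trans ?_ (Int.gcd_dvd_left _ ((p : ℤ) ^ (n + 1)))
        rw [hgt, Nat.cast_pow]
        exact pow_dvd_pow _ (by omega)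
      obtain ⟨j, hj⟩ := exists_dvd_add_mul (S := ∑ t ∈ Finset.range p, k ^ t)
        (q := (p : ℤ) ^ (n + 1)) (i := i) (by
          rw [hgt, Nat.cast_pow]
          refine dvd_trans (pow_dvd_pow _ ht1) ?_
          rwa [pow_one])
      exact hnosol j hj
  -- an element outside `A`
  obtain ⟨g, hg⟩ : ∃ g, g ∉ A := by
    by_contra h
    push Not at h
    exact htop (eq_top_iff.mpr fun g _ => h g)
  have hsq : ∀ g : G, g ∉ A → p = 2 ∧ g ^ p ∈ A := by
    intro g hg
    classical
    have hex : ∃ r, g ^ p ^ r ∈ A := (hG g).imp fun r hr => by rw [hr]; exact one_mem A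
    have h0 : Nat.find hex ≠ 0 := fun h => hg (by simpa [h] using Nat.find_spec hex)
    obtain ⟨r, hr⟩ := Nat.exists_eq_succ_of_ne_zero h0
    have hspec : (g ^ p ^ r) ^ p ∈ A := by
      have := Nat.find_spec hex
      rw [hr] at this
      rwa [← pow_mul, ← pow_succ]
    have hmin : g ^ p ^ r ∉ A := Nat.find_min hex (by omega)
    obtain ⟨hp2, hinv⟩ := key _ hmin hspec
    refine ⟨hp2, ?_⟩
    rcases r with _ | r
    · simpa using hspec
    exfalso
    -- `a` would be inverted by a square
    obtain ⟨k, hk⟩ := hconj (g ^ p ^ r)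
    have e1 : g ^ p ^ (r + 1) = g ^ p ^ r * g ^ p ^ r := by
      rw [pow_succ, hp2, mul_comm, ← pow_add]; ring_nf
    rw [e1] at hinv
    have hk2 : a ^ (k * k + 1) = 1 := by
      rw [zpow_add_one, zpow_mul, ← hk]
      have := conj_zpow (i := k) (a := (g ^ p ^ r)⁻¹) (b := a)
      rw [inv_inv] at this
      rw [this, ← hk]
      rw [mul_inv_rev] at hinv
      rw [← eq_inv_iff_mul_eq_one, ← hinv]
      group
    rw [hzero] at hk2
    rcases n with _ | n
    · -- `A` of order `2` is central
      apply hmin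
      refine hcent _ ?_
      rw [e1, hinv, inv_eq_iff_mul_eq_one, ← sq, ← hp2]
      have := pow_orderOf_eq_one a
      rwa [he, Nat.zero_add, pow_one] at this
    · have h4 : (4 : ℤ) ∣ k * k + 1 := dvd_trans (by
        rw [hp2]; exact ⟨2 ^ n, by push_cast; ring⟩) hk2
      have h5 := Int.emod_eq_zero_of_dvd h4
      rw [Int.add_emod, Int.mul_emod] at h5
      have := Int.emod_nonneg k (four_ne_zero)
      have := Int.emod_lt_of_pos k (show (0 : ℤ) < 4 by norm_num)
      interval_cases (k % 4) <;> norm_num at h5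
  obtain ⟨hp2, hg2⟩ := hsq g hg
  subst hp2
  obtain ⟨-, hginv⟩ := key g hg hg2
  refine Or.inr ⟨rfl, n, ?_⟩
  have hgen : closure ({a, g} : Set G) = ⊤ := by
    refine eq_top_iff.mpr fun h _ => ?_
    have ha' : A ≤ closure ({a, g} : Set G) := zpowers_le.mpr (subset_closure (by simp))
    by_cases hh : h ∈ A
    · exact ha' hh
    · have hmem : g⁻¹ * h ∈ A := by
        refine hcent _ ?_
        have hhinv := (key h hh (hsq h hh).2).2
        have e2 : g * a * g⁻¹ = a⁻¹ := by
          have h3 := congrArg (fun z => g * z⁻¹ * g⁻¹) hginv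
          simp only [inv_inv] at h3
          rw [← h3]; group
        calc (g⁻¹ * h)⁻¹ * a * (g⁻¹ * h) = h⁻¹ * (g * a * g⁻¹) * h := by group
          _ = (h⁻¹ * a * h)⁻¹ := by rw [e2]; group
          _ = a := by rw [hhinv, inv_inv]
      rw [show h = g * (g⁻¹ * h) by group]
      exact mul_mem (subset_closure (by simp)) (ha' hmem)
  have hao : orderOf a = 2 * 2 ^ n := by rw [he, pow_succ']
  have hq : g * g = a ^ 2 ^ n := by
    obtain ⟨i, hi⟩ := mem_zpowers_iff.mp hg2
    rw [← sq, ← hi]
    have hii : a ^ (2 * i) = 1 := by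
      have e1 : g⁻¹ * a ^ i * g = (a ^ i)⁻¹ := by
        have := conj_zpow (i := i) (a := g⁻¹) (b := a)
        rw [inv_inv] at this
        rw [← this, hginv, inv_zpow]
      have e2 : g⁻¹ * a ^ i * g = a ^ i := by rw [hi]; group
      rw [two_mul, zpow_add, mul_eq_one_iff_eq_inv]
      exact e2.symm.trans e1
    have hne : ¬ (2 : ℤ) ^ (n + 1) ∣ i := by
      intro hd
      refine pow_ne_one_of_notMem huniq he hg ?_
      rw [← hi]; exact (hzero i).mpr (by exact_mod_cast hd)
    rw [hzero, Nat.cast_ofNat, pow_succ'] at hii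
    have h2 : (2 : ℤ) ^ n ∣ i := (mul_dvd_mul_iff_left two_ne_zero).mp hii
    obtain ⟨u, rfl⟩ := h2
    have hu : ¬ (2 : ℤ) ∣ u := fun h => hne (by rw [pow_succ]; exact mul_dvd_mul dvd_rfl h)
    obtain ⟨w, rfl⟩ : ∃ w, u = 2 * w + 1 := ⟨(u - 1) / 2, by omega⟩
    rw [mul_add, mul_one, zpow_add, (hzero _).mpr ⟨w, by push_cast; ring⟩, one_mul,
      ← zpow_natCast, Nat.cast_pow]
    norm_num
  have hqr : g * a * g⁻¹ = a⁻¹ := by
    have h3 := congrArg (fun z => g * z⁻¹ * g⁻¹) hginv
    simp only [inv_inv] at h3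
    rw [← h3]; group
  have : NeZero (2 ^ n) := ⟨by positivity⟩
  obtain ⟨e⟩ := CfsgLib.Invol.exists_mulEquiv_quaternion hao hq hqr hg
  exact ⟨(topEquiv.symm.trans (MulEquiv.subgroupCongr hgen.symm)).trans e⟩

/-- A `p`-group with one subgroup of order `p` is cyclic or generalized quaternion. -/
theorem isCyclic_or_quaternion_of_unique (hG : IsPGroup p G)
    (huniq : ∀ H K : Subgroup G, Nat.card H = p → Nat.card K = p → H = K) :
    IsCyclic G ∨ (p = 2 ∧ ∃ n : ℕ, Nonempty (G ≃* QuaternionGroup (2 ^ n))) := by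
  obtain ⟨A, -, hAn, hAab, hself⟩ := CfsgLib.OddLocal.exists_normal_self_centralizing hG
    (⊥ : Subgroup G) inferInstance
  -- abelian subgroups are cyclic
  have hcyc : IsCyclic A := by
    let _ : CommGroup A := { (inferInstance : Group A) with mul_comm := hAab.is_comm.comm }
    classical
    refine CfsgLib.Coprime.isCyclic_of_card_prime_roots fun q hq => ?_
    have : Fact q.Prime := ⟨hq⟩
    by_cases hqp : q = p
    · subst hqp
      by_contra hlt
      push Not at hlt
      have hne : (powMonoidHom q : A →* A).ker ≠ ⊥ := fun h => by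
        rw [h, Subgroup.card_bot] at hlt
        exact absurd hlt (not_lt.mpr hq.one_lt.le)
      obtain ⟨x, hx⟩ := Subgroup.ne_bot_iff_exists_ne_one.mp hne
      have hx2 : (x : A) ^ q = 1 := MonoidHom.mem_ker.mp x.2
      have hxo : orderOf ((x : A) : G) = q := by
        rw [Subgroup.orderOf_coe]
        exact orderOf_eq_prime hx2 fun h => hx (Subtype.ext h)
      have hsub : ∀ y : (powMonoidHom q : A →* A).ker, ((y : A) : G) ∈ zpowers (((x : A) : G)) := by
        intro y
        by_cases hy : ((y : A) : G) = 1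
        · rw [hy]; exact one_mem _
        · have hy2 : ((y : A) : G) ^ q = 1 := by
            have : (y : A) ^ q = 1 := MonoidHom.mem_ker.mp y.2
            exact congrArg Subtype.val this
          rw [← zpowers_eq_of_orderOf_eq huniq (orderOf_eq_prime hy2 hy) hxo]
          exact mem_zpowers _
      have hle := Nat.card_le_card_of_injective
        (fun y : (powMonoidHom q : A →* A).ker => (⟨((y : A) : G), hsub y⟩ : zpowers (((x : A) : G))))
        fun u v h => Subtype.ext (Subtype.ext (congrArg Subtype.val h :))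
      rw [Nat.card_zpowers, hxo] at hle
      omega
    · have : (powMonoidHom q : A →* A).ker = ⊥ := by
        rw [eq_bot_iff]
        intro x hx
        obtain ⟨r, hr⟩ := hG.to_subgroup A x
        rw [MonoidHom.mem_ker, powMonoidHom_apply] at hx
        exact Subgroup.mem_bot.mpr (orderOf_eq_one_iff.mp (Nat.eq_one_of_dvd_coprimes
          (Nat.Coprime.pow_right r ((Nat.coprime_primes hq hp.out).mpr hqp))
          (orderOf_dvd_of_pow_eq_one hx) (orderOf_dvd_of_pow_eq_one hr)))
      rw [this, Subgroup.card_bot]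
      exact hq.one_lt.le
  obtain ⟨a, ha⟩ := (Subgroup.isCyclic_iff_exists_zpowers_eq_top A).mp hcyc
  subst ha
  rcases eq_or_quaternion_of_unique hG huniq hAn hself with h | h
  · left
    exact ⟨⟨a, fun x => mem_zpowers_iff.mp (h ▸ Subgroup.mem_top x)⟩⟩
  · exact Or.inr h

end CfsgLib.Solvable
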