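import Cfsg.Agent.Lib.Solvable.FrobeniusKernel
import Cfsg.Agent.Lib.Solvable.UniqueSubgroup
import Cfsg.Agent.Lib.Coprime.Abelian
import Cfsg.Agent.Lib.Coprime.Generation
import Cfsg.Agent.Lib.Coprime.Sylow
import Mathlib.GroupTheory.Transfer
import Mathlib.GroupTheory.PGroup

/-!
Groups acting fixed-point-freely on abelian groups.
-/

set_option autoImplicit false

namespace CfsgLib.Solvable

open Subgroup
open scoped Pointwise

universe u

theorem comm_of_isCyclic {G : Type*} [Group G] [IsCyclic G] (a b : G) : a * b = b * a := by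
  obtain ⟨g, hg⟩ := IsCyclic.exists_generator (α := G)
  obtain ⟨m, rfl⟩ := mem_zpowers_iff.mp (hg a)
  obtain ⟨n, rfl⟩ := mem_zpowers_iff.mp (hg b)
  exact ((Commute.refl g).zpow_zpow m n).eq

/-- A group acting fixed-point-freely on a nontrivial abelian group of coprime order is not a
Frobenius group. -/
theorem not_isFrobeniusComplement_of_fpf {H : Type u} [Group H] [Finite H] {V : Type*} [CommGroup V]
    [Finite V] [Nontrivial V] (φ : H →* MulAut V) (hco : (Nat.card H).Coprime (Nat.card V))
    (hfpf : ∀ h : H, h ≠ 1 → ∀ v : V, φ h v = v → v = 1) (I : Subgroup H) :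
    ¬ Cfsg.IsFrobeniusComplement I := by
  classical
  intro hI
  obtain ⟨M, hMset, hM, hMI⟩ := exists_frobeniusKernel hI
  have := Fintype.ofFinite (H ⧸ I)
  let f : H ⧸ I → Subgroup H := fun a => MulAut.conj a.out • I
  have hf : Function.Injective f := by
    intro a b hab
    obtain ⟨t, ht⟩ := Subgroup.ne_bot_iff_exists_ne_one.mp hI.1
    have hm : a.out * (t : H) * a.out⁻¹ ∈ f a := mem_conj_smul.mpr (by simp [mul_assoc])
    have hm' : a.out * (t : H) * a.out⁻¹ ∈ f b := by rw [← hab]; exact hm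
    have h1 := frobenius_conj_unique hI (x := a.out) (y := b.out) (z := a.out * (t : H) * a.out⁻¹)
      (fun h => ht (Subtype.ext (conj_eq_one_iff.mp h))) hm hm'
    rw [← QuotientGroup.out_eq' a, ← QuotientGroup.out_eq' b]
    exact QuotientGroup.eq.mpr h1
  have hMne : ∀ a, f a ≠ M := by
    intro a ha
    obtain ⟨t, ht⟩ := Subgroup.ne_bot_iff_exists_ne_one.mp hI.1
    have hm : a.out * (t : H) * a.out⁻¹ ∈ Cfsg.frobeniusKernel I := by
      rw [← hMset, SetLike.mem_coe, ← ha]; exact mem_conj_smul.mpr (by simp [mul_assoc])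
    rcases hm with hm | hm
    · exact ht (Subtype.ext (conj_eq_one_iff.mp hm))
    · exact hm a.out (mem_conj_smul.mpr (by simp [mul_assoc]))
  set S : Finset (Subgroup H) := insert M (Finset.univ.image f) with hS
  have hScard : S.card - 1 = I.index := by
    rw [hS, Finset.card_insert_of_notMem, Finset.card_image_of_injective _ hf, Finset.card_univ,
      ← Nat.card_eq_fintype_card, ← Subgroup.index_eq_card, Nat.add_sub_cancel]
    intro h
    obtain ⟨a, -, ha⟩ := Finset.mem_image.mp h
    exact hMne a ha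
  have hpart : ∀ x : H, x ≠ 1 → ∃! B, B ∈ S ∧ x ∈ B := by
    intro x hx
    by_cases hxM : x ∈ M
    · refine ⟨M, ⟨Finset.mem_insert_self _ _, hxM⟩, ?_⟩
      rintro B ⟨hB, hxB⟩
      rcases Finset.mem_insert.mp hB with rfl | h
      · rfl
      · exfalso
        obtain ⟨a, -, rfl⟩ := Finset.mem_image.mp h
        rw [← SetLike.mem_coe, hMset] at hxM
        exact hxM.elim hx fun hk => hk _ hxB
    · have hxK : x ∉ Cfsg.frobeniusKernel I := hMset ▸ hxM
      simp only [Cfsg.frobeniusKernel, Set.mem_setOf_eq, not_or, not_forall, not_not] at hxK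
      obtain ⟨-, g, hg⟩ := hxK
      obtain ⟨k, hk⟩ := QuotientGroup.mk_out_eq_mul I g
      have hga : x ∈ f (g : H ⧸ I) := by
        show x ∈ MulAut.conj (g : H ⧸ I).out • I
        rw [hk, ← conj_smul_conj_smul, Subgroup.conj_smul_eq_self_of_mem k.2]
        exact hg
      refine ⟨_, ⟨Finset.mem_insert_of_mem (Finset.mem_image_of_mem f (Finset.mem_univ _)), hga⟩, ?_⟩
      rintro B ⟨hB, hxB⟩
      rcases Finset.mem_insert.mp hB with rfl | h
      · exact absurd hxB hxM
      · obtain ⟨b, -, rfl⟩ := Finset.mem_image.mp h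
        congr 1
        rw [← QuotientGroup.out_eq' b, ← QuotientGroup.out_eq' (g : H ⧸ I)]
        exact QuotientGroup.eq.mpr (frobenius_conj_unique hI hx hxB hga)
  obtain ⟨B, hB, v, hv, hfix⟩ := CfsgLib.Coprime.exists_fixed_of_partition (φ := φ) S
    (Finset.insert_nonempty _ _) hpart (hScard ▸ hco.coprime_dvd_left (Subgroup.index_dvd_card I))
  have hBne : B ≠ ⊥ := by
    rcases Finset.mem_insert.mp hB with rfl | h
    · intro hb
      have := hMI.index_eq_card
      rw [hb, Subgroup.card_bot, Subgroup.index_eq_one] at this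
      exact hI.2.1 this
    · obtain ⟨a, -, rfl⟩ := Finset.mem_image.mp h
      intro hb
      exact hI.1 (Subgroup.card_eq_one.mp (by rw [← card_conj_smul a.out I, show MulAut.conj a.out • I = ⊥ from hb, Subgroup.card_bot]))
  obtain ⟨b, hb⟩ := Subgroup.ne_bot_iff_exists_ne_one.mp hBne
  exact hv (hfpf b (fun h => hb (Subtype.ext h)) v (hfix b b.2))

variable {H : Type u} [Group H] [Finite H] {V : Type*} [CommGroup V] [Finite V] [Nontrivial V]
  (φ : H →* MulAut V) (hfpf : ∀ h : H, h ≠ 1 → ∀ v : V, φ h v = v → v = 1)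

omit [Nontrivial V] in
include hfpf in
/-- A fixed-point-free group of automorphisms has order prime to the group. -/
theorem coprime_of_fpf : (Nat.card H).Coprime (Nat.card V) := by
  refine Nat.coprime_of_dvd fun q hq hqH hqV => ?_
  have : Fact q.Prime := ⟨hq⟩
  obtain ⟨h, hh⟩ := exists_prime_orderOf_dvd_card' q hqH
  set Z := zpowers h
  let _ : MulAction Z V := MulAction.compHom V (φ.comp Z.subtype)
  have hZ : IsPGroup q Z := IsPGroup.of_card (n := 1) (by rw [pow_one, Nat.card_zpowers, hh])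
  have h1 : (1 : V) ∈ MulAction.fixedPoints Z V := fun z => map_one (φ (z : H))
  obtain ⟨v, hv, hv1⟩ := hZ.exists_fixed_point_of_prime_dvd_card_of_fixed_point V hqV h1
  refine hv1 (hfpf h ?_ v (hv ⟨h, mem_zpowers h⟩)).symm
  intro h0
  rw [h0, orderOf_one] at hh
  exact hq.ne_one hh.symm

include hfpf in
theorem isCyclic_of_fpf (B : Subgroup H) [IsMulCommutative B] : IsCyclic B := by
  by_contra hnc
  obtain ⟨a, ha, v, hv, hfix⟩ := CfsgLib.Coprime.exists_ne_one_fixed_of_not_isCyclic (φ.comp B.subtype)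
    ((coprime_of_fpf φ hfpf).coprime_dvd_left B.card_subgroup_dvd_card) hnc
  exact hv (hfpf a (fun h => ha (Subtype.ext h)) v hfix)

include hfpf in
theorem zpowers_eq_of_commute_of_fpf {p : ℕ} (hp : p.Prime) {x y : H} (hx : orderOf x = p)
    (hy : orderOf y = p) (hc : Commute x y) : zpowers x = zpowers y := by
  have hB : IsMulCommutative (closure ({x, y} : Set H)) := by
    refine Subgroup.isMulCommutative_closure fun a ha b hb => ?_
    rcases ha with rfl | rfl <;> rcases hb with rfl | rfl
    exacts [rfl, hc, hc.symm, rfl]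
  have := isCyclic_of_fpf φ hfpf (closure ({x, y} : Set H))
  set B := closure ({x, y} : Set H)
  obtain ⟨g, hg⟩ := IsCyclic.exists_generator (α := B)
  have hsub : ∀ z : H, z ∈ B → orderOf z = p → zpowers z = (zpowers ((g : H) ^ (orderOf g / p))) := by
    intro z hz hzo
    obtain ⟨k, hk⟩ := mem_zpowers_iff.mp (hg ⟨z, hz⟩)
    have hk' : (g : H) ^ k = z := by rw [← Subgroup.coe_zpow, hk]
    refine Subgroup.eq_of_le_of_card_ge (zpowers_le.mpr ?_) ?_
    · have h1 : ((g : H)) ^ (k * p) = 1 := by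
        rw [zpow_mul, hk', zpow_natCast, ← hzo, pow_orderOf_eq_one]
      have h2 := orderOf_dvd_iff_zpow_eq_one.mpr h1
      rw [Subgroup.orderOf_coe] at h2
      have hpd : p ∣ orderOf g := by
        rw [← hzo, ← hk', ← Subgroup.orderOf_coe]
        exact (orderOf_dvd_iff_pow_eq_one.mpr (by
          rw [← zpow_natCast, ← zpow_mul, mul_comm, zpow_mul, zpow_natCast, pow_orderOf_eq_one, one_zpow]))
      obtain ⟨m, hm⟩ := hpd
      rw [hm, Nat.cast_mul, mul_comm k (p : ℤ)] at h2
      obtain ⟨j, rfl⟩ := (mul_dvd_mul_iff_left (Int.natCast_ne_zero.mpr hp.ne_zero)).mp h2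
      rw [← hk', hm, Nat.mul_div_cancel_left _ hp.pos, zpow_mul, zpow_natCast]
      exact zpow_mem (mem_zpowers _) _
    · rw [Nat.card_zpowers, Nat.card_zpowers, hzo]
      refine Nat.le_of_dvd hp.pos (orderOf_dvd_of_pow_eq_one ?_)
      have hpd : p ∣ orderOf g := by
        rw [← hzo, ← hk', ← Subgroup.orderOf_coe]
        exact (orderOf_dvd_iff_pow_eq_one.mpr (by
          rw [← zpow_natCast, ← zpow_mul, mul_comm, zpow_mul, zpow_natCast, pow_orderOf_eq_one, one_zpow]))
      rw [← pow_mul, Nat.div_mul_cancel hpd, ← Subgroup.orderOf_coe, pow_orderOf_eq_one]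
  rw [hsub x (subset_closure (by simp)) hx, hsub y (subset_closure (by simp)) hy]

include hfpf in
theorem isCyclic_or_quaternion_of_fpf {p : ℕ} [Fact p.Prime] (P : Sylow p H) :
    IsCyclic P ∨ (p = 2 ∧ ∃ n : ℕ, Nonempty (P ≃* QuaternionGroup (2 ^ n))) := by
  refine isCyclic_or_quaternion_of_unique P.2 fun A B hA hB => ?_
  by_cases hP : (P : Subgroup H) = ⊥
  · exfalso
    have := Nat.le_of_dvd Nat.card_pos (Subgroup.card_subgroup_dvd_card A)
    rw [hA, hP, Subgroup.card_bot] at this
    exact absurd this (not_le.mpr (Fact.out : p.Prime).one_lt)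
  have := (P : Subgroup H).nontrivial_iff_ne_bot.mpr hP
  have hnt := P.2.center_nontrivial
  obtain ⟨k, hk, hkc⟩ := ((P.2.to_subgroup (center (P : Subgroup H))).nontrivial_iff_card).mp hnt
  obtain ⟨z, hz⟩ := exists_prime_orderOf_dvd_card' p
    (G := center (P : Subgroup H)) (by rw [hkc]; exact dvd_pow_self p hk.ne')
  have hzo : orderOf ((z : (P : Subgroup H)) : H) = p := by
    rw [Subgroup.orderOf_coe, Subgroup.orderOf_coe, hz]
  have key : ∀ C : Subgroup (P : Subgroup H), Nat.card C = p →
      C = zpowers (z : (P : Subgroup H)) := by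
    intro C hC
    obtain ⟨c, hc⟩ := exists_prime_orderOf_dvd_card' p (G := C) (by rw [hC])
    have hco : orderOf ((c : (P : Subgroup H)) : H) = p := by
      rw [Subgroup.orderOf_coe, Subgroup.orderOf_coe, hc]
    have h1 := zpowers_eq_of_commute_of_fpf φ hfpf Fact.out hco hzo
      (congrArg Subtype.val (Subgroup.mem_center_iff.mp z.2 (c : (P : Subgroup H))))
    have h2 : zpowers (c : (P : Subgroup H)) = C := Subgroup.eq_of_le_of_card_ge
      (zpowers_le.mpr c.2) (by rw [Nat.card_zpowers, Subgroup.orderOf_coe, hc, hC])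
    rw [← h2]
    refine Subgroup.map_injective (P : Subgroup H).subtype_injective ?_
    rw [MonoidHom.map_zpowers, MonoidHom.map_zpowers]
    exact h1
  rw [key A hA, key B hB]

include hfpf in
theorem normal_or_frobenius_of_prime {p : ℕ} (hp : p.Prime) {I : Subgroup H} (hI : Nat.card I = p)
    (hidx : I.index.Prime) : I.Normal := by
  by_contra hn
  refine not_isFrobeniusComplement_of_fpf φ (coprime_of_fpf φ hfpf) hfpf I ⟨?_, ?_, fun g hg => ?_⟩
  · intro h
    rw [h, Subgroup.card_bot] at hI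
    exact hp.ne_one hI.symm
  · intro h
    rw [h, Subgroup.index_top] at hidx
    exact Nat.not_prime_one hidx
  · have hN : normalizer (I : Set H) = I := by
      have hd := Subgroup.index_dvd_of_le (Subgroup.le_normalizer (H := I))
      rcases (Nat.dvd_prime hidx).mp hd with h | h
      · exact absurd (Subgroup.normalizer_eq_top_iff.mp (Subgroup.index_eq_one.mp h)) hn
      · refine (Subgroup.eq_of_le_of_card_ge Subgroup.le_normalizer (le_of_eq ?_)).symm
        have e1 := I.card_mul_index
        have e2 := (normalizer (I : Set H)).card_mul_index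
        rw [h, ← e1] at e2
        exact Nat.eq_of_mul_eq_mul_right hidx.pos e2
    have hd2 := Subgroup.card_dvd_of_le (inf_le_left : I ⊓ MulAut.conj g • I ≤ I)
    rw [hI] at hd2
    rcases (Nat.dvd_prime hp).mp hd2 with h | h
    · exact Subgroup.card_eq_one.mp h
    · exfalso
      apply hg
      have e1 : I ⊓ MulAut.conj g • I = I := Subgroup.eq_of_le_of_card_ge inf_le_left (by rw [h, hI])
      have e2 : I = MulAut.conj g • I := Subgroup.eq_of_le_of_card_ge (inf_eq_left.mp e1)
        (by rw [card_conj_smul])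
      rw [← hN]
      exact conj_smul_eq_self_iff.mp e2.symm

include hfpf in
theorem isCyclic_of_card_prime_mul_prime {p q : ℕ} (hp : p.Prime) (hq : q.Prime)
    (hH : Nat.card H = p * q) : IsCyclic H := by
  have htop : IsMulCommutative (⊤ : Subgroup H) := by
    by_cases hpq : p = q
    · subst hpq
      have : Fact p.Prime := ⟨hp⟩
      have := IsPGroup.commutative_of_card_eq_prime_sq (p := p) (G := H) (by rw [hH, sq])
      exact ⟨⟨fun a b => Subtype.ext (this a b)⟩⟩
    · have hsub : ∀ r s : ℕ, r.Prime → s.Prime → Nat.card H = r * s →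
          ∃ I : Subgroup H, I.Normal ∧ Nat.card I = r := by
        intro r s hr hs hrs
        have : Fact r.Prime := ⟨hr⟩
        obtain ⟨x, hx⟩ := exists_prime_orderOf_dvd_card' r (G := H) (hrs ▸ dvd_mul_right r s)
        have hc : Nat.card (zpowers x) = r := (Nat.card_zpowers x).trans hx
        refine ⟨zpowers x, normal_or_frobenius_of_prime φ hfpf hr hc ?_, hc⟩
        rw [index_dvd_of_card_eq hrs hc]; exact hs
      obtain ⟨A, hA, hAc⟩ := hsub p q hp hq hH
      obtain ⟨B, hB, hBc⟩ := hsub q p hq hp (hH.trans (mul_comm p q))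
      have hAB := Subgroup.isComplement'_of_coprime (H := A) (K := B) (by rw [hAc, hBc, hH])
        (by rw [hAc, hBc]; exact (Nat.coprime_primes hp hq).mpr hpq)
      have hAcyc : ∀ (C : Subgroup H) (r : ℕ), r.Prime → Nat.card C = r →
          ∀ a ∈ C, ∀ b ∈ C, a * b = b * a := by
        intro C r hr hC a ha b hb
        have : Fact r.Prime := ⟨hr⟩
        have := isCyclic_of_prime_card hC
        exact congrArg Subtype.val (comm_of_isCyclic (⟨a, ha⟩ : C) ⟨b, hb⟩)
      refine ⟨⟨fun a b => Subtype.ext ?_⟩⟩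
      obtain ⟨⟨⟨x, hx⟩, ⟨y, hy⟩⟩, e1⟩ := hAB.2 (a : H)
      obtain ⟨⟨⟨x', hx'⟩, ⟨y', hy'⟩⟩, e2⟩ := hAB.2 (b : H)
      have hc : ∀ u ∈ A, ∀ v ∈ B, u * v = v * u := fun u hu v hv =>
        (Subgroup.commute_of_normal_of_disjoint A B hA hB hAB.disjoint u v hu hv).eq
      simp only at e1 e2
      show (a : H) * b = b * a
      rw [← e1, ← e2]
      calc x * y * (x' * y') = x * (y * x') * y' := by group
        _ = (x * x') * (y * y') := by rw [← hc x' hx' y hy]; group
        _ = (x' * x) * (y' * y) := by rw [hAcyc A p hp hAc x hx x' hx', hAcyc B q hq hBc y hy y' hy']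
        _ = x' * (x * y') * y := by group
        _ = x' * y' * (x * y) := by rw [hc x hx y' hy']; group
  have := isCyclic_of_fpf φ hfpf (⊤ : Subgroup H)
  exact isCyclic_of_surjective (Subgroup.topEquiv (G := H)).toMonoidHom
    (Subgroup.topEquiv (G := H)).surjective

include hfpf in
theorem inverts_of_fpf {s : H} (hs : orderOf s = 2) (v : V) : φ s v = v⁻¹ := by
  have hs1 : s ≠ 1 := fun h => by rw [h, orderOf_one] at hs; omega
  have h2 : φ s (φ s v) = v := by
    rw [← MulAut.mul_apply, ← map_mul, ← sq, ← hs, pow_orderOf_eq_one, map_one, MulAut.one_apply]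
  have h3 := hfpf s hs1 (v * φ s v) (by rw [map_mul, h2, mul_comm])
  exact eq_inv_of_mul_eq_one_right h3

include hfpf in
theorem involution_unique_of_fpf {s t : H} (hs : orderOf s = 2) (ht : orderOf t = 2) : s = t := by
  obtain ⟨v, hv⟩ := exists_ne (1 : V)
  by_contra hne
  refine hv (hfpf (s * t) (fun h => hne ?_) v ?_)
  · rw [mul_eq_one_iff_eq_inv.mp h]
    exact inv_eq_of_mul_eq_one_right (by rw [← sq, ← ht, pow_orderOf_eq_one])
  · rw [map_mul, MulAut.mul_apply, inverts_of_fpf φ hfpf ht, map_inv, inverts_of_fpf φ hfpf hs, inv_inv]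

include hfpf in
theorem center_ne_bot_of_fpf [Nontrivial H] : center H ≠ ⊥ := by
  classical
  set p := (Nat.card H).minFac with hpdef
  have hp : p.Prime := Nat.minFac_prime (Finite.one_lt_card (α := H)).ne'
  have : Fact p.Prime := ⟨hp⟩
  obtain ⟨P⟩ := (inferInstance : Nonempty (Sylow p H))
  suffices h : ∃ z : H, z ≠ 1 ∧ z ∈ center H by
    obtain ⟨z, hz1, hz⟩ := h
    intro hb
    rw [hb, Subgroup.mem_bot] at hz
    exact hz1 hz
  by_cases hp2 : p = 2
  · obtain ⟨s, hs⟩ := exists_prime_orderOf_dvd_card' p (G := H) (Nat.minFac_dvd _)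
    rw [hp2] at hs
    refine ⟨s, fun h => by rw [h, orderOf_one] at hs; omega, Subgroup.mem_center_iff.mpr fun g => ?_⟩
    have ho : orderOf (MulAut.conj g s) = 2 := by rw [MulEquiv.orderOf_eq]; exact hs
    have := involution_unique_of_fpf φ hfpf ho hs
    rw [MulAut.conj_apply] at this
    exact mul_inv_eq_iff_eq_mul.mp this
  have hPc : IsCyclic P := (isCyclic_or_quaternion_of_fpf φ hfpf P).resolve_right fun h => hp2 h.1
  set M := (MonoidHom.transferSylow P (hPc.normalizer_le_centralizer hpdef.symm)).ker with hM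
  have hMP : M.IsComplement' (P : Subgroup H) := hPc.isComplement' hpdef.symm
  have hMn : M.Normal := MonoidHom.normal_ker _
  have hPd : p ∣ Nat.card (P : Subgroup H) := P.dvd_card_of_dvd_card (Nat.minFac_dvd _)
  obtain ⟨z₀, hz₀⟩ := exists_prime_orderOf_dvd_card' p (G := (P : Subgroup H)) hPd
  set z : H := (z₀ : H) with hzdef
  have hz : orderOf z = p := by rw [hzdef, Subgroup.orderOf_coe, hz₀]
  have hMp : ¬ p ∣ Nat.card M := by
    rw [← hMP.index_eq_card]
    exact P.not_dvd_index
  set A := zpowers z with hA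
  have hAc : Nat.card A = p := (Nat.card_zpowers z).trans hz
  have hcop : (Nat.card A).Coprime (Nat.card M) := hAc ▸ hp.coprime_iff_not_dvd.mpr hMp
  have hAM : A ≤ normalizer (M : Set H) := by rw [Subgroup.normalizer_eq_top]; exact le_top
  have hAs : Group.IsSolvable A :=
    have := isCyclic_of_prime_card hAc
    Group.isSolvable_of_comm comm_of_isCyclic
  refine ⟨z, fun h => hp.ne_one (by rw [← hz, h, orderOf_one]), ?_⟩
  -- `z` centralizes `M`
  have hzM : M ≤ centralizer (A : Set H) := by
    refine Subgroup.subgroupOf_eq_top.mp ?_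
    rw [← Subgroup.index_eq_one]
    by_contra hne
    obtain ⟨r, hr, hrd⟩ := Nat.exists_prime_and_dvd hne
    have : Fact r.Prime := ⟨hr⟩
    obtain ⟨Q, hQ⟩ := CfsgLib.Coprime.exists_invariant_sylow hAM hcop (Or.inl hAs) r
    set Q' := (Q : Subgroup M).map M.subtype with hQ'
    suffices hQc : Q' ≤ centralizer (A : Set H) by
      refine Q.not_dvd_index (hrd.trans (Subgroup.index_dvd_of_le fun x hx => ?_))
      exact hQc ⟨x, hx, rfl⟩
    have hQp : IsPGroup r Q' := Q.2.map _
    have hrp : r ≠ p := fun h => hMp (h ▸ hrd.trans (Subgroup.index_dvd_card _))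
    have hrodd : r ≠ 2 := fun h => hp2 (le_antisymm
      (hpdef ▸ h ▸ Nat.minFac_le_of_dvd hr.two_le
        ((hrd.trans (Subgroup.index_dvd_card _)).trans M.card_subgroup_dvd_card)) hp.two_le)
    have huniq : ∀ x y : H, x ∈ Q' → y ∈ Q' → orderOf x = r → orderOf y = r → zpowers x = zpowers y := by
      intro x y hx hy hxo hyo
      obtain ⟨S, hS⟩ := hQp.exists_le_sylow
      have hSc : IsCyclic S := (isCyclic_or_quaternion_of_fpf φ hfpf S).resolve_right fun h => hrodd h.1
      exact zpowers_eq_of_commute_of_fpf φ hfpf hr hxo hyo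
        (congrArg Subtype.val (comm_of_isCyclic (⟨x, hS hx⟩ : S) ⟨y, hS hy⟩))
    have hQab : IsMulCommutative Q' := by
      obtain ⟨S, hS⟩ := hQp.exists_le_sylow
      have hSc : IsCyclic S := (isCyclic_or_quaternion_of_fpf φ hfpf S).resolve_right fun h => hrodd h.1
      exact ⟨⟨fun x y => Subtype.ext (show (x : H) * y = y * x from
        (congrArg Subtype.val (comm_of_isCyclic (⟨x, hS x.2⟩ : S) ⟨y, hS y.2⟩)))⟩⟩
    by_cases hQne : Q' = ⊥
    · rw [hQne]; exact bot_le
    -- an element of order `r`, centralized by `z` by the case of order `p * r`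
    have := Q'.nontrivial_iff_ne_bot.mpr hQne
    obtain ⟨k, hk, hkc⟩ := hQp.nontrivial_iff_card.mp this
    obtain ⟨x₀, hx₀⟩ := exists_prime_orderOf_dvd_card' r (G := Q') (hkc ▸ dvd_pow_self r hk.ne')
    set x : H := (x₀ : H) with hxdef
    have hx : orderOf x = r := by rw [hxdef, Subgroup.orderOf_coe, hx₀]
    have hzN : z ∈ normalizer (zpowers x : Set H) := by
      rw [← conj_smul_eq_self_iff]
      have hm : MulAut.conj z • zpowers x = zpowers (z * x * z⁻¹) := by
        rw [conj_smul_eq_map, MonoidHom.map_zpowers]; rfl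
      rw [hm]
      refine huniq _ _ ((Subgroup.mem_normalizer_iff.mp (hQ (mem_zpowers z)) x).mp x₀.2) x₀.2 ?_ hx
      rw [← MulAut.conj_apply, MulEquiv.orderOf_eq, hx]
    have hcard : Nat.card (zpowers x ⊔ A : Subgroup H) = r * p := by
      rw [CfsgLib.Coprime.card_sup_of_inf_eq_bot (zpowers_le.mpr hzN)
        (CfsgLib.Coprime.inf_eq_bot_of_coprime (by
          rw [hAc, Nat.card_zpowers, hx]; exact (Nat.coprime_primes hp hr).mpr (Ne.symm hrp))),
        hAc, Nat.card_zpowers, hx]
    set W := zpowers x ⊔ A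
    have hWc : IsCyclic W := isCyclic_of_card_prime_mul_prime (φ.comp W.subtype)
      (fun h hh v hv => hfpf h (fun e => hh (Subtype.ext e)) v hv) hr hp hcard
    have hxz : x ∈ centralizer (A : Set H) := by
      rw [Subgroup.mem_centralizer_iff]
      intro a ha
      exact congrArg Subtype.val (comm_of_isCyclic
        (⟨a, Subgroup.mem_sup_right ha⟩ : W) ⟨x, Subgroup.mem_sup_left (mem_zpowers x)⟩)
    -- so `[Q', z] = 1`
    have hinf := CfsgLib.Coprime.commutator_inf_centralizer_eq_bot hQab hQ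
      (hcop.coprime_dvd_right (Subgroup.card_dvd_of_le (Subgroup.map_subtype_le _)))
    rw [← Subgroup.commutator_eq_bot_iff_le_centralizer]
    by_contra hne'
    obtain ⟨m, hm, hmc⟩ := (hQp.to_le (Subgroup.le_normalizer_iff_commutator_le_left.mp hQ)).nontrivial_iff_card.mp
      ((Subgroup.nontrivial_iff_ne_bot _).mpr hne')
    obtain ⟨y, hy⟩ := exists_prime_orderOf_dvd_card' r (G := (⁅Q', A⁆ : Subgroup H)) (hmc ▸ dvd_pow_self r hm.ne')
    have hyo : orderOf (y : H) = r := by rw [Subgroup.orderOf_coe, hy]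
    have hyx : (y : H) ∈ zpowers x := huniq _ _ (Subgroup.le_normalizer_iff_commutator_le_left.mp hQ y.2)
      x₀.2 hyo hx ▸ mem_zpowers _
    have : (y : H) ∈ ⁅Q', A⁆ ⊓ centralizer (A : Set H) := ⟨y.2, zpowers_le.mpr hxz hyx⟩
    rw [hinf, Subgroup.mem_bot] at this
    rw [this, orderOf_one] at hyo
    exact hr.ne_one hyo.symm
  rw [Subgroup.mem_center_iff]
  intro g
  obtain ⟨⟨⟨m, hm⟩, ⟨y, hy⟩⟩, rfl⟩ := hMP.2 g
  have e1 : z * m = m * z := Subgroup.mem_centralizer_iff.mp (hzM hm) z (mem_zpowers z)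
  have e2 : y * z = z * y := congrArg Subtype.val
    (comm_of_isCyclic (⟨y, hy⟩ : (P : Subgroup H)) z₀)
  simp only
  rw [mul_assoc, e2, ← mul_assoc, ← e1, mul_assoc]

end CfsgLib.Solvable
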