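import Cfsg.Agent.Lib.Solvable.FixedPointFree
import Cfsg.Agent.Lib.Coprime.Abelian
import Mathlib.GroupTheory.SchurZassenhaus
import Mathlib.GroupTheory.Sylow

/-!
Frobenius complements: fixed-point-free representations, conjugacy, embedding of small subgroups.
-/

set_option autoImplicit false

namespace CfsgLib.Solvable

open Subgroup
open scoped Pointwise

universe u

variable {G : Type u} [Group G] {H : Subgroup G}

theorem frobenius_mem_of_commute (hH : Cfsg.IsFrobeniusComplement H) {x v : G}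
    (hx : x ∈ H) (hx1 : x ≠ 1) (hc : v * x = x * v) : v ∈ H := by
  refine frobenius_mem_of_conj_mem hH hx hx1 ?_
  rwa [hc, mul_inv_cancel_right]

/-- Kernel and complement: order data. -/
theorem coprime_card_index_of_isFrobeniusComplement [Finite G] (hH : Cfsg.IsFrobeniusComplement H) :
    (Nat.card H).Coprime H.index := by
  have h := index_mod_card_of_isFrobeniusComplement hH
  rw [Nat.coprime_iff_gcd_eq_one, Nat.gcd_rec, h, ← Nat.gcd_rec]
  simp

/-- A nonidentity element outside the kernel commutes with no nonidentity element of the kernel. -/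
theorem frobenius_commute_kernel [Finite G] (hH : Cfsg.IsFrobeniusComplement H) {x v : G}
    (hx : x ∉ Cfsg.frobeniusKernel H) (hv : v ∈ Cfsg.frobeniusKernel H) (hc : v * x = x * v) :
    v = 1 := by
  simp only [Cfsg.frobeniusKernel, Set.mem_setOf_eq, not_or, not_forall, not_not] at hx
  obtain ⟨hx1, g, hg⟩ := hx
  rcases hv with hv | hv
  · exact hv
  exfalso
  refine hv g (mem_conj_smul.mpr (frobenius_mem_of_commute hH (mem_conj_smul.mp hg) ?_ ?_))
  · intro h
    apply hx1
    have := congrArg (fun w => g * w * g⁻¹) h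
    simpa [mul_assoc] using this
  · calc g⁻¹ * v * g * (g⁻¹ * x * g) = g⁻¹ * (v * x) * g := by group
      _ = g⁻¹ * x * g * (g⁻¹ * v * g) := by rw [hc]; group

/-- A Frobenius complement acts fixed-point-freely on a nontrivial abelian `p`-group, `p` prime to
its order. -/
theorem exists_fpf_abelian [Finite G] (hH : Cfsg.IsFrobeniusComplement H) :
    ∃ (V : Subgroup G) (φ : H →* MulAut V), IsMulCommutative V ∧ V ≠ ⊥ ∧
      (Nat.card H).Coprime (Nat.card V) ∧
      ∀ h : H, h ≠ 1 → ∀ v : V, φ h v = v → v = 1 := by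
  obtain ⟨N, hNset, hN, hc⟩ := exists_frobeniusKernel hH
  have hNc : Nat.card N = H.index := hc.index_eq_card.symm
  have hN1 : Nat.card N ≠ 1 := by rw [hNc, Ne, Subgroup.index_eq_one]; exact hH.2.1
  obtain ⟨p, hp, hpd⟩ := Nat.exists_prime_and_dvd hN1
  have : Fact p.Prime := ⟨hp⟩
  obtain ⟨P⟩ := (inferInstance : Nonempty (Sylow p N))
  set P' := (P : Subgroup N).map N.subtype with hP'
  set T := normalizer (P' : Set G) with hT
  have hTN : T ⊔ N = ⊤ := Sylow.normalizer_sup_eq_top P
  have hco : (Nat.card H).Coprime (Nat.card N) := hNc ▸ coprime_card_index_of_isFrobeniusComplement hH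
  have hNi : N.index = Nat.card H := hc.symm.index_eq_card
  set M := N.subgroupOf T with hM
  have hMi : M.index = Nat.card H := by
    rw [hM, ← hNi]
    show N.relIndex T = N.index
    rw [← Subgroup.relIndex_sup_right T N, hTN, Subgroup.relIndex_top_right]
  have hMd : Nat.card M ∣ Nat.card N :=
    Nat.dvd_trans (dvd_of_eq (Nat.card_congr (M.equivMapOfInjective _ T.subtype_injective).toEquiv))
      (Subgroup.card_dvd_of_le (by rw [hM, Subgroup.subgroupOf_map_subtype]; exact inf_le_left))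
  obtain ⟨E₀, hE₀⟩ := Subgroup.exists_right_complement'_of_coprime (N := M)
    (hMi ▸ hco.symm.coprime_dvd_left hMd)
  set E := E₀.map T.subtype with hE
  have hEc : Nat.card E = Nat.card H := by
    rw [hE, ← Nat.card_congr (E₀.equivMapOfInjective _ T.subtype_injective).toEquiv,
      ← hE₀.symm.index_eq_card, hMi]
  have hEN : Subgroup.IsComplement' N E :=
    Subgroup.isComplement'_of_coprime (by rw [hEc, hc.card_mul_card]) (hEc ▸ hco.symm)
  have key : ∀ L : Subgroup G, Subgroup.IsComplement' N L → ∃ e : L ≃* G ⧸ N, True := fun L hL =>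
    ⟨MulEquiv.ofBijective ((QuotientGroup.mk' N).comp L.subtype) (by
      rw [Nat.bijective_iff_injective_and_card]
      refine ⟨(injective_iff_map_eq_one _).mpr fun x hx => ?_, ?_⟩
      · have h1 : (x : G) ∈ N := (QuotientGroup.eq_one_iff _).mp hx
        exact Subtype.ext (Subgroup.disjoint_def.mp hL.disjoint h1 x.2)
      · rw [← Subgroup.index_eq_card, hL.symm.index_eq_card]), trivial⟩
  obtain ⟨eE, -⟩ := key E hEN
  obtain ⟨eH, -⟩ := key H hc
  set Z := P' ⊓ centralizer (P' : Set G) with hZ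
  have hET : E ≤ T := Subgroup.map_subtype_le _
  have hTZ : T ≤ normalizer (Z : Set G) := fun t ht => by
    rw [← conj_smul_eq_self_iff, hZ, Subgroup.smul_inf, conj_smul_eq_self_iff.mpr ht]
    congr 1
    refine conj_smul_eq_self_iff.mpr (Subgroup.mem_normalizer_iff.mpr fun v => ?_)
    have hcen : ∀ s : G, s ∈ T → ∀ w ∈ centralizer (P' : Set G), s * w * s⁻¹ ∈ centralizer (P' : Set G) := by
      intro s hs w hw
      refine Subgroup.mem_centralizer_iff.mpr fun y hy => ?_
      have hy' := (Subgroup.mem_normalizer_iff.mp (T.inv_mem hs) y).mp hy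
      have h2 := Subgroup.mem_centralizer_iff.mp hw _ hy'
      calc y * (s * w * s⁻¹) = s * (s⁻¹ * y * s⁻¹⁻¹ * w) * s⁻¹ := by group
        _ = s * w * s⁻¹ * y := by rw [h2]; group
    refine ⟨hcen t ht v, fun hv => ?_⟩
    have := hcen t⁻¹ (T.inv_mem ht) _ hv
    simpa [mul_assoc] using this
  have hPne : P' ≠ ⊥ := by
    rw [hP', Ne, Subgroup.map_eq_bot_iff_of_injective _ N.subtype_injective]
    exact P.ne_bot_of_dvd_card hpd
  have hP'p : IsPGroup p P' := P.2.map _
  have hZne : Z ≠ ⊥ := by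
    have := P'.nontrivial_iff_ne_bot.mpr hPne
    have hnt := hP'p.center_nontrivial
    rw [Subgroup.nontrivial_iff_ne_bot] at hnt
    obtain ⟨⟨z, hz⟩, hz1⟩ := Subgroup.ne_bot_iff_exists_ne_one.mp hnt
    intro hb
    have hzmem : (z : G) ∈ Z := ⟨z.2, Subgroup.mem_centralizer_iff.mpr fun y hy =>
      congrArg Subtype.val (Subgroup.mem_center_iff.mp hz ⟨y, hy⟩)⟩
    rw [hb, Subgroup.mem_bot] at hzmem
    exact hz1 (Subtype.ext (Subtype.ext hzmem))
  have hZN : Z ≤ N := inf_le_left.trans (Subgroup.map_subtype_le _)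
  refine ⟨Z, (Z.normalizerMonoidHom.comp (Subgroup.inclusion (hET.trans hTZ))).comp
    ((eH.trans eE.symm) : H →* E), ?_, hZne, hco.coprime_dvd_right (Subgroup.card_dvd_of_le hZN), ?_⟩
  · exact ⟨⟨fun a b => Subtype.ext
      (Subgroup.mem_centralizer_iff.mp b.2.2 a a.2.1)⟩⟩
  · intro h hh v hv
    set x : E := (eH.trans eE.symm) h with hx
    have hx1 : (x : G) ≠ 1 := fun h' => hh ((eH.trans eE.symm).map_eq_one_iff.mp (Subtype.ext h'))
    have hxK : (x : G) ∉ Cfsg.frobeniusKernel H := fun hm => hx1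
      (Subgroup.disjoint_def.mp hEN.disjoint (show (x : G) ∈ N by rw [← SetLike.mem_coe, hNset]; exact hm) x.2)
    have hvK : (v : G) ∈ Cfsg.frobeniusKernel H := hNset ▸ hZN v.2
    have hv' : (x : G) * v * (x : G)⁻¹ = v := congrArg Subtype.val hv
    exact Subtype.ext (frobenius_commute_kernel hH hxK hvK (mul_inv_eq_iff_eq_mul.mp hv').symm)

/-- A Frobenius complement is not a Frobenius group. -/
theorem not_isFrobeniusComplement_of_isFrobeniusComplement [Finite G]
    (hH : Cfsg.IsFrobeniusComplement H) (I : Subgroup H) : ¬ Cfsg.IsFrobeniusComplement I := by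
  obtain ⟨V, φ, hVc, hVne, hco, hfpf⟩ := exists_fpf_abelian hH
  let _ : CommGroup V := { (inferInstance : Group V) with mul_comm := hVc.is_comm.comm }
  have : Nontrivial V := V.nontrivial_iff_ne_bot.mpr hVne
  exact not_isFrobeniusComplement_of_fpf φ hco hfpf I

theorem isFrobeniusComplement_subgroupOf {L : Subgroup G} (hH : Cfsg.IsFrobeniusComplement H)
    (h1 : ∃ x ∈ L, x ∈ H ∧ x ≠ 1) (h2 : ¬ L ≤ H) :
    Cfsg.IsFrobeniusComplement (H.subgroupOf L) := by
  refine ⟨?_, fun h => h2 (Subgroup.subgroupOf_eq_top.mp h), fun g hg => ?_⟩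
  · obtain ⟨x, hxL, hxH, hx1⟩ := h1
    intro h
    have : (⟨x, hxL⟩ : L) ∈ H.subgroupOf L := hxH
    rw [h, Subgroup.mem_bot] at this
    exact hx1 (congrArg Subtype.val this)
  · rw [eq_bot_iff]
    rintro x ⟨hx1, hx2⟩
    have hx2' : (g : G)⁻¹ * (x : G) * g ∈ H := (mem_conj_smul (G := L)).mp hx2
    exact Subgroup.mem_bot.mpr (Subtype.ext (frobenius_eq_one_of_conj_mem hH (g := (g : G)⁻¹)
      (fun h => hg (show (g : G) ∈ H from inv_mem_iff.mp h)) hx1 (by rwa [inv_inv])))

theorem isFrobeniusComplement_conj (hH : Cfsg.IsFrobeniusComplement H) (a : G) :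
    Cfsg.IsFrobeniusComplement (MulAut.conj a • H) := by
  refine ⟨fun h => hH.1 ?_, fun h => hH.2.1 ?_, fun g hg => ?_⟩
  · rw [← conj_inv_smul_of_eq h, Subgroup.smul_bot]
  · rw [← conj_inv_smul_of_eq h]
    exact Subgroup.conj_smul_eq_self_of_mem (Subgroup.mem_top _)
  · have h1 := hH.2.2 (a⁻¹ * g * a) (fun h => hg (mem_conj_smul.mpr h))
    rw [conj_smul_conj_smul, show g * a = a * (a⁻¹ * g * a) by group, ← conj_smul_conj_smul,
      ← Subgroup.smul_inf, h1, Subgroup.smul_bot]

theorem card_compl_kernel [Finite G] (hH : Cfsg.IsFrobeniusComplement H) :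
    Nat.card G ≤ 2 * (Cfsg.frobeniusKernel H)ᶜ.ncard := by
  have h := Set.ncard_add_ncard_compl (Cfsg.frobeniusKernel H)
  rw [← Nat.card_coe_set_eq, card_kernel_of_isFrobeniusComplement hH] at h
  have h3 : H.index * 2 ≤ H.index * Nat.card H :=
    Nat.mul_le_mul_left _ (H.one_lt_card_iff_ne_bot.mpr hH.1)
  rw [H.index_mul_card] at h3
  omega

/-- Two Frobenius complements have conjugates sharing a nonidentity element. -/
theorem exists_conj_common [Finite G] {H₀ : Subgroup G} (hH : Cfsg.IsFrobeniusComplement H)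
    (hH₀ : Cfsg.IsFrobeniusComplement H₀) :
    ∃ a b z : G, z ≠ 1 ∧ z ∈ MulAut.conj a • H ∧ z ∈ MulAut.conj b • H₀ := by
  by_contra hcon
  push Not at hcon
  have hdis : Disjoint (Cfsg.frobeniusKernel H)ᶜ (Cfsg.frobeniusKernel H₀)ᶜ := by
    rw [Set.disjoint_left]
    intro z hz hz0
    simp only [Cfsg.frobeniusKernel, Set.mem_compl_iff, Set.mem_setOf_eq, not_or, not_forall, not_not] at hz hz0
    obtain ⟨hz1, a, ha⟩ := hz
    obtain ⟨-, b, hb⟩ := hz0
    exact hcon a b z hz1 ha hb
  have h1 := Set.ncard_union_eq hdis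
  have h2 : ((Cfsg.frobeniusKernel H)ᶜ ∪ (Cfsg.frobeniusKernel H₀)ᶜ).ncard < Nat.card G := by
    rw [← Set.ncard_univ]
    refine Set.ncard_lt_ncard (Set.ssubset_univ_iff.mpr fun h => ?_)
    have := h ▸ Set.mem_univ (1 : G)
    simp [Cfsg.frobeniusKernel] at this
  have := card_compl_kernel hH
  have := card_compl_kernel hH₀
  omega

theorem frobenius_complements_conj [Finite G] {H₀ : Subgroup G} (hH : Cfsg.IsFrobeniusComplement H)
    (hH₀ : Cfsg.IsFrobeniusComplement H₀) : ∃ g : G, MulAut.conj g • H₀ = H := by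
  obtain ⟨a, b, z, hz, ha, hb⟩ := exists_conj_common hH hH₀
  have hA := isFrobeniusComplement_conj hH a
  have hB := isFrobeniusComplement_conj hH₀ b
  refine ⟨a⁻¹ * b, ?_⟩
  suffices h : MulAut.conj b • H₀ = MulAut.conj a • H by
    rw [← conj_smul_conj_smul, h, conj_smul_conj_smul, inv_mul_cancel, conj_one_smul]
  refine le_antisymm (by_contra fun h => ?_) (by_contra fun h => ?_)
  · exact not_isFrobeniusComplement_of_isFrobeniusComplement hB _
      (isFrobeniusComplement_subgroupOf hA ⟨z, hb, ha, hz⟩ h)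
  · exact not_isFrobeniusComplement_of_isFrobeniusComplement hA _
      (isFrobeniusComplement_subgroupOf hB ⟨z, ha, hb, hz⟩ h)

/-- A subgroup of order dividing `|H|` lies in a conjugate of `H`. -/
theorem exists_conj_ge_of_card_dvd [Finite G] (hH : Cfsg.IsFrobeniusComplement H) {L : Subgroup G}
    (hL : Nat.card L ∣ Nat.card H) : ∃ x : G, L ≤ MulAut.conj x • H := by
  obtain ⟨N, hNset, hN, hc⟩ := exists_frobeniusKernel hH
  have hdis : L ⊓ N = ⊥ := disjoint_iff.mp (Subgroup.disjoint_of_coprime_natCard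
    (((coprime_card_index_of_isFrobeniusComplement hH).coprime_dvd_left hL).coprime_dvd_right
      (dvd_of_eq hc.index_eq_card.symm)))
  have hout : ∀ z : G, z ∈ L → z ≠ 1 → ∃ g : G, z ∈ MulAut.conj g • H := by
    intro z hz hz1
    by_contra hno
    push Not at hno
    have hzN : z ∈ N := by rw [← SetLike.mem_coe, hNset]; exact Or.inr hno
    have : z ∈ L ⊓ N := ⟨hz, hzN⟩
    rw [hdis, Subgroup.mem_bot] at this
    exact hz1 this
  by_cases hb : L = ⊥
  · exact ⟨1, hb ▸ bot_le⟩
  obtain ⟨t, ht⟩ := Subgroup.ne_bot_iff_exists_ne_one.mp hb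
  have ht1 : (t : G) ≠ 1 := fun h => ht (Subtype.ext h)
  obtain ⟨a, ha⟩ := hout t t.2 ht1
  by_contra hcon
  push Not at hcon
  have hA : Cfsg.IsFrobeniusComplement ((MulAut.conj a • H).subgroupOf L) :=
    isFrobeniusComplement_subgroupOf (isFrobeniusComplement_conj hH a) ⟨t, t.2, ha, ht1⟩ (hcon a)
  obtain ⟨M, hMset, -, hMc⟩ := exists_frobeniusKernel hA
  have hM1 : M ≠ ⊥ := by
    intro hb'
    have := hMc.index_eq_card
    rw [hb', Subgroup.card_bot, Subgroup.index_eq_one] at this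
    exact hA.2.1 this
  obtain ⟨x, hx⟩ := Subgroup.ne_bot_iff_exists_ne_one.mp hM1
  have hxG : ((x : L) : G) ≠ 1 := fun h => hx (Subtype.ext (Subtype.ext h))
  obtain ⟨b, hb'⟩ := hout _ x.1.2 hxG
  have hB : Cfsg.IsFrobeniusComplement ((MulAut.conj b • H).subgroupOf L) :=
    isFrobeniusComplement_subgroupOf (isFrobeniusComplement_conj hH b) ⟨_, x.1.2, hb', hxG⟩ (hcon b)
  obtain ⟨g, hg⟩ := frobenius_complements_conj hA hB
  have hxA : (x : L) ∈ MulAut.conj g⁻¹ • (MulAut.conj a • H).subgroupOf L := by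
    rw [conj_inv_smul_of_eq hg]
    exact hb'
  have hxK : (x : L) ∈ Cfsg.frobeniusKernel ((MulAut.conj a • H).subgroupOf L) := by
    rw [← hMset]; exact x.2
  exact hxK.elim (fun h => hx (Subtype.ext h)) fun h => h _ hxA

/-- Fixed-point-free complement of a normal subgroup. -/
theorem isFrobeniusComplement_iff_fpf [Finite G] {K : Subgroup G} [hKn : K.Normal]
    (hc : Subgroup.IsComplement' K H) (hK : K ≠ ⊥) (hH : H ≠ ⊥) :
    Cfsg.IsFrobeniusComplement H ↔ ∀ h ∈ H, h ≠ 1 → K ⊓ centralizer {h} = ⊥ := by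
  constructor
  · intro hF h hh hh1
    rw [eq_bot_iff]
    rintro k ⟨hk, hkc⟩
    exact Subgroup.disjoint_def.mp hc.disjoint hk
      (frobenius_mem_of_commute hF hh hh1 (Subgroup.mem_centralizer_singleton_iff.mp hkc)) ▸ Subgroup.one_mem ⊥
  · intro hfpf
    refine ⟨hH, fun h => hK ?_, fun g hg => ?_⟩
    · rw [h] at hc
      exact Subgroup.isComplement'_top_right.mp hc
    · rw [eq_bot_iff]
      rintro x ⟨hx, hxg⟩
      by_contra hx1
      obtain ⟨⟨⟨k, hk⟩, ⟨h, hh⟩⟩, rfl⟩ := hc.2 g
      apply hg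
      have h1 : k⁻¹ * x * k ∈ H := by
        have := H.mul_mem (H.mul_mem hh (mem_conj_smul.mp hxg)) (H.inv_mem hh)
        simpa [mul_assoc] using this
      have h2 : x⁻¹ * (k⁻¹ * x * k) = 1 := by
        refine Subgroup.disjoint_def.mp hc.disjoint ?_ (H.mul_mem (H.inv_mem hx) h1)
        rw [show x⁻¹ * (k⁻¹ * x * k) = (x⁻¹ * k⁻¹ * x⁻¹⁻¹) * k by group]
        exact K.mul_mem (hKn.conj_mem _ (K.inv_mem hk) _) hk
      have hkc : k ∈ K ⊓ centralizer {x} := by
        refine ⟨hk, Subgroup.mem_centralizer_singleton_iff.mpr ?_⟩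
        rw [inv_mul_eq_one] at h2
        calc k * x = k * (k⁻¹ * x * k) := by rw [← h2]
          _ = x * k := by group
      rw [hfpf x hx hx1, Subgroup.mem_bot] at hkc
      simpa [hkc] using hh

end CfsgLib.Solvable
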