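import Cfsg.Agent.Lib.StructC.BurnsideBasis

/-!
# The Burnside basis theorem for generating sets
-/

namespace CfsgLib.Solvable

open Subgroup

variable {G : Type*} [Group G] [Finite G] {p : ℕ} [Fact p.Prime]

theorem normal_of_frattini_le (hG : IsPGroup p G) {A : Subgroup G} (hA : frattini G ≤ A) :
    A.Normal := by
  refine ⟨fun a ha g => ?_⟩
  have h := hA (CfsgLib.StructC.comm_mem_frattini hG g⁻¹ a⁻¹)
  have := mul_mem h ha
  simpa [mul_assoc] using this

/-- Adjoining one element to a subgroup above the Frattini subgroup multiplies its order by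
`1` or `p`. -/
theorem relIndex_sup_zpowers (hG : IsPGroup p G) {A : Subgroup G} (hA : frattini G ≤ A) (x : G)
    (hx : x ∉ A) : A.relIndex (A ⊔ zpowers x) = p := by
  have := normal_of_frattini_le hG hA
  rw [relIndex_sup_left]
  have h1 := relIndex_ker (K := zpowers x) (QuotientGroup.mk' A)
  rw [QuotientGroup.ker_mk'] at h1
  rw [h1, MonoidHom.map_zpowers, Nat.card_zpowers]
  refine orderOf_eq_prime ?_ fun h => hx ((QuotientGroup.eq_one_iff x).1 h)
  rw [← map_pow]
  exact (QuotientGroup.eq_one_iff _).2 (hA (CfsgLib.StructC.pow_mem_frattini hG x))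

theorem exists_basis_subset (hG : IsPGroup p G) (S : Finset G) :
    ∃ T : Finset G, T ⊆ S ∧ closure (T : Set G) ⊔ frattini G = closure (S : Set G) ⊔ frattini G ∧
      (frattini G).relIndex (closure (T : Set G) ⊔ frattini G) = p ^ T.card := by
  classical
  induction S using Finset.induction_on with
  | empty => exact ⟨∅, le_rfl, rfl, by simp⟩
  | @insert x S hxS ih =>
    obtain ⟨T, hTS, hT, hcard⟩ := ih
    by_cases hx : x ∈ closure (T : Set G) ⊔ frattini G
    · refine ⟨T, hTS.trans (Finset.subset_insert _ _), ?_, hcard⟩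
      rw [Finset.coe_insert, Set.insert_eq, Subgroup.closure_union, sup_assoc, ← hT, ← zpowers_eq_closure]
      exact (sup_eq_right.2 ((zpowers_le).2 hx)).symm
    · refine ⟨insert x T, Finset.insert_subset_insert _ hTS, ?_, ?_⟩
      · rw [Finset.coe_insert, Finset.coe_insert, Set.insert_eq, Set.insert_eq, Subgroup.closure_union, Subgroup.closure_union,
          sup_assoc,
          sup_assoc, hT]
      · have hxT : x ∉ T := fun h => hx (mem_sup_left (subset_closure h))
        rw [Finset.coe_insert, Set.insert_eq, Subgroup.closure_union, sup_assoc, ← zpowers_eq_closure,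
          sup_comm (zpowers x), Finset.card_insert_of_notMem hxT, pow_succ,
          ← relIndex_mul_relIndex _ _ _ (le_sup_right (a := closure (T : Set G))) le_sup_left,
          hcard, relIndex_sup_zpowers hG le_sup_right x hx]

theorem exists_generating_subset (hG : IsPGroup p G) {n : ℕ}
    (hn : (frattini G).index = p ^ n) (S : Finset G) (hS : closure (S : Set G) = ⊤) :
    ∃ T : Finset G, T ⊆ S ∧ T.card = n ∧ closure (T : Set G) = ⊤ := by
  obtain ⟨T, hTS, hT, hcard⟩ := exists_basis_subset hG S
  rw [hS, top_sup_eq] at hT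
  rw [hT, relIndex_top_right, hn] at hcard
  exact ⟨T, hTS, (Nat.pow_right_injective (Fact.out : p.Prime).two_le hcard).symm,
    frattini_nongenerating hT⟩

end CfsgLib.Solvable
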