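import Cfsg.Prelude.Def_Solvable
import Cfsg.Agent.Lib.Solvable.Basic
import Cfsg.Agent.Lib.Solvable.PCore
import Cfsg.Agent.Lib.Solvable.Nilpotent
import Cfsg.Agent.Lib.Solvable.Fitting
import Cfsg.Agent.Lib.PLocal.SubnormalJoin
import Cfsg.Agent.Lib.Invol.BaerSuzuki

/-!
Wielandt's zipper lemma, subnormality criteria.
-/

set_option autoImplicit false

namespace CfsgLib.Solvable

open Subgroup
open scoped Pointwise

universe u

variable {G : Type u} [Group G]

/-- A subnormal, non-normal subgroup normalises some other conjugate of itself. -/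
theorem exists_conj_le_normalizer_of_isSubnormal {A : Subgroup G} (hA : A.IsSubnormal)
    (hn : ¬ A.Normal) :
    ∃ c : G, MulAut.conj c • A ≠ A ∧ MulAut.conj c • A ≤ normalizer (A : Set G) := by
  by_contra hcon
  push Not at hcon
  have key : ∀ L : Subgroup G, L.IsSubnormal → A ≤ L → L ≤ normalizer (A : Set G) → A.Normal := by
    intro L hL
    induction hL with
    | top =>
      intro _ hle
      exact Subgroup.normalizer_eq_top_iff.mp (top_le_iff.mp hle)
    | step L K hLK _ hN ih =>
      intro hAL hLn
      refine ih (hAL.trans hLK) fun c hc => ?_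
      rw [← conj_smul_eq_self_iff]
      by_contra hne
      have hLc : MulAut.conj c • L = L :=
        conj_smul_eq_self_iff.mpr (Subgroup.normal_subgroupOf_iff_le_normalizer hLK |>.mp hN hc)
      exact hcon c hne (((conj_smul_mono c hAL).trans hLc.le).trans hLn)
  exact hn (key A hA le_rfl Subgroup.le_normalizer)

theorem conj_smul_subgroupOf_isSubnormal {A H : Subgroup G} {c : G}
    (h : (A.subgroupOf (MulAut.conj c⁻¹ • H)).IsSubnormal) :
    ((MulAut.conj c • A).subgroupOf H).IsSubnormal := by
  let e : ↥(MulAut.conj c⁻¹ • H) ≃* H :=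
    (Subgroup.equivSMul (MulAut.conj c) (MulAut.conj c⁻¹ • H)).trans
      (MulEquiv.subgroupCongr (by rw [conj_smul_conj_smul, mul_inv_cancel, conj_one_smul]))
  have h2 := h.map (f := e.toMonoidHom) e.surjective
  convert h2 using 1
  ext y
  obtain ⟨x, rfl⟩ := e.surjective y
  rw [show e x = e.toMonoidHom x from rfl, Subgroup.mem_map_iff_mem e.injective,
    Subgroup.mem_subgroupOf, Subgroup.mem_subgroupOf, mem_conj_smul]
  have : ((e.toMonoidHom x : H) : G) = c * (x : G) * c⁻¹ := rfl
  rw [this]
  simp [mul_assoc]

/-- Wielandt's zipper lemma. -/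
theorem exists_unique_coatom_of_subnormal [Finite G] {A : Subgroup G}
    (hA : ∀ H : Subgroup G, A ≤ H → H ≠ ⊤ → (A.subgroupOf H).IsSubnormal) (hns : ¬ A.IsSubnormal) :
    ∃ M : Subgroup G, IsCoatom M ∧ A ≤ M ∧ ∀ K : Subgroup G, IsCoatom K → A ≤ K → K = M := by
  obtain ⟨n, hn⟩ : ∃ n, A.index = n := ⟨_, rfl⟩
  induction n using Nat.strong_induction_on generalizing A with
  | _ n ih =>
    have hnn : normalizer (A : Set G) ≠ ⊤ := fun h =>
      hns (Subgroup.normalizer_eq_top_iff.mp h).isSubnormal
    obtain ⟨M, hM, hNM⟩ := (eq_top_or_exists_le_coatom _).resolve_left hnn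
    refine ⟨M, hM, Subgroup.le_normalizer.trans hNM, fun K hK hAK => ?_⟩
    by_contra hKM
    have hnK : ¬ (A.subgroupOf K).Normal := fun h =>
      hKM (((hK.le_iff.mp ((Subgroup.normal_subgroupOf_iff_le_normalizer hAK).mp h |>.trans hNM))).resolve_left
        hM.1).symm
    obtain ⟨c, hc, hcn⟩ := exists_conj_le_normalizer_of_isSubnormal (hA K hAK hK.1) hnK
    set A' := MulAut.conj (c : G) • A with hA'
    have hmap : (A.subgroupOf K).map K.subtype = A := Subgroup.map_subgroupOf_eq_of_le hAK
    have hA'e : (MulAut.conj c • A.subgroupOf K).map K.subtype = A' := by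
      rw [conj_smul_subtype, hmap]
    have hA'K : A' ≤ K := hA'e ▸ Subgroup.map_subtype_le _
    have hA'ne : A' ≠ A := by
      intro h
      exact hc (Subgroup.map_injective K.subtype_injective (by rw [hA'e, h, hmap]))
    have hA'N : A' ≤ normalizer (A : Set G) := by
      rw [← hA'e]
      rintro _ ⟨x, hx, rfl⟩
      have h1 := hcn hx
      rw [← Subgroup.subgroupOf_normalizer_eq hAK] at h1
      exact h1
    set T := A ⊔ A' with hT
    have hTn : T ≤ normalizer (A : Set G) := sup_le Subgroup.le_normalizer hA'N
    have hTK : T ≤ K := sup_le hAK hA'K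
    have hTA : A < T := by
      refine lt_of_le_of_ne le_sup_left fun h => hA'ne ?_
      have h1 : A' ≤ A := h ▸ le_sup_right
      exact eq_of_le_of_card_le h1 (by rw [hA', card_conj_smul])
    have hTsn : ∀ H : Subgroup G, T ≤ H → H ≠ ⊤ → (T.subgroupOf H).IsSubnormal := by
      intro H hTH hH
      have h1 := hA H (le_sup_left.trans hTH) hH
      have h2 : (A'.subgroupOf H).IsSubnormal := by
        refine conj_smul_subgroupOf_isSubnormal (hA _ ?_ ?_)
        · have := conj_smul_mono (c : G)⁻¹ (le_sup_right.trans hTH : A' ≤ H)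
          rwa [hA', conj_smul_conj_smul, inv_mul_cancel, conj_one_smul] at this
        · intro h
          apply hH
          have h' := congrArg (fun X => MulAut.conj (c : G) • X) h
          simp only [conj_smul_conj_smul, mul_inv_cancel, conj_one_smul] at h'
          rw [h']
          exact Subgroup.conj_smul_eq_self_of_mem (Subgroup.mem_top (c : G))
      rw [hT, Subgroup.subgroupOf_sup (le_sup_left.trans hTH) (le_sup_right.trans hTH)]
      exact CfsgLib.PLocal.isSubnormal_sup h1 h2
    have hTns : ¬ T.IsSubnormal := fun h =>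
      hns (Subgroup.IsSubnormal.step A T le_sup_left h
        ((Subgroup.normal_subgroupOf_iff_le_normalizer le_sup_left).mpr hTn))
    obtain ⟨M', hM', -, huniq⟩ := ih _ (hn ▸ Subgroup.index_strictAnti hTA) hTsn hTns rfl
    exact hKM ((huniq K hK hTK).trans (huniq M hM (hTn.trans hNM)).symm)

/-- Wielandt: `A` is subnormal if it is subnormal in the subgroup generated with each conjugate. -/
theorem isSubnormal_of_forall_conj [Finite G] {A : Subgroup G}
    (h : ∀ g : G, (A.subgroupOf (A ⊔ MulAut.conj g • A)).IsSubnormal) : A.IsSubnormal := by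
  obtain ⟨n, hn⟩ : ∃ n, Nat.card G = n := ⟨_, rfl⟩
  induction n using Nat.strong_induction_on generalizing G with
  | _ n ih =>
    have hsub : ∀ H : Subgroup G, A ≤ H → H ≠ ⊤ → (A.subgroupOf H).IsSubnormal := by
      intro H hAH hH
      refine ih _ (hn ▸ card_subgroup_lt hH) (G := H) (A := A.subgroupOf H) (fun g => ?_) rfl
      have hgH : MulAut.conj (g : G) • A ≤ H :=
        (conj_smul_mono _ hAH).trans (Subgroup.conj_smul_eq_self_of_mem g.2).le
      set W := A ⊔ MulAut.conj (g : G) • A
      have hWH : W ≤ H := sup_le hAH hgH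
      have e0 : A.subgroupOf H ⊔ MulAut.conj g • A.subgroupOf H = W.subgroupOf H := by
        refine Subgroup.map_injective H.subtype_injective ?_
        rw [Subgroup.map_sup, conj_smul_subtype, Subgroup.map_subgroupOf_eq_of_le hAH,
          Subgroup.map_subgroupOf_eq_of_le hWH]
      rw [e0]
      have := (h (g : G)).comap (Subgroup.subgroupOfEquivOfLe hWH).toMonoidHom
      exact this
    by_contra hns
    obtain ⟨M, hM, hAM, huniq⟩ := exists_unique_coatom_of_subnormal hsub hns
    set N := Subgroup.normalClosure (A : Set G) with hN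
    have hNM : N ≤ M := by
      rw [hN, Subgroup.normalClosure, Subgroup.closure_le]
      intro x hx
      obtain ⟨a, ha, hax⟩ := Group.mem_conjugatesOfSet_iff.mp hx
      obtain ⟨g, rfl⟩ := isConj_iff.mp hax
      have hne : A ⊔ MulAut.conj g • A ≠ ⊤ := by
        intro htop
        have h1 := h g
        rw [htop] at h1
        exact hns (Subgroup.IsSubnormal.trans le_top h1 .top)
      obtain ⟨K, hK, hWK⟩ := (eq_top_or_exists_le_coatom _).resolve_left hne
      have := huniq K hK (le_sup_left.trans hWK)
      subst this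
      refine hWK (Subgroup.mem_sup_right ?_)
      rw [mem_conj_smul]
      simpa [mul_assoc] using ha
    exact hns (Subgroup.IsSubnormal.trans Subgroup.le_normalClosure
      (hsub N Subgroup.le_normalClosure (fun h => hM.1 (top_le_iff.mp (h ▸ hNM))))
      (Subgroup.normalClosure_normal).isSubnormal)

/-- If `⟨A, A^g⟩` is nilpotent for all `g`, then `A` lies in the Fitting subgroup. -/
theorem le_fitting_of_forall_conj_nilpotent [Finite G] {A : Subgroup G}
    (h : ∀ g : G, Group.IsNilpotent (A ⊔ MulAut.conj g • A : Subgroup G)) :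
    A.IsSubnormal ∧ A ≤ Cfsg.fittingSubgroup G := by
  have hle : A ≤ Cfsg.fittingSubgroup G := by
    refine Subgroup.subgroupOf_eq_top.mp (eq_top_of_forall_prime fun p hp => ?_)
    have : Fact p.Prime := ⟨hp⟩
    obtain ⟨P⟩ := (inferInstance : Nonempty (Sylow p A))
    set P' := (P : Subgroup A).map A.subtype
    have hP' : P' ≤ Cfsg.fittingSubgroup G := by
      obtain ⟨N, hN, hNp, hle⟩ := CfsgLib.Invol.baer_suzuki (p := p) P' (fun g => by
        set W := A ⊔ MulAut.conj g • A
        have := h g
        obtain ⟨S⟩ := (inferInstance : Nonempty (Sylow p W))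
        have hSn : (S : Subgroup W).Normal := S.normal_of_normalizerCondition
          Group.normalizerCondition_of_isNilpotent
        have key : ∀ X : Subgroup G, IsPGroup p X → X ≤ W → X ≤ (S : Subgroup W).map W.subtype := by
          intro X hX hXW
          obtain ⟨T, hT⟩ := (hX.comap_subtype : IsPGroup p (X.subgroupOf W)).exists_le_sylow
          have : Subsingleton (Sylow p W) := Sylow.unique_of_normal S hSn |>.instSubsingleton
          rw [Subsingleton.elim T S] at hT
          rw [← Subgroup.map_subgroupOf_eq_of_le hXW]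
          exact Subgroup.map_mono hT
        refine (S.2.map W.subtype).to_le (sup_le ?_ ?_)
        · exact key _ (P.2.map _) ((Subgroup.map_subtype_le _).trans le_sup_left)
        · refine key _ ((P.2.map _).map _) ?_
          rw [← conj_smul_eq_map]
          exact (conj_smul_mono g (Subgroup.map_subtype_le _)).trans le_sup_right)
      exact hle.trans (le_fittingSubgroup hN hNp.isNilpotent)
    intro hd
    refine P.not_dvd_index (hd.trans (Subgroup.index_dvd_of_le fun x hx => ?_))
    exact hP' ⟨x, hx, rfl⟩
  refine ⟨?_, hle⟩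
  have := fittingSubgroup_isNilpotent (G := G)
  exact Subgroup.IsSubnormal.trans hle (isSubnormal_of_isNilpotent _)
    (fittingSubgroup_normal G).isSubnormal

end CfsgLib.Solvable
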