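import Cfsg.Prelude.Def_Solvable
import Cfsg.Prelude.Def_Transfer
import Cfsg.Agent.Lib.Solvable.MinNormal
import Cfsg.Agent.Lib.Solvable.Nilpotent
import Cfsg.Agent.Lib.Solvable.PCore
import Cfsg.Agent.Lib.Coprime.Complements
import Mathlib.GroupTheory.PGroup
import Mathlib.Tactic.Group

/-!
Groups with a core-free maximal subgroup.
-/

set_option autoImplicit false

namespace CfsgLib.Solvable

open Subgroup
open scoped Pointwise

variable {G : Type*} [Group G] {U : Subgroup G}

theorem sup_eq_top_of_coreFree (hU : IsCoatom U) (hcore : U.normalCore = ⊥) {N : Subgroup G}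
    [hN : N.Normal] (hne : N ≠ ⊥) : N ⊔ U = ⊤ := by
  refine (hU.le_iff.mp le_sup_right).resolve_right fun h => hne ?_
  rw [eq_bot_iff, ← hcore]
  exact Subgroup.normal_le_normalCore.mpr (h ▸ le_sup_left)

theorem eq_bot_of_le_coreFree (hcore : U.normalCore = ⊥) {N : Subgroup G} [N.Normal] (h : N ≤ U) :
    N = ⊥ := eq_bot_iff.mpr (hcore ▸ Subgroup.normal_le_normalCore.mpr h)

/-- `C(N) ∩ U = 1` for a nontrivial normal `N`. -/
theorem centralizer_inf_eq_bot (hU : IsCoatom U) (hcore : U.normalCore = ⊥) {N : Subgroup G}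
    [hN : N.Normal] (hne : N ≠ ⊥) : centralizer (N : Set G) ⊓ U = ⊥ := by
  have hn : (centralizer (N : Set G) ⊓ U).Normal := by
    rw [← Subgroup.normalizer_eq_top_iff, eq_top_iff, ← sup_eq_top_of_coreFree hU hcore hne]
    refine sup_le (fun n hn => Subgroup.mem_normalizer_iff.mpr fun x => ?_) fun u hu => ?_
    · constructor
      · intro hx
        rw [Subgroup.mem_centralizer_iff.mp hx.1 n hn, mul_inv_cancel_right]
        exact hx
      · intro hx
        have h := Subgroup.mem_centralizer_iff.mp hx.1 n hn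
        have e : n * x * n⁻¹ = x := by
          calc n * x * n⁻¹ = n⁻¹ * (n * (n * x * n⁻¹)) := by group
            _ = n⁻¹ * (n * x * n⁻¹ * n) := by rw [h]
            _ = x := by group
        rwa [e] at hx
    · rw [← conj_smul_eq_self_iff, Subgroup.smul_inf, Subgroup.Normal.conj_smul_eq_self u _,
        Subgroup.conj_smul_eq_self_of_mem hu]
  have := hn
  exact eq_bot_of_le_coreFree hcore inf_le_right

theorem isComplement'_of_coreFree [Finite G] (hU : IsCoatom U) (hcore : U.normalCore = ⊥)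
    {A : Subgroup G} [A.Normal] (hne : A ≠ ⊥) (h : A ⊓ U = ⊥) : IsComplement' A U :=
  Subgroup.isComplement'_of_disjoint_and_mul_eq_univ (disjoint_iff.mpr h)
    (by rw [← Subgroup.normal_mul, sup_eq_top_of_coreFree hU hcore hne, Subgroup.coe_top])

theorem isComplement'_of_abelian_coreFree [Finite G] (hU : IsCoatom U) (hcore : U.normalCore = ⊥)
    {A : Subgroup G} [A.Normal] [hA : IsMulCommutative A] (hne : A ≠ ⊥) : IsComplement' A U := by
  refine isComplement'_of_coreFree hU hcore hne ?_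
  rw [eq_bot_iff, ← centralizer_inf_eq_bot hU hcore hne]
  exact inf_le_inf_right _ (Subgroup.le_centralizer_iff_isMulCommutative.mpr hA)

theorem centralizer_eq_of_coreFree [Finite G] (hU : IsCoatom U) (hcore : U.normalCore = ⊥)
    {A N : Subgroup G} [A.Normal] [N.Normal] (hA : A ≠ ⊥) (hN : N ≠ ⊥)
    (hle : A ≤ centralizer (N : Set G)) : centralizer (N : Set G) = A := by
  refine le_antisymm (fun x hx => ?_) hle
  have hmem : x ∈ ((A ⊔ U : Subgroup G) : Set G) := by
    rw [sup_eq_top_of_coreFree hU hcore hA]; exact Subgroup.mem_top x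
  rw [Subgroup.normal_mul] at hmem
  obtain ⟨a, ha, u, hu, rfl⟩ := Set.mem_mul.mp hmem
  have hu' : u ∈ centralizer (N : Set G) ⊓ U := by
    refine ⟨?_, hu⟩
    have := mul_mem (inv_mem (hle ha)) hx
    simpa [mul_assoc] using this
  rw [centralizer_inf_eq_bot hU hcore hN, Subgroup.mem_bot] at hu'
  simpa [hu'] using ha

theorem self_centralizing_of_coreFree [Finite G] (hU : IsCoatom U) (hcore : U.normalCore = ⊥)
    {A : Subgroup G} [A.Normal] [hA : IsMulCommutative A] (hne : A ≠ ⊥) :
    centralizer (A : Set G) = A :=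
  centralizer_eq_of_coreFree hU hcore hne hne (Subgroup.le_centralizer_iff_isMulCommutative.mpr hA)

/-- Two subgroups meeting `N` trivially with the same join with `N` are isomorphic. -/
theorem nonempty_mulEquiv_of_sup_eq {N X Y : Subgroup G} [N.Normal] (hX : X ⊓ N = ⊥)
    (hY : Y ⊓ N = ⊥) (h : X ⊔ N = Y ⊔ N) : Nonempty (X ≃* Y) := by
  have hinj : ∀ Z : Subgroup G, Z ⊓ N = ⊥ →
      Function.Injective ((QuotientGroup.mk' N).comp Z.subtype) := fun Z hZ =>
    (injective_iff_map_eq_one _).mpr fun z hz => by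
      have h1 : (z : G) ∈ Z ⊓ N := ⟨z.2, (QuotientGroup.eq_one_iff _).mp hz⟩
      rw [hZ, Subgroup.mem_bot] at h1
      exact Subtype.ext h1
  have hr : ∀ Z : Subgroup G, ((QuotientGroup.mk' N).comp Z.subtype).range
      = (Z ⊔ N).map (QuotientGroup.mk' N) := fun Z => by
    rw [MonoidHom.range_comp, Subgroup.range_subtype, Subgroup.map_sup, QuotientGroup.map_mk'_self,
      sup_bot_eq]
  exact ⟨((MonoidHom.ofInjective (hinj X hX)).trans (MulEquiv.subgroupCongr
    ((hr X).trans (by rw [h, ← hr Y])))).trans (MonoidHom.ofInjective (hinj Y hY)).symm⟩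

/-- Baer: two minimal normal subgroups in a group with a core-free maximal subgroup. -/
theorem two_minimal_normal_of_coreFree [Finite G] (hU : IsCoatom U) (hcore : U.normalCore = ⊥)
    (A B : Subgroup G) [A.Normal] [B.Normal] (hA : A ≠ ⊥) (hB : B ≠ ⊥)
    (hAmin : ∀ K : Subgroup G, K.Normal → K ≤ A → K = ⊥ ∨ K = A)
    (hBmin : ∀ K : Subgroup G, K.Normal → K ≤ B → K = ⊥ ∨ K = B) (hAB : A ≠ B) :
    centralizer (B : Set G) = A ∧ centralizer (A : Set G) = B ∧ IsComplement' A U ∧
      IsComplement' B U ∧ ¬ IsMulCommutative A ∧ Nonempty (A ≃* B) ∧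
      Nonempty (A ≃* ↥((A ⊔ B) ⊓ U)) := by
  have hdis : A ⊓ B = ⊥ := by
    rcases hAmin (A ⊓ B) inferInstance inf_le_left with h | h
    · exact h
    · exfalso
      rcases hBmin A inferInstance (inf_eq_left.mp h) with h' | h'
      exacts [hA h', hAB h']
  have hc : A ≤ centralizer (B : Set G) := fun a ha => Subgroup.mem_centralizer_iff.mpr fun b hb =>
    ((Subgroup.commute_of_normal_of_disjoint A B inferInstance inferInstance
      (disjoint_iff.mpr hdis) a b ha hb).eq).symm
  have hc' : B ≤ centralizer (A : Set G) := Subgroup.le_centralizer_iff.mp hc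
  have hAU : A ⊓ U = ⊥ :=
    eq_bot_iff.mpr ((inf_le_inf_right _ hc).trans (centralizer_inf_eq_bot hU hcore hB).le)
  have hBU : B ⊓ U = ⊥ :=
    eq_bot_iff.mpr ((inf_le_inf_right _ hc').trans (centralizer_inf_eq_bot hU hcore hA).le)
  have hCA := centralizer_eq_of_coreFree hU hcore hB hA hc'
  set D := (A ⊔ B) ⊓ U with hD
  have key : ∀ X Y : Subgroup G, Y.Normal → X ≤ A ⊔ B → X ⊔ Y = A ⊔ B → X ⊓ Y = ⊥ → Y ⊓ U = ⊥ →
      Y ≠ ⊥ → Y ≤ A ⊔ B → Nonempty (X ≃* D) := by
    intro X Y hY hX hsup hXY hYU hYne hYle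
    refine nonempty_mulEquiv_of_sup_eq hXY ?_ (hsup.trans ?_)
    · rw [eq_bot_iff, ← hYU]
      exact le_inf inf_le_right (inf_le_left.trans inf_le_right)
    · refine le_antisymm (fun x hx => ?_) (sup_le inf_le_left hYle)
      have hmem : x ∈ ((Y ⊔ U : Subgroup G) : Set G) := by
        rw [sup_eq_top_of_coreFree hU hcore hYne]; exact Subgroup.mem_top x
      rw [Subgroup.normal_mul] at hmem
      obtain ⟨y, hy, u, hu, rfl⟩ := Set.mem_mul.mp hmem
      have huD : u ∈ D := ⟨by
        have := mul_mem (inv_mem (hYle hy)) hx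
        simpa [mul_assoc] using this, hu⟩
      exact mul_mem (Subgroup.mem_sup_right hy) (Subgroup.mem_sup_left huD)
  obtain ⟨e1⟩ := key A B inferInstance le_sup_left rfl hdis hBU hB le_sup_right
  obtain ⟨e2⟩ := key B A inferInstance le_sup_right (sup_comm B A) (inf_comm B A ▸ hdis) hAU hA
    le_sup_left
  refine ⟨centralizer_eq_of_coreFree hU hcore hA hB hc, hCA, isComplement'_of_coreFree hU hcore hA hAU,
    isComplement'_of_coreFree hU hcore hB hBU, fun hab => hA ?_, ⟨e1.trans e2.symm⟩, ⟨e1⟩⟩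
  rw [← hdis, eq_comm, inf_eq_left]
  exact (Subgroup.le_centralizer_iff_isMulCommutative.mpr hab).trans hCA.le

/-- In a solvable group core-free maximal subgroups are conjugate. -/
theorem coreFree_maximal_conj [Finite G] [Group.IsSolvable G] {V : Subgroup G} (hU : IsCoatom U)
    (hV : IsCoatom V) (hUc : U.normalCore = ⊥) (hVc : V.normalCore = ⊥) :
    ∃ g : G, MulAut.conj g • U = V := by
  have : Nontrivial G := by
    by_contra h
    rw [not_nontrivial_iff_subsingleton] at h
    exact hU.1 (Subsingleton.elim _ _)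
  obtain ⟨A, hAn, hAne, hAmin⟩ := exists_minimal_normal (G := G)
  obtain ⟨p, hp, hAp, -, hAab⟩ := exists_isPGroup_of_minimal_normal hAne hAmin
  have : Fact p.Prime := ⟨hp⟩
  have hcU := isComplement'_of_abelian_coreFree hU hUc hAne
  have hcV := isComplement'_of_abelian_coreFree hV hVc hAne
  by_cases htop : A = ⊤
  · refine ⟨1, ?_⟩
    subst htop
    rw [conj_one_smul, Subgroup.isComplement'_top_left.mp hcU, Subgroup.isComplement'_top_left.mp hcV]
  have : Nontrivial (G ⧸ A) := QuotientGroup.nontrivial_iff.mpr htop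
  obtain ⟨L', hL', hL'ne, hL'min⟩ := exists_minimal_normal (G := G ⧸ A)
  obtain ⟨q, hq, hL'q, -, -⟩ := exists_isPGroup_of_minimal_normal hL'ne hL'min
  have : Fact q.Prime := ⟨hq⟩
  set L := L'.comap (QuotientGroup.mk' A)
  have hLn : L.Normal := hL'.comap _
  have hAL : A ≤ L := fun x hx => by simp [L, (QuotientGroup.eq_one_iff x).mpr hx]
  have hLA : ¬ L ≤ A := fun h => hL'ne <| by
    rw [← Subgroup.map_comap_eq_self_of_surjective (QuotientGroup.mk'_surjective A) L',
      Subgroup.map_eq_bot_iff, QuotientGroup.ker_mk']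
    exact h
  obtain ⟨k, hk⟩ := hL'q.exists_card_eq
  obtain ⟨m, hm⟩ := hAp.exists_card_eq
  have hLc : Nat.card L = q ^ k * p ^ m := by rw [← hk, ← hm]; exact card_comap_mk' A L'
  have hqp : q ≠ p := by
    rintro rfl
    apply hLA
    have hLp : IsPGroup q L := IsPGroup.of_card (n := k + m) (by rw [hLc, pow_add])
    have := hLp.isNilpotent
    have hne : A.subgroupOf L ≠ ⊥ := by
      rw [Ne, Subgroup.subgroupOf_eq_bot, disjoint_iff, inf_eq_left.mpr hAL]; exact hAne
    obtain ⟨z, hz⟩ := Subgroup.ne_bot_iff_exists_ne_one.mp (normal_inf_center_ne_bot (A.subgroupOf L) hne)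
    have hmem : ((z : L) : G) ∈ A ⊓ centralizer (L : Set G) :=
      ⟨z.2.1, Subgroup.mem_centralizer_iff.mpr fun y hy =>
        congrArg Subtype.val (Subgroup.mem_center_iff.mp z.2.2 ⟨y, hy⟩)⟩
    rcases hAmin (A ⊓ centralizer (L : Set G)) inferInstance inf_le_left with h | h
    · exfalso
      rw [h, Subgroup.mem_bot] at hmem
      exact hz (Subtype.ext (Subtype.ext hmem))
    · rw [← self_centralizing_of_coreFree hU hUc hAne]
      exact Subgroup.le_centralizer_iff.mp (inf_eq_left.mp h)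
  have hcard : ∀ W : Subgroup G, IsComplement' A W → A ⊔ (L ⊓ W) = L ∧ Nat.card (L ⊓ W : Subgroup G) = q ^ k := by
    intro W hW
    have hsup : A ⊔ (L ⊓ W) = L := by
      refine le_antisymm (sup_le hAL inf_le_left) fun x hx => ?_
      obtain ⟨⟨⟨a, ha⟩, ⟨w, hw⟩⟩, rfl⟩ := hW.2 x
      refine mul_mem (Subgroup.mem_sup_left ha) (Subgroup.mem_sup_right ⟨?_, hw⟩)
      have h : a * w ∈ L := hx
      have := mul_mem (inv_mem (hAL ha)) h
      simpa [mul_assoc] using this
    refine ⟨hsup, ?_⟩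
    have hinf : (L ⊓ W) ⊓ A = ⊥ := eq_bot_iff.mpr fun x hx =>
      Subgroup.mem_bot.mpr (Subgroup.disjoint_def.mp hW.disjoint hx.2 hx.1.2)
    have h2 := CfsgLib.Coprime.card_sup_of_inf_eq_bot (N := A) (A := L ⊓ W)
      (by rw [Subgroup.normalizer_eq_top]; exact le_top) hinf
    rw [hsup, hLc, hm, mul_comm] at h2
    exact (Nat.eq_of_mul_eq_mul_left (pow_pos hp.pos m) h2).symm
  obtain ⟨sU, cU⟩ := hcard U hcU
  obtain ⟨sV, cV⟩ := hcard V hcV
  have hco : (q ^ k).Coprime (Nat.card A) := hm ▸ Nat.Coprime.pow _ _ ((Nat.coprime_primes hq hp).mpr hqp)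
  obtain ⟨n, -, hn⟩ := CfsgLib.Coprime.exists_conj_eq_of_coprime (N := A) (A := L ⊓ U) (B := L ⊓ V)
    (by rw [Subgroup.normalizer_eq_top]; exact le_top) (by rw [Subgroup.normalizer_eq_top]; exact le_top)
    (sU.trans sV.symm) (cU ▸ hco) (cV ▸ hco) (Or.inr inferInstance)
  refine ⟨n, ?_⟩
  have hnorm : ∀ W : Subgroup G, IsCoatom W → W.normalCore = ⊥ → A ⊔ (L ⊓ W) = L →
      normalizer ((L ⊓ W : Subgroup G) : Set G) = W := by
    intro W hW hWc hs
    refine (hW.le_iff.mp fun w hw => ?_).resolve_left fun ht => ?_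
    · rw [← conj_smul_eq_self_iff, Subgroup.smul_inf, Subgroup.Normal.conj_smul_eq_self w L,
        Subgroup.conj_smul_eq_self_of_mem hw]
    · have := Subgroup.normalizer_eq_top_iff.mp ht
      have hb := eq_bot_of_le_coreFree hWc (N := L ⊓ W) inf_le_right
      rw [hb, sup_bot_eq] at hs
      exact hLA hs.ge
  rw [← conj_smul_eq_map] at hn
  rw [← hnorm U hU hUc sU, ← hnorm V hV hVc sV, hn]
  ext y
  rw [mem_conj_smul, ← conj_smul_eq_self_iff, ← conj_smul_eq_self_iff]
  rw [← conj_smul_conj_smul, ← conj_smul_conj_smul]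
  constructor
  · intro h
    have := congrArg (fun X => MulAut.conj n • X) h
    simpa [conj_smul_conj_smul, ← mul_assoc, conj_one_smul] using this
  · intro h
    rw [h, conj_smul_conj_smul, inv_mul_cancel, conj_one_smul]

/-- The `p`-core of a group with a core-free maximal subgroup `M`. -/
theorem pCore_of_coreFree [Finite G] {p : ℕ} [Fact p.Prime] (hL : Cfsg.pCore p G ≠ ⊥) {M : Subgroup G}
    (hM : IsCoatom M) (hcore : M.normalCore = ⊥) :
    Cfsg.IsElementaryAbelian p (Cfsg.pCore p G) ∧ IsComplement' (Cfsg.pCore p G) M ∧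
      (∀ K : Subgroup G, K.Normal → K ≤ Cfsg.pCore p G → K = ⊥ ∨ K = Cfsg.pCore p G) ∧
      centralizer ((Cfsg.pCore p G : Subgroup G) : Set G) = Cfsg.pCore p G ∧
      ∀ (q : ℕ) [Fact q.Prime], Cfsg.pCore q ↥M ≠ ⊥ →
        Nat.card (Cfsg.pCore p G) % q = 1 % q ∧ q ≠ p := by
  set L := Cfsg.pCore p G with hLdef
  have hLn := pCore_normal p G
  have hLp : IsPGroup p L := pCore_isPGroup p
  obtain ⟨A, hAn, hAne, hAL, hAmin⟩ := exists_minimal_normal_le hLn hL
  have hAp : IsPGroup p A := hLp.to_le hAL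
  have := hAp.isNilpotent
  obtain ⟨r, hr, hAr, hpow, hAab⟩ := exists_isPGroup_of_minimal_normal hAne hAmin
  have hCA := self_centralizing_of_coreFree hM hcore hAne
  have hLA : L = A := by
    refine le_antisymm ?_ hAL
    have := hLp.isNilpotent
    have hne : A.subgroupOf L ≠ ⊥ := by
      rw [Ne, Subgroup.subgroupOf_eq_bot, disjoint_iff, inf_eq_left.mpr hAL]; exact hAne
    obtain ⟨z, hz⟩ := Subgroup.ne_bot_iff_exists_ne_one.mp (normal_inf_center_ne_bot (A.subgroupOf L) hne)
    have hmem : ((z : L) : G) ∈ A ⊓ centralizer (L : Set G) :=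
      ⟨z.2.1, Subgroup.mem_centralizer_iff.mpr fun y hy =>
        congrArg Subtype.val (Subgroup.mem_center_iff.mp z.2.2 ⟨y, hy⟩)⟩
    rcases hAmin (A ⊓ centralizer (L : Set G)) inferInstance inf_le_left with h | h
    · exfalso
      rw [h, Subgroup.mem_bot] at hmem
      exact hz (Subtype.ext (Subtype.ext hmem))
    · rw [← hCA]
      exact Subgroup.le_centralizer_iff.mp (inf_eq_left.mp h)
  have hrp : r = p := by
    obtain ⟨a, ha⟩ := Subgroup.ne_bot_iff_exists_ne_one.mp hAne
    have ha1 : (a : G) ≠ 1 := fun h => ha (Subtype.ext h)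
    have : Fact r.Prime := ⟨hr⟩
    have ho : orderOf (a : G) = r := orderOf_eq_prime (hpow a a.2) ha1
    obtain ⟨k, hk⟩ := hAp a
    have hd : r ∣ p ^ k := by
      rw [← ho, Subgroup.orderOf_coe]; exact orderOf_dvd_of_pow_eq_one hk
    exact (Nat.prime_dvd_prime_iff_eq hr Fact.out).mp (hr.dvd_of_dvd_pow hd)
  subst hrp
  refine ⟨⟨hLA ▸ hAab, hLA ▸ hpow⟩, hLA ▸ isComplement'_of_abelian_coreFree hM hcore hAne,
    hLA ▸ hAmin, hLA ▸ hCA, fun q _ hq => ?_⟩
  rw [hLA]
  set Q := (Cfsg.pCore q ↥M).map M.subtype with hQ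
  have hQne : Q ≠ ⊥ := by
    rwa [hQ, Ne, Subgroup.map_eq_bot_iff_of_injective _ M.subtype_injective]
  have hQp : IsPGroup q Q := (pCore_isPGroup q).map _
  have hQM : Q ≤ M := Subgroup.map_subtype_le _
  have hMQ : ∀ m ∈ M, MulAut.conj m • Q = Q := fun m hm => by
    have := pCore_normal q M
    rw [hQ, ← conj_smul_subtype ⟨m, hm⟩, Subgroup.Normal.conj_smul_eq_self]
  have hsup := sup_eq_top_of_coreFree hM hcore hAne
  have hnormal : ∀ X : Subgroup G, A ≤ normalizer (X : Set G) →
      (∀ m ∈ M, MulAut.conj m • X = X) → X.Normal := fun X h1 h2 => by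
    rw [← Subgroup.normalizer_eq_top_iff, eq_top_iff, ← hsup]
    exact sup_le h1 fun m hm => conj_smul_eq_self_iff.mp (h2 m hm)
  have hqp : q ≠ r := by
    rintro rfl
    have hX : (A ⊔ Q).Normal := hnormal _ (le_sup_left.trans Subgroup.le_normalizer) fun m hm => by
      rw [Subgroup.smul_sup, Subgroup.Normal.conj_smul_eq_self m A, hMQ m hm]
    have hle : A ⊔ Q ≤ A := (le_pCore hX (IsPGroup.to_sup_of_normal_left hAp hQp)).trans hLA.le
    refine hQne (eq_bot_iff.mpr fun x hx => ?_)
    exact Subgroup.mem_bot.mpr (Subgroup.disjoint_def.mp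
      (isComplement'_of_abelian_coreFree hM hcore hAne).disjoint (hle (Subgroup.mem_sup_right hx)) (hQM hx))
  refine ⟨?_, hqp⟩
  have hfix : A ⊓ centralizer (Q : Set G) = ⊥ := by
    have hX : (A ⊓ centralizer (Q : Set G)).Normal := hnormal _ (fun a ha =>
      Subgroup.centralizer_le_normalizer _ (Subgroup.mem_centralizer_iff.mpr fun x hx =>
        congrArg Subtype.val (hAab.is_comm.comm (⟨x, hx.1⟩ : A) ⟨a, ha⟩))) fun m hm => by
      rw [Subgroup.smul_inf, Subgroup.Normal.conj_smul_eq_self m A]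
      congr 1
      refine le_antisymm ?_ ?_ <;>
      · intro x hx
        simp only [mem_conj_smul, Subgroup.mem_centralizer_iff] at hx ⊢
        intro y hy
        have hy1 : m⁻¹ * y * m ∈ Q := mem_conj_smul.mp ((hMQ m hm).ge hy)
        have hy2 : m * y * m⁻¹ ∈ Q := by
          have := (hMQ m⁻¹ (inv_mem hm)).ge hy
          rwa [mem_conj_smul, inv_inv] at this
        first
        | (have := hx _ hy1
           have := congrArg (fun w => m * w * m⁻¹) this
           simpa [mul_assoc] using this)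
        | (have := hx _ hy2
           have := congrArg (fun w => m⁻¹ * w * m) this
           simpa [mul_assoc] using this)
    rcases hAmin _ hX inf_le_left with h | h
    · exact h
    · exfalso
      refine hQne (eq_bot_iff.mpr fun x hx => ?_)
      have h2 : Q ≤ A := by
        rw [← hCA]; exact Subgroup.le_centralizer_iff.mp (inf_eq_left.mp h)
      exact Subgroup.mem_bot.mpr (Subgroup.disjoint_def.mp
        (isComplement'_of_abelian_coreFree hM hcore hAne).disjoint (h2 hx) (hQM hx))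
  let _ : MulAction Q A :=
    { smul := fun x a => ⟨(x : G) * a * (x : G)⁻¹, Subgroup.Normal.conj_mem inferInstance _ a.2 _⟩
      one_smul := fun a => Subtype.ext (by show (1 : G) * a * (1 : G)⁻¹ = a; group)
      mul_smul := fun x y a => Subtype.ext (by
        show (x : G) * y * a * ((x : G) * y)⁻¹ = x * (y * a * (y : G)⁻¹) * (x : G)⁻¹
        group) }
  have h1 := hQp.card_modEq_card_fixedPoints A
  have h2 : MulAction.fixedPoints Q A = {1} := by
    ext a
    constructor
    · intro ha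
      have hm : (a : G) ∈ A ⊓ centralizer (Q : Set G) :=
        ⟨a.2, Subgroup.mem_centralizer_iff.mpr fun x hx =>
          mul_inv_eq_iff_eq_mul.mp (congrArg Subtype.val (ha ⟨x, hx⟩))⟩
      rw [hfix, Subgroup.mem_bot] at hm
      exact Subtype.ext hm
    · rintro rfl x
      exact Subtype.ext (by show (x : G) * ((1 : A) : G) * (x : G)⁻¹ = ((1 : A) : G); simp)
  rw [h2, Nat.card_coe_set_eq, Set.ncard_singleton] at h1
  exact h1

end CfsgLib.Solvable
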