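import Cfsg.Agent.Lib.Solvable.MinNormal
import Cfsg.Agent.Lib.Solvable.Products
import Cfsg.Agent.Lib.Char.Burnside

/-!
Wielandt's theorem on three solvable subgroups, and solvability criteria by complements.
-/

set_option autoImplicit false

namespace CfsgLib.Solvable

open Subgroup
open scoped Pointwise

universe u

variable {G : Type u} [Group G]

/-- A `p`-subgroup normalised by `H₁` lies in the core of `H₂` if `G = H₁H₂` and `p ∤ |G : H₂|`. -/
theorem le_normalCore_of_factorization [Finite G] {p : ℕ} [Fact p.Prime] {H₁ H₂ N : Subgroup G}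
    (h12 : ∀ g : G, ∃ x ∈ H₁, ∃ y ∈ H₂, g = x * y) (hp : IsPGroup p N)
    (hn : H₁ ≤ normalizer (N : Set G)) (hi : ¬ p ∣ H₂.index) : N ≤ H₂.normalCore := by
  obtain ⟨P⟩ := (inferInstance : Nonempty (Sylow p H₂))
  have hcard : Nat.card ((P : Subgroup H₂).map H₂.subtype) = p ^ (Nat.card G).factorization p := by
    rw [(Nat.card_congr ((P : Subgroup H₂).equivMapOfInjective _ H₂.subtype_injective).toEquiv).symm,
      P.card_eq_multiplicity, ← H₂.card_mul_index,
      Nat.factorization_mul Nat.card_pos.ne' index_ne_zero_of_finite, Finsupp.add_apply,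
      Nat.factorization_eq_zero_of_not_dvd hi, add_zero]
  obtain ⟨Q, hQ⟩ := hp.exists_le_sylow
  obtain ⟨g, hg⟩ := MulAction.exists_smul_eq G (Sylow.ofCard _ hcard) Q
  obtain ⟨x, hx, y, hy, rfl⟩ := h12 g
  have hle : N ≤ MulAut.conj (x * y) • H₂ := by
    refine hQ.trans ?_
    rw [← hg, Sylow.coe_subgroup_smul, Sylow.coe_ofCard]
    exact conj_smul_mono _ (Subgroup.map_subtype_le _)
  have hN2 : N ≤ H₂ := by
    have h2 := conj_smul_mono x⁻¹ hle
    rw [conj_smul_conj_smul, inv_mul_cancel_left, Subgroup.conj_smul_eq_self_of_mem hy,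
      conj_smul_eq_self_iff.mpr (hn (H₁.inv_mem hx))] at h2
    exact h2
  intro a ha b
  obtain ⟨x', hx', y', hy', he⟩ := h12 b⁻¹
  have hb : b = y'⁻¹ * x'⁻¹ := by rw [← mul_inv_rev, ← he, inv_inv]
  have h1 : x'⁻¹ * a * x' ∈ H₂ := by
    have hmem : a ∈ MulAut.conj x' • N := by rwa [conj_smul_eq_self_iff.mpr (hn hx')]
    exact hN2 (mem_conj_smul.mp hmem)
  rw [hb, show y'⁻¹ * x'⁻¹ * a * (y'⁻¹ * x'⁻¹)⁻¹ = y'⁻¹ * (x'⁻¹ * a * x') * y' by group]
  exact H₂.mul_mem (H₂.mul_mem (H₂.inv_mem hy') h1) hy'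

/-- Wielandt: three solvable subgroups, `G = H₁H₂ = H₁H₃`, the indices of `H₂, H₃` coprime. -/
theorem isSolvable_of_three_subgroups [Finite G] (H₁ H₂ H₃ : Subgroup G)
    (h₁ : Group.IsSolvable H₁) (h₂ : Group.IsSolvable H₂) (h₃ : Group.IsSolvable H₃)
    (h12 : ∀ g : G, ∃ x ∈ H₁, ∃ y ∈ H₂, g = x * y) (h13 : ∀ g : G, ∃ x ∈ H₁, ∃ y ∈ H₃, g = x * y)
    (hcop : H₂.index.Coprime H₃.index) : Group.IsSolvable G := by
  obtain ⟨n, hn⟩ : ∃ n, Nat.card G = n := ⟨_, rfl⟩
  induction n using Nat.strong_induction_on generalizing G with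
  | _ n ih =>
    by_cases hb : H₁ = ⊥
    · have htop : H₂ = ⊤ := by
        refine eq_top_iff.mpr fun g _ => ?_
        obtain ⟨x, hx, y, hy, rfl⟩ := h12 g
        rw [hb, Subgroup.mem_bot] at hx
        rwa [hx, one_mul]
      subst htop
      exact solvable_of_surjective (f := (Subgroup.topEquiv (G := G)).toMonoidHom)
        Subgroup.topEquiv.surjective
    have := H₁.nontrivial_iff_ne_bot.mpr hb
    obtain ⟨N, hN, hNne, hNmin⟩ := exists_minimal_normal (G := H₁)
    obtain ⟨p, hp, hNp, -, -⟩ := exists_isPGroup_of_minimal_normal hNne hNmin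
    have : Fact p.Prime := ⟨hp⟩
    set N' := N.map H₁.subtype with hN'
    have hnorm : H₁ ≤ normalizer (N' : Set G) := by
      intro x hx
      rw [← conj_smul_eq_self_iff, hN', ← conj_smul_subtype ⟨x, hx⟩ N,
        Subgroup.Normal.conj_smul_eq_self]
    have main : ∀ A : Subgroup G, Group.IsSolvable A → (∀ g : G, ∃ x ∈ H₁, ∃ y ∈ A, g = x * y) →
        ¬ p ∣ A.index → Group.IsSolvable G := by
      intro A hA hA12 hAi
      have hle := le_normalCore_of_factorization hA12 (hNp.map _) hnorm hAi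
      set M := A.normalCore
      have hMne : M ≠ ⊥ := by
        intro h
        rw [h, le_bot_iff, Subgroup.map_eq_bot_iff_of_injective _ H₁.subtype_injective] at hle
        exact hNne hle
      have hMA : M ≤ A := A.normalCore_le
      have hMs : Group.IsSolvable M :=
        solvable_of_solvable_injective (f := Subgroup.inclusion hMA) (Subgroup.inclusion_injective hMA)
      set π := QuotientGroup.mk' M
      have hπ : Function.Surjective π := QuotientGroup.mk'_surjective M
      have hsol : ∀ H : Subgroup G, Group.IsSolvable H → Group.IsSolvable (H.map π) := fun H hH =>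
        solvable_of_surjective (f := π.subgroupMap H) (π.subgroupMap_surjective H)
      have hfac : ∀ H : Subgroup G, (∀ g : G, ∃ x ∈ H₁, ∃ y ∈ H, g = x * y) →
          ∀ g : G ⧸ M, ∃ x ∈ H₁.map π, ∃ y ∈ H.map π, g = x * y := by
        intro H hH g
        obtain ⟨g, rfl⟩ := hπ g
        obtain ⟨x, hx, y, hy, rfl⟩ := hH g
        exact ⟨π x, Subgroup.mem_map_of_mem _ hx, π y, Subgroup.mem_map_of_mem _ hy, map_mul _ _ _⟩
      have hq : Group.IsSolvable (G ⧸ M) :=
        ih _ (hn ▸ card_quotient_lt hMne) (H₁.map π) (H₂.map π) (H₃.map π) (hsol _ h₁) (hsol _ h₂)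
          (hsol _ h₃) (hfac _ h12) (hfac _ h13)
          ((hcop.coprime_dvd_left (Subgroup.index_map_dvd _ hπ)).coprime_dvd_right
            (Subgroup.index_map_dvd _ hπ)) rfl
      exact solvable_of_ker_le_range M.subtype π (by rw [QuotientGroup.ker_mk', Subgroup.range_subtype])
    by_cases h2 : p ∣ H₂.index
    · exact main H₃ h₃ h13 fun h3 => hp.ne_one (Nat.eq_one_of_dvd_coprimes hcop h2 h3)
    · exact main H₂ h₂ h12 h2

/-- Three solvable subgroups of pairwise coprime index. -/
theorem isSolvable_of_three_coprime_index [Finite G] {H₁ H₂ H₃ : Subgroup G}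
    (h₁ : Group.IsSolvable H₁) (h₂ : Group.IsSolvable H₂) (h₃ : Group.IsSolvable H₃)
    (h12 : H₁.index.Coprime H₂.index) (h13 : H₁.index.Coprime H₃.index)
    (h23 : H₂.index.Coprime H₃.index) : Group.IsSolvable G :=
  isSolvable_of_three_subgroups H₁ H₂ H₃ h₁ h₂ h₃ (forall_exists_mul_of_coprime_index h12)
    (forall_exists_mul_of_coprime_index h13) h23

/-- A group has at most two prime divisors, so is solvable, or at least three. -/
theorem isSolvable_or_exists_three_primes (G : Type u) [Group G] [Finite G] :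
    Group.IsSolvable G ∨ ∃ p q r : ℕ, p.Prime ∧ q.Prime ∧ r.Prime ∧ p ≠ q ∧ p ≠ r ∧ q ≠ r ∧
      p ∣ Nat.card G ∧ q ∣ Nat.card G ∧ r ∣ Nat.card G := by
  classical
  set n := Nat.card G with hn
  have hn0 : n ≠ 0 := Nat.card_pos.ne'
  by_cases h3 : 3 ≤ n.primeFactors.card
  · obtain ⟨t, ht, htc⟩ := Finset.exists_subset_card_eq h3
    obtain ⟨p, q, r, hpq, hpr, hqr, rfl⟩ := Finset.card_eq_three.mp htc
    have hp := Nat.mem_primeFactors.mp (ht (by simp : p ∈ ({p, q, r} : Finset ℕ)))
    have hq := Nat.mem_primeFactors.mp (ht (by simp : q ∈ ({p, q, r} : Finset ℕ)))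
    have hr := Nat.mem_primeFactors.mp (ht (by simp : r ∈ ({p, q, r} : Finset ℕ)))
    exact Or.inr ⟨p, q, r, hp.1, hq.1, hr.1, hpq, hpr, hqr, hp.2.1, hq.2.1, hr.2.1⟩
  left
  have key : ∃ p q a b : ℕ, p.Prime ∧ q.Prime ∧ n = p ^ a * q ^ b := by
    have hprod := Nat.prod_factorization_pow_eq_self hn0
    rw [Finsupp.prod, Nat.support_factorization] at hprod
    have h2 : n.primeFactors.card = 0 ∨ n.primeFactors.card = 1 ∨ n.primeFactors.card = 2 := by omega
    rcases h2 with h | h | h
    · refine ⟨2, 2, 0, 0, Nat.prime_two, Nat.prime_two, ?_⟩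
      rw [Finset.card_eq_zero.mp h, Finset.prod_empty] at hprod
      simpa using hprod.symm
    · obtain ⟨p, hp⟩ := Finset.card_eq_one.mp h
      have hpp := Nat.prime_of_mem_primeFactors (hp ▸ Finset.mem_singleton_self p)
      rw [hp, Finset.prod_singleton] at hprod
      exact ⟨p, p, n.factorization p, 0, hpp, hpp, by rw [pow_zero, mul_one, hprod]⟩
    · obtain ⟨p, q, hpq, hs⟩ := Finset.card_eq_two.mp h
      have hpp := Nat.prime_of_mem_primeFactors (hs ▸ Finset.mem_insert_self p {q})
      have hqq := Nat.prime_of_mem_primeFactors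
        (hs ▸ Finset.mem_insert_of_mem (Finset.mem_singleton_self q))
      rw [hs, Finset.prod_pair hpq] at hprod
      exact ⟨p, q, _, _, hpp, hqq, hprod.symm⟩
  obtain ⟨p, q, a, b, hp, hq, h⟩ := key
  exact CfsgLib.Char.burnside_pq p q hp hq a b G h

/-- Hall: a group with a `p`-complement for every prime `p` is solvable. -/
theorem isSolvable_of_complements [Finite G]
    (h : ∀ p : ℕ, p.Prime → ∃ H : Subgroup G, H.index = p ^ (Nat.card G).factorization p) :
    Group.IsSolvable G := by
  obtain ⟨n, hn⟩ : ∃ n, Nat.card G = n := ⟨_, rfl⟩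
  induction n using Nat.strong_induction_on generalizing G with
  | _ n ih =>
    rcases isSolvable_or_exists_three_primes G with hs | ⟨p, q, r, hp, hq, hr, hpq, hpr, hqr, hpd, hqd, hrd⟩
    · exact hs
    have key : ∀ p : ℕ, p.Prime → p ∣ Nat.card G → ∀ H : Subgroup G,
        H.index = p ^ (Nat.card G).factorization p → Group.IsSolvable H := by
      intro p hp hpd H hH
      have hne : H ≠ ⊤ := by
        rintro rfl
        rw [Subgroup.index_top, eq_comm, Nat.pow_eq_one] at hH
        rcases hH with hH | hH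
        · exact hp.ne_one hH
        · exact (hp.factorization_pos_of_dvd Nat.card_pos.ne' hpd).ne' hH
      refine ih _ (hn ▸ card_subgroup_lt hne) (G := H) (fun s hs => ?_) rfl
      have hfac : ∀ t, (Nat.card G).factorization t =
          (Nat.card H).factorization t + (H.index.factorization t) := fun t => by
        rw [← H.card_mul_index, Nat.factorization_mul Nat.card_pos.ne' index_ne_zero_of_finite,
          Finsupp.add_apply]
      by_cases hsp : s = p
      · subst hsp
        refine ⟨⊤, ?_⟩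
        have := hfac s
        rw [hH, hs.factorization_pow, Finsupp.single_eq_same] at this
        rw [show (Nat.card H).factorization s = 0 by omega, pow_zero, Subgroup.index_top]
      · obtain ⟨L, hL⟩ := h s hs
        refine ⟨L.subgroupOf H, ?_⟩
        have hco : H.index.Coprime L.index := by
          rw [hH, hL]; exact Nat.Coprime.pow _ _ ((Nat.coprime_primes hp hs).mpr (Ne.symm hsp))
        have h1 := Subgroup.relIndex_mul_index (inf_le_left : H ⊓ L ≤ H)
        rw [index_inf_of_coprime hco, Subgroup.inf_relIndex_left] at h1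
        have h2 := hfac s
        rw [hH, hp.factorization_pow, Finsupp.single_eq_of_ne hsp, add_zero] at h2
        rw [← h2, ← hL]
        exact Nat.eq_of_mul_eq_mul_right (Nat.pos_of_ne_zero index_ne_zero_of_finite)
          (h1.trans (mul_comm _ _))
    obtain ⟨A, hA⟩ := h p hp
    obtain ⟨B, hB⟩ := h q hq
    obtain ⟨C, hC⟩ := h r hr
    have hcop : ∀ {s t : ℕ} (a b : ℕ), s.Prime → t.Prime → s ≠ t → (s ^ a).Coprime (t ^ b) :=
      fun a b hs ht hst => Nat.Coprime.pow _ _ ((Nat.coprime_primes hs ht).mpr hst)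
    exact isSolvable_of_three_coprime_index (key p hp hpd A hA) (key q hq hqd B hB) (key r hr hrd C hC)
      (hA ▸ hB ▸ hcop _ _ hp hq hpq) (hA ▸ hC ▸ hcop _ _ hp hr hpr) (hB ▸ hC ▸ hcop _ _ hq hr hqr)

/-- If every nontrivial subgroup has, for each prime divisor `p` of its order, a proper subgroup
of `p`-power index, then the group is solvable. -/
theorem isSolvable_of_ppower_index [Finite G]
    (h : ∀ H : Subgroup G, H ≠ ⊥ → ∀ p : ℕ, p.Prime → p ∣ Nat.card H →
      ∃ K : Subgroup H, K ≠ ⊤ ∧ ∃ k : ℕ, K.index = p ^ k) : Group.IsSolvable G := by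
  obtain ⟨n, hn⟩ : ∃ n, Nat.card G = n := ⟨_, rfl⟩
  induction n using Nat.strong_induction_on generalizing G with
  | _ n ih =>
    have hsub : ∀ H : Subgroup G, H ≠ ⊤ → Group.IsSolvable H := by
      intro H hH
      refine ih _ (hn ▸ card_subgroup_lt hH) (G := H) (fun L hL p hp hd => ?_) rfl
      let e := L.equivMapOfInjective _ H.subtype_injective
      have hne : L.map H.subtype ≠ ⊥ := by
        rwa [Ne, Subgroup.map_eq_bot_iff_of_injective _ H.subtype_injective]
      obtain ⟨K, hK, k, hk⟩ := h (L.map H.subtype) hne p hp (by rwa [← Nat.card_congr e.toEquiv])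
      refine ⟨K.comap e.toMonoidHom, ?_, k, ?_⟩
      · intro ht
        refine hK (eq_top_iff.mpr fun x _ => ?_)
        obtain ⟨y, rfl⟩ := e.surjective x
        exact Subgroup.mem_comap.mp (ht ▸ Subgroup.mem_top y)
      · rw [Subgroup.index_comap_of_surjective _ e.surjective, hk]
    rcases isSolvable_or_exists_three_primes G with hs | ⟨p, q, r, hp, hq, hr, hpq, hpr, hqr, hpd, hqd, hrd⟩
    · exact hs
    have htop : (⊤ : Subgroup G) ≠ ⊥ := by
      intro he
      have := congrArg (fun X : Subgroup G => Nat.card X) he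
      simp only [Subgroup.card_top, Subgroup.card_bot] at this
      rw [this] at hpd
      exact hp.ne_one (Nat.dvd_one.mp hpd)
    have key : ∀ p : ℕ, p.Prime → p ∣ Nat.card G →
        ∃ K : Subgroup G, Group.IsSolvable K ∧ ∃ k : ℕ, K.index = p ^ k := by
      intro p hp hd
      obtain ⟨K, hK, k, hk⟩ := h ⊤ htop p hp (by rwa [Subgroup.card_top])
      let e : (⊤ : Subgroup G) ≃* G := Subgroup.topEquiv
      refine ⟨K.map e.toMonoidHom, hsub _ ?_, k, ?_⟩
      · intro ht
        refine hK (Subgroup.map_injective (f := e.toMonoidHom) e.injective ?_)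
        rw [ht, Subgroup.map_top_of_surjective _ e.surjective]
      · rw [← hk]; exact Subgroup.index_map_equiv K e
    obtain ⟨A, hA, a, ha⟩ := key p hp hpd
    obtain ⟨B, hB, b, hb⟩ := key q hq hqd
    obtain ⟨C, hC, c, hc⟩ := key r hr hrd
    exact isSolvable_of_three_coprime_index hA hB hC
      (ha ▸ hb ▸ Nat.Coprime.pow _ _ ((Nat.coprime_primes hp hq).mpr hpq))
      (ha ▸ hc ▸ Nat.Coprime.pow _ _ ((Nat.coprime_primes hp hr).mpr hpr))
      (hb ▸ hc ▸ Nat.Coprime.pow _ _ ((Nat.coprime_primes hq hr).mpr hqr))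

end CfsgLib.Solvable
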