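import Cfsg.Prelude.Def_SolvableStructure
import Cfsg.Prelude.Def_Transfer
import Cfsg.Agent.Lib.Solvable.Fitting
import Cfsg.Agent.Lib.Solvable.Frattini2
import Cfsg.Agent.Lib.Solvable.FrobeniusComplement
import Cfsg.Agent.Lib.Coprime.Action
import Cfsg.Agent.Lib.Coprime.Generation
import Mathlib.GroupTheory.Nilpotent

/-!
Groups with nilpotent maximal subgroups; Schmidt groups; minimal nonabelian groups.
-/

set_option autoImplicit false

namespace CfsgLib.Solvable

open Subgroup
open scoped Pointwise commutatorElement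

universe u

variable {G : Type u} [Group G]

theorem commute_of_isNilpotent_of_ne [Finite G] {W : Subgroup G} (hW : Group.IsNilpotent W)
    {p q : ℕ} [Fact p.Prime] [Fact q.Prime] (hpq : p ≠ q) {A B : Subgroup G} (hA : IsPGroup p A)
    (hB : IsPGroup q B) (hAW : A ≤ W) (hBW : B ≤ W) : ∀ a ∈ A, ∀ b ∈ B, a * b = b * a := by
  intro a ha b hb
  obtain ⟨S, hS⟩ := (hA.comap_subtype : IsPGroup p (A.subgroupOf W)).exists_le_sylow
  obtain ⟨T, hT⟩ := (hB.comap_subtype : IsPGroup q (B.subgroupOf W)).exists_le_sylow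
  have := hW
  have hSn : (S : Subgroup W).Normal :=
    S.normal_of_normalizerCondition Group.normalizerCondition_of_isNilpotent
  have hTn : (T : Subgroup W).Normal :=
    T.normal_of_normalizerCondition Group.normalizerCondition_of_isNilpotent
  exact congrArg Subtype.val (Subgroup.commute_of_normal_of_disjoint _ _ hSn hTn
    (IsPGroup.disjoint_of_ne p q hpq _ _ S.2 T.2) ⟨a, hAW ha⟩ ⟨b, hBW hb⟩
    (hS (show (⟨a, hAW ha⟩ : W) ∈ A.subgroupOf W from ha))
    (hT (show (⟨b, hBW hb⟩ : W) ∈ B.subgroupOf W from hb))).eq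

/-- A group with all proper subgroups nilpotent is solvable. -/
theorem isSolvable_of_proper_nilpotent [Finite G]
    (h : ∀ H : Subgroup G, H ≠ ⊤ → Group.IsNilpotent H) : Group.IsSolvable G := by
  obtain ⟨n, hn⟩ : ∃ n, Nat.card G = n := ⟨_, rfl⟩
  induction n using Nat.strong_induction_on generalizing G with
  | _ n ih =>
    rcases subsingleton_or_nontrivial G with hs | hnt
    · exact Group.isSolvable_of_comm fun a b => Subsingleton.elim _ _
    by_cases hN : ∃ N : Subgroup G, N.Normal ∧ N ≠ ⊥ ∧ N ≠ ⊤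
    · obtain ⟨N, hNn, hNb, hNt⟩ := hN
      have := h N hNt
      have hq : Group.IsSolvable (G ⧸ N) := by
        refine ih _ (hn ▸ card_quotient_lt hNb) (G := G ⧸ N) (fun K hK => ?_) rfl
        have hne : K.comap (QuotientGroup.mk' N) ≠ ⊤ := fun ht => hK <| by
          rw [← Subgroup.map_comap_eq_self_of_surjective (QuotientGroup.mk'_surjective N) K, ht,
            Subgroup.map_top_of_surjective _ (QuotientGroup.mk'_surjective N)]
        have := h _ hne
        rw [← Subgroup.map_comap_eq_self_of_surjective (QuotientGroup.mk'_surjective N) K]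
        exact Group.nilpotent_of_surjective _ (MonoidHom.subgroupMap_surjective (QuotientGroup.mk' N) _)
      exact solvable_of_ker_le_range N.subtype (QuotientGroup.mk' N)
        (by rw [QuotientGroup.ker_mk', Subgroup.range_subtype])
    push Not at hN
    by_cases hcyc : ∃ x : G, zpowers x = ⊤
    · obtain ⟨x, hx⟩ := hcyc
      refine Group.isSolvable_of_comm fun a b => ?_
      obtain ⟨i, rfl⟩ := mem_zpowers_iff.mp (hx.ge (Subgroup.mem_top a))
      obtain ⟨j, rfl⟩ := mem_zpowers_iff.mp (hx.ge (Subgroup.mem_top b))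
      exact ((Commute.refl x).zpow_zpow i j).eq
    push Not at hcyc
    exfalso
    classical
    haveI : Finite (Subgroup G) := Finite.of_injective _ SetLike.coe_injective
    -- distinct maximal subgroups meet trivially
    have hTI : ∀ M N : Subgroup G, IsCoatom M → IsCoatom N → M ≠ N → M ⊓ N = ⊥ := by
      by_contra hcon
      push Not at hcon
      obtain ⟨M₀, N₀, hM₀, hN₀, hne₀, hb₀⟩ := hcon
      obtain ⟨D, -, hD⟩ := Finite.exists_le_maximal
        (p := fun D : Subgroup G => ∃ M N : Subgroup G, IsCoatom M ∧ IsCoatom N ∧ M ≠ N ∧ M ⊓ N = D ∧ D ≠ ⊥)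
        (a := M₀ ⊓ N₀) ⟨M₀, N₀, hM₀, hN₀, hne₀, rfl, hb₀⟩
      obtain ⟨M, N, hM, hN', hne, rfl, hDb⟩ := hD.prop
      set D := M ⊓ N
      have hnD : normalizer (D : Set G) ≠ ⊤ := fun ht => by
        have := hN D (Subgroup.normalizer_eq_top_iff.mp ht) hDb
        exact hM.1 (top_le_iff.mp (this ▸ inf_le_left))
      obtain ⟨K, hK, hDK⟩ := (eq_top_or_exists_le_coatom _).resolve_left hnD
      have grow : ∀ X : Subgroup G, IsCoatom X → D ≤ X → D ≠ X → K = X := by
        intro X hX hDX hDX'
        by_contra hKX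
        have := h X hX.1
        have hlt : D.subgroupOf X < ⊤ := lt_top_iff_ne_top.mpr fun he =>
          hDX' (le_antisymm hDX (Subgroup.subgroupOf_eq_top.mp he))
        have hg := Group.normalizerCondition_of_isNilpotent (G := X) _ hlt
        rw [← Subgroup.subgroupOf_normalizer_eq hDX] at hg
        obtain ⟨x, hx1, hx2⟩ := SetLike.exists_of_lt hg
        have hle : D ≤ K ⊓ X := le_inf (Subgroup.le_normalizer.trans hDK) hDX
        have hne' : K ⊓ X ≠ ⊥ := fun hb => hDb (le_bot_iff.mp (hb ▸ hle))
        exact hx2 ((hD.le_of_ge (y := K ⊓ X) ⟨K, X, hK, hX, hKX, rfl, hne'⟩ hle)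
          (show (x : G) ∈ K ⊓ X from ⟨hDK hx1, x.2⟩))
      have h1 := grow M hM inf_le_left fun he => hne
        ((hM.le_iff.mp (he.symm.le.trans inf_le_right)).resolve_left hN'.1).symm
      have h2 := grow N hN' inf_le_right fun he => hne
        ((hN'.le_iff.mp (he.symm.le.trans inf_le_left)).resolve_left hM.1)
      exact hne (h1.symm.trans h2)
    obtain ⟨x₀, hx₀⟩ := exists_ne (1 : G)
    have hF : ∀ M : Subgroup G, IsCoatom M → Cfsg.IsFrobeniusComplement M := by
      intro M hM
      have hMb : M ≠ ⊥ := fun hb => by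
        have h2 := hM.2 (zpowers x₀) (hb ▸ bot_lt_iff_ne_bot.mpr (by rwa [Ne, zpowers_eq_bot]))
        exact hcyc x₀ h2
      refine ⟨hMb, hM.1, fun g hg => ?_⟩
      have hgM : IsCoatom (MulAut.conj g • M) := by
        refine ⟨fun ht => hM.1 ?_, fun X hX => ?_⟩
        · rw [← conj_inv_smul_of_eq ht]
          exact Subgroup.conj_smul_eq_self_of_mem (Subgroup.mem_top _)
        · have hlt : M < MulAut.conj g⁻¹ • X := by
            refine lt_of_le_of_ne ?_ fun he => hX.ne (conj_inv_smul_of_eq he.symm ▸ by rw [inv_inv])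
            have := conj_smul_mono g⁻¹ hX.le
            rwa [conj_smul_conj_smul, inv_mul_cancel, conj_one_smul] at this
          have h2 := congrArg (fun Y => MulAut.conj g • Y) (hM.2 _ hlt)
          simp only [conj_smul_conj_smul, mul_inv_cancel, conj_one_smul] at h2
          rw [h2]
          exact Subgroup.conj_smul_eq_self_of_mem (Subgroup.mem_top _)
      refine hTI M _ hM hgM fun he => hg ?_
      have hn : normalizer (M : Set G) = M := (hM.le_iff.mp Subgroup.le_normalizer).resolve_left fun ht =>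
        hM.1 (hN M (Subgroup.normalizer_eq_top_iff.mp ht) hMb)
      exact hn.le (conj_smul_eq_self_iff.mp he.symm)
    obtain ⟨M, hM, -⟩ := (eq_top_or_exists_le_coatom (⊥ : Subgroup G)).resolve_left bot_ne_top
    obtain ⟨K, hKset, -, hKc⟩ := exists_frobeniusKernel (hF M hM)
    have hK1 : K ≠ ⊥ := fun hb => by
      have := hKc.index_eq_card
      rw [hb, Subgroup.card_bot, Subgroup.index_eq_one] at this
      exact hM.1 this
    obtain ⟨x, hx⟩ := Subgroup.ne_bot_iff_exists_ne_one.mp hK1
    obtain ⟨N, hN', hxN⟩ := (eq_top_or_exists_le_coatom (zpowers (x : G))).resolve_left (hcyc _)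
    obtain ⟨g, hg⟩ := frobenius_complements_conj (hF M hM) (hF N hN')
    have hxK : (x : G) ∈ Cfsg.frobeniusKernel M := by rw [← hKset]; exact x.2
    refine hxK.elim (fun h1 => hx (Subtype.ext h1)) fun h1 => h1 g⁻¹ ?_
    rw [conj_inv_smul_of_eq hg]
    exact hxN (mem_zpowers _)

/-- Structure of a minimal non-nilpotent group. -/
theorem schmidt_structure [Finite G] (hG : Cfsg.IsMinimalNonNilpotent G) :
    ∃ p q : ℕ, p.Prime ∧ q.Prime ∧ p ≠ q ∧ ∃ (P : Sylow p G) (Q : Sylow q G),
      IsCyclic P ∧ (Q : Subgroup G).Normal ∧ (P : Subgroup G) ⊔ Q = ⊤ := by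
  classical
  have : Group.IsSolvable G := isSolvable_of_proper_nilpotent hG.2
  have : Nontrivial G := by
    by_contra h
    rw [not_nontrivial_iff_subsingleton] at h
    exact hG.1 Group.isNilpotent_of_subsingleton
  obtain ⟨M, hM, hcM⟩ := (eq_top_or_exists_le_coatom _).resolve_left
    (Group.IsSolvable.commutator_lt_top_of_nontrivial G).ne
  have hMn : M.Normal := ⟨fun m hm g => by
    have h1 : ⁅g, m⁆ ∈ M := hcM (Subgroup.commutator_mem_commutator (Subgroup.mem_top g) (Subgroup.mem_top m))
    have := M.mul_mem h1 hm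
    rwa [commutatorElement_def, inv_mul_cancel_right] at this⟩
  have hMnil := hG.2 M hM.1
  obtain ⟨p, hp, hpM⟩ := Nat.exists_prime_and_dvd (M.index_eq_one.not.mpr hM.1)
  have : Fact p.Prime := ⟨hp⟩
  -- every element `g ∉ M` generates `G` over `M`
  have hidx : M.index = p := by
    obtain ⟨y, hy⟩ := exists_prime_orderOf_dvd_card' p (G := G ⧸ M) (Subgroup.index_eq_card M ▸ hpM)
    have hlt : M < (zpowers y).comap (QuotientGroup.mk' M) := by
      refine lt_of_le_of_ne (fun m hm => by simp [(QuotientGroup.eq_one_iff m).mpr hm]) fun he => ?_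
      have h2 := Subgroup.map_comap_eq_self_of_surjective (QuotientGroup.mk'_surjective M) (zpowers y)
      rw [← he, QuotientGroup.map_mk'_self, eq_comm, zpowers_eq_bot] at h2
      rw [h2, orderOf_one] at hy
      exact hp.ne_one hy.symm
    have h2 := Subgroup.map_comap_eq_self_of_surjective (QuotientGroup.mk'_surjective M) (zpowers y)
    rw [hM.2 _ hlt, Subgroup.map_top_of_surjective _ (QuotientGroup.mk'_surjective M)] at h2
    rw [Subgroup.index_eq_card, ← Subgroup.card_top, h2, Nat.card_zpowers, hy]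
  -- Sylow subgroups for other primes are normal and lie in `M`
  have hnorm : ∀ (q : ℕ) [Fact q.Prime], q ≠ p → ∀ Q : Sylow q G, (Q : Subgroup G).Normal := by
    intro q _ hqp Q
    obtain ⟨S⟩ := (inferInstance : Nonempty (Sylow q M))
    have hSn : (S : Subgroup M).Normal :=
      S.normal_of_normalizerCondition Group.normalizerCondition_of_isNilpotent
    have hSc := S.characteristic_of_normal hSn
    set X := (S : Subgroup M).map M.subtype with hX
    have hXn : X.Normal := inferInstance
    have hi : ¬ q ∣ X.index := by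
      rw [hX, Subgroup.index_map_subtype, hidx]
      intro hd
      rcases (Fact.out : q.Prime).dvd_mul.mp hd with hd | hd
      · exact S.not_dvd_index hd
      · exact hqp ((Nat.prime_dvd_prime_iff_eq Fact.out hp).mp hd)
    obtain ⟨g, hg⟩ := MulAction.exists_smul_eq G ((S.2.map M.subtype).toSylow hi) Q
    rw [← hg, Sylow.coe_subgroup_smul, IsPGroup.toSylow_coe, Subgroup.Normal.conj_smul_eq_self]
    exact hXn
  obtain ⟨P⟩ := (inferInstance : Nonempty (Sylow p G))
  have hPn : ¬ (P : Subgroup G).Normal := by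
    intro hPn
    refine hG.1 (((Group.isNilpotent_of_finite_tfae (G := G)).out 0 3).mpr fun q hq Q => ?_)
    have := hq
    by_cases hqp : q = p
    · subst hqp
      obtain ⟨g, rfl⟩ := MulAction.exists_smul_eq G P Q
      rw [Sylow.coe_subgroup_smul, Subgroup.Normal.conj_smul_eq_self]
      exact hPn
    · exact hnorm q hqp Q
  obtain ⟨q, hq, hqp, Q, hPQ⟩ : ∃ (q : ℕ) (_ : Fact q.Prime), q ≠ p ∧ ∃ Q : Sylow q G,
      (P : Subgroup G) ⊔ Q = ⊤ := by
    by_contra hcon
    push Not at hcon
    apply hPn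
    rw [← Subgroup.normalizer_eq_top_iff, ← Subgroup.index_eq_one]
    by_contra hne
    obtain ⟨r, hr, hrd⟩ := Nat.exists_prime_and_dvd hne
    have : Fact r.Prime := ⟨hr⟩
    have hrp : r ≠ p := by
      rintro rfl
      exact P.not_dvd_index (hrd.trans (Subgroup.index_dvd_of_le Subgroup.le_normalizer))
    obtain ⟨R⟩ := (inferInstance : Nonempty (Sylow r G))
    refine R.not_dvd_index (hrd.trans (Subgroup.index_dvd_of_le fun x hx => ?_))
    refine Subgroup.centralizer_le_normalizer _ (Subgroup.mem_centralizer_iff.mpr fun y hy => ?_)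
    exact (commute_of_isNilpotent_of_ne (hG.2 _ (hcon r inferInstance hrp R)) hrp R.2 P.2
      le_sup_right le_sup_left x hx y hy).symm
  refine ⟨p, q, hp, Fact.out, Ne.symm hqp, P, Q, ?_, hnorm q hqp Q, hPQ⟩
  by_contra hnc
  apply hPn
  rw [← Subgroup.normalizer_eq_top_iff, eq_top_iff, ← hPQ]
  refine sup_le Subgroup.le_normalizer fun y hy => Subgroup.centralizer_le_normalizer _ ?_
  refine Subgroup.mem_centralizer_iff.mpr fun x hx => ?_
  have hne : zpowers x ⊔ (Q : Subgroup G) ≠ ⊤ := by
    intro ht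
    apply hnc
    have hQn := hnorm q hqp Q
    have hle : (P : Subgroup G) ≤ zpowers x := by
      intro z hz
      have hz' : z ∈ ((zpowers x ⊔ (Q : Subgroup G) : Subgroup G) : Set G) := ht.ge (Subgroup.mem_top z)
      rw [Subgroup.mul_normal] at hz'
      obtain ⟨a, ha, b, hb, rfl⟩ := Set.mem_mul.mp hz'
      have hbP : b ∈ (P : Subgroup G) := by
        have := mul_mem (inv_mem (zpowers_le.mpr hx ha)) hz
        simpa [mul_assoc] using this
      rw [Subgroup.disjoint_def.mp (IsPGroup.disjoint_of_ne p q (Ne.symm hqp) _ _ P.2 Q.2) hbP hb,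
        mul_one]
      exact ha
    refine ⟨⟨⟨x, hx⟩, fun z => ?_⟩⟩
    obtain ⟨k, hk⟩ := mem_zpowers_iff.mp (hle z.2)
    exact ⟨k, Subtype.ext (by rw [← hk]; rfl)⟩
  exact commute_of_isNilpotent_of_ne (hG.2 _ hne) (Ne.symm hqp) (P.2.to_le (zpowers_le.mpr hx)) Q.2
    le_sup_left le_sup_right x (mem_zpowers x) y hy

/-- The quotient of a Schmidt group by the derived subgroup of its normal Sylow subgroup. -/
theorem schmidt_quotient [Finite G] (hG : Cfsg.IsMinimalNonNilpotent G) (q : ℕ) [Fact q.Prime]
    (hq : q ∣ Nat.card G) (Q : Sylow q G) (hQ : (Q : Subgroup G).Normal) (D : Subgroup G) [D.Normal]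
    (hD : D = (commutator ↥(Q : Subgroup G)).map (Q : Subgroup G).subtype) :
    ¬ IsMulCommutative (G ⧸ D) ∧ ∀ K : Subgroup (G ⧸ D), K ≠ ⊤ → IsMulCommutative K := by
  classical
  obtain ⟨p, r, hp, hr, hpr, P, R, hPc, hRn, hPR⟩ := schmidt_structure hG
  have : Fact p.Prime := ⟨hp⟩
  have : Fact r.Prime := ⟨hr⟩
  have hdisj : Disjoint (P : Subgroup G) R := IsPGroup.disjoint_of_ne p r hpr _ _ P.2 R.2
  have hcard : Nat.card G = Nat.card (P : Subgroup G) * Nat.card (R : Subgroup G) :=
    (Subgroup.isComplement'_of_disjoint_and_mul_eq_univ hdisj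
      (by rw [← Subgroup.mul_normal, hPR, Subgroup.coe_top])).card_mul_card.symm
  have hqr : q = r := by
    rw [hcard, P.card_eq_multiplicity, R.card_eq_multiplicity] at hq
    rcases (Fact.out : q.Prime).dvd_mul.mp hq with h | h
    · exfalso
      have hqp := (Nat.prime_dvd_prime_iff_eq Fact.out hp).mp ((Fact.out : q.Prime).dvd_of_dvd_pow h)
      subst hqp
      obtain ⟨g, hg⟩ := MulAction.exists_smul_eq G Q P
      have hPn : (P : Subgroup G).Normal := by
        rw [← hg, Sylow.coe_subgroup_smul, Subgroup.Normal.conj_smul_eq_self]; exact hQ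
      refine hG.1 (((Group.isNilpotent_of_finite_tfae (G := G)).out 0 3).mpr fun s hs S => ?_)
      have := hs
      by_cases hsq : s = q
      · subst hsq
        obtain ⟨g, rfl⟩ := MulAction.exists_smul_eq G P S
        rw [Sylow.coe_subgroup_smul, Subgroup.Normal.conj_smul_eq_self]
        exact hPn
      · by_cases hsr : s = r
        · subst hsr
          obtain ⟨g, rfl⟩ := MulAction.exists_smul_eq G R S
          rw [Sylow.coe_subgroup_smul, Subgroup.Normal.conj_smul_eq_self]
          exact hRn
        · have : (S : Subgroup G) = ⊥ := by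
            rw [← Subgroup.card_eq_one, S.card_eq_multiplicity, Nat.factorization_eq_zero_of_not_dvd,
              pow_zero]
            intro hd
            rw [hcard, P.card_eq_multiplicity, R.card_eq_multiplicity] at hd
            rcases hs.out.dvd_mul.mp hd with h' | h'
            · exact hsq ((Nat.prime_dvd_prime_iff_eq hs.out hp).mp (hs.out.dvd_of_dvd_pow h'))
            · exact hsr ((Nat.prime_dvd_prime_iff_eq hs.out hr).mp (hs.out.dvd_of_dvd_pow h'))
          rw [this]; infer_instance
    · exact (Nat.prime_dvd_prime_iff_eq Fact.out hr).mp ((Fact.out : q.Prime).dvd_of_dvd_pow h)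
  subst hqr
  have hRQ : (R : Subgroup G) = Q := by
    obtain ⟨g, hg⟩ := MulAction.exists_smul_eq G Q R
    rw [← hg, Sylow.coe_subgroup_smul, Subgroup.Normal.conj_smul_eq_self]
  rw [hRQ] at hPR
  have hQnil : Group.IsNilpotent (Q : Subgroup G) := Q.2.isNilpotent
  set π := QuotientGroup.mk' D with hπ
  refine ⟨fun hab => hG.1 ?_, fun K hK => ?_⟩
  · -- `P` centralises `Q` modulo `D`, hence centralises `Q`
    have hcop : (Nat.card (P : Subgroup G)).Coprime (Nat.card (Q : Subgroup G)) :=
      IsPGroup.coprime_card_of_ne p q hpr _ _ P.2 Q.2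
    have hPQn : (P : Subgroup G) ≤ normalizer ((Q : Subgroup G) : Set G) := by
      rw [Subgroup.normalizer_eq_top_iff.mpr hQ]; exact le_top
    have h1 := CfsgLib.Coprime.commutator_sup_centralizer hPQn hcop (Or.inr inferInstance)
    have hc : ⁅(Q : Subgroup G), (P : Subgroup G)⁆ ≤ D := by
      rw [Subgroup.commutator_le]
      intro a _ b _
      rw [← QuotientGroup.eq_one_iff (N := D)]
      show QuotientGroup.mk' D ⁅a, b⁆ = 1
      rw [map_commutatorElement, commutatorElement_eq_one_iff_mul_comm]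
      exact hab.is_comm.comm _ _
    have hQC : (Q : Subgroup G) ≤ centralizer ((P : Subgroup G) : Set G) := by
      set C := ((Q : Subgroup G) ⊓ centralizer ((P : Subgroup G) : Set G)).subgroupOf (Q : Subgroup G)
      have htop : C ⊔ commutator (Q : Subgroup G) = ⊤ := by
        refine Subgroup.map_injective (Q : Subgroup G).subtype_injective ?_
        rw [Subgroup.map_sup, Subgroup.map_subgroupOf_eq_of_le inf_le_left, ← hD,
          ← MonoidHom.range_eq_map, Subgroup.range_subtype]
        refine le_antisymm (sup_le inf_le_left (hD.le.trans (Subgroup.map_subtype_le _))) ?_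
        conv_lhs => rw [← h1]
        exact sup_le (hc.trans le_sup_right) le_sup_left
      have h2 := eq_top_of_sup_eq_top_of_le_frattini commutator_le_frattini htop
      exact (Subgroup.subgroupOf_eq_top.mp h2).trans inf_le_right
    have hPn : (P : Subgroup G).Normal := by
      rw [← Subgroup.normalizer_eq_top_iff, eq_top_iff, ← hPR]
      exact sup_le Subgroup.le_normalizer (hQC.trans (Subgroup.centralizer_le_normalizer _))
    have := P.2.isNilpotent
    exact Group.isNilpotent_congr Subgroup.topEquiv |>.mp (hPR ▸ isNilpotent_sup this hQnil)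
  · have hK' : K.comap π ≠ ⊤ := fun ht => hK <| by
      rw [← Subgroup.map_comap_eq_self_of_surjective (QuotientGroup.mk'_surjective D) K, ← hπ, ht, hπ,
        Subgroup.map_top_of_surjective _ (QuotientGroup.mk'_surjective D)]
    set H := K.comap π with hH
    have hHnil := hG.2 H hK'
    obtain ⟨S⟩ := (inferInstance : Nonempty (Sylow p H))
    set S' := (S : Subgroup H).map H.subtype with hS'
    set T' := H ⊓ (Q : Subgroup G) with hT'
    have hS'p : IsPGroup p S' := S.2.map _
    have hsup : S' ⊔ T' = H := by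
      refine le_antisymm (sup_le (Subgroup.map_subtype_le _) inf_le_left) ?_
      refine Subgroup.subgroupOf_eq_top.mp (eq_top_of_forall_prime fun s hs hd => ?_)
      by_cases hsp : s = p
      · subst hsp
        refine S.not_dvd_index (hd.trans (Subgroup.index_dvd_of_le fun x hx => ?_))
        exact Subgroup.mem_sup_left ⟨x, hx, rfl⟩
      · have h1 : s ∣ (T'.subgroupOf H).index :=
          hd.trans (Subgroup.index_dvd_of_le fun x hx => Subgroup.mem_sup_right hx)
        have h2 : (T'.subgroupOf H).index ∣ (Q : Subgroup G).index := by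
          rw [← Subgroup.relIndex, hT', Subgroup.inf_relIndex_left]
          exact Subgroup.relIndex_dvd_index_of_normal _ _
        have h3 : (Q : Subgroup G).index = Nat.card (P : Subgroup G) := by
          have h := (Q : Subgroup G).card_mul_index
          rw [hcard, hRQ, mul_comm (Nat.card (P : Subgroup G))] at h
          exact Nat.eq_of_mul_eq_mul_left Nat.card_pos h
        have h4 := h1.trans (h2.trans h3.dvd)
        rw [P.card_eq_multiplicity] at h4
        exact hsp ((Nat.prime_dvd_prime_iff_eq hs hp).mp (hs.dvd_of_dvd_pow h4))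
    have hS'c : ∀ a ∈ S', ∀ b ∈ S', a * b = b * a := by
      intro a ha b hb
      obtain ⟨P₁, hP₁⟩ := hS'p.exists_le_sylow
      have : IsCyclic P₁ := isCyclic_of_surjective (P.equiv P₁).toMonoidHom (P.equiv P₁).surjective
      exact congrArg Subtype.val (comm_of_isCyclic (⟨a, hP₁ ha⟩ : P₁) ⟨b, hP₁ hb⟩)
    have hT'c : ∀ a ∈ T', ∀ b ∈ T', π a * π b = π b * π a := by
      intro a ha b hb
      rw [← commutatorElement_eq_one_iff_mul_comm, ← map_commutatorElement]
      refine (QuotientGroup.eq_one_iff _).mpr ?_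
      rw [hD]
      exact ⟨⁅(⟨a, ha.2⟩ : (Q : Subgroup G)), ⟨b, hb.2⟩⁆,
        Subgroup.commutator_mem_commutator (Subgroup.mem_top _) (Subgroup.mem_top _), rfl⟩
    have hST : ∀ a ∈ S', ∀ b ∈ T', a * b = b * a :=
      commute_of_isNilpotent_of_ne hHnil hpr hS'p (Q.2.to_le inf_le_right)
        (Subgroup.map_subtype_le _) inf_le_left
    rw [← Subgroup.map_comap_eq_self_of_surjective (QuotientGroup.mk'_surjective D) K, ← hπ, ← hH,
      ← hsup, Subgroup.map_sup, ← Subgroup.closure_eq (S'.map π), ← Subgroup.closure_eq (T'.map π),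
      ← Subgroup.closure_union]
    refine Subgroup.isMulCommutative_closure ?_
    rintro _ (⟨a, ha, rfl⟩ | ⟨a, ha, rfl⟩) _ (⟨b, hb, rfl⟩ | ⟨b, hb, rfl⟩)
    · rw [← map_mul, ← map_mul, hS'c a ha b hb]
    · rw [← map_mul, ← map_mul, hST a ha b hb]
    · rw [← map_mul, ← map_mul, hST b hb a ha]
    · exact hT'c a ha b hb

/-- Minimal nonabelian groups. -/
theorem minimal_nonabelian_structure [Finite G] (hna : ¬ IsMulCommutative G)
    (h : ∀ H : Subgroup G, H ≠ ⊤ → IsMulCommutative H) :
    (∃ p : ℕ, p.Prime ∧ IsPGroup p G) ∨ ∃ p q : ℕ, p.Prime ∧ q.Prime ∧ p ≠ q ∧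
      ∃ (P : Sylow p G) (Q : Sylow q G), IsCyclic P ∧ (Q : Subgroup G).Normal ∧
        Cfsg.IsElementaryAbelian q (Q : Subgroup G) ∧ (P : Subgroup G) ⊔ Q = ⊤ := by
  classical
  have hnil : ∀ H : Subgroup G, H ≠ ⊤ → Group.IsNilpotent H := fun H hH => by
    have := h H hH
    let _ : CommGroup H := { (inferInstance : Group H) with mul_comm := this.is_comm.comm }
    infer_instance
  have mk : ∀ (H : Subgroup G), H ≠ ⊤ → ∀ a ∈ H, ∀ b ∈ H, a * b = b * a :=
    fun H hH a ha b hb => congrArg Subtype.val ((h H hH).is_comm.comm ⟨a, ha⟩ ⟨b, hb⟩)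
  by_cases hG : Group.IsNilpotent G
  · left
    by_contra hcon
    push Not at hcon
    apply hna
    have hne : ∀ (q : ℕ) [Fact q.Prime] (S : Sylow q G), (S : Subgroup G) ≠ ⊤ := fun q hq S ht =>
      hcon q hq.out (S.2.of_equiv ((MulEquiv.subgroupCongr ht).trans Subgroup.topEquiv))
    have hN : ∀ (q : ℕ) [Fact q.Prime] (S : Sylow q G), (S : Subgroup G).Normal := fun q _ S =>
      S.normal_of_normalizerCondition Group.normalizerCondition_of_isNilpotent
    have hcent : ∀ (q : ℕ) [Fact q.Prime] (S : Sylow q G), (S : Subgroup G) ≤ center G := by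
      intro q _ S
      have key : ∀ x ∈ (S : Subgroup G), centralizer ({x} : Set G) = ⊤ := by
        intro x hx
        refine eq_top_of_forall_prime fun r hr hd => ?_
        have : Fact r.Prime := ⟨hr⟩
        obtain ⟨T⟩ := (inferInstance : Nonempty (Sylow r G))
        refine T.not_dvd_index (hd.trans (Subgroup.index_dvd_of_le fun y hy => ?_))
        rw [Subgroup.mem_centralizer_singleton_iff]
        by_cases hrq : r = q
        · subst hrq
          have hTS : (T : Subgroup G) = S := by
            obtain ⟨g, hg⟩ := MulAction.exists_smul_eq G S T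
            have := hN r S
            rw [← hg, Sylow.coe_subgroup_smul, Subgroup.Normal.conj_smul_eq_self]
          exact mk _ (hne r S) y (hTS ▸ hy) x hx
        · exact commute_of_isNilpotent_of_ne (W := (⊤ : Subgroup G))
            ((Group.isNilpotent_congr Subgroup.topEquiv).mpr hG) hrq T.2 S.2 le_top le_top y hy x hx
      intro x hx
      rw [Subgroup.mem_center_iff]
      intro y
      exact Subgroup.mem_centralizer_singleton_iff.mp ((key x hx).ge (Subgroup.mem_top y))
    have htop : center G = ⊤ := by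
      refine eq_top_of_forall_prime fun r hr hd => ?_
      have : Fact r.Prime := ⟨hr⟩
      obtain ⟨T⟩ := (inferInstance : Nonempty (Sylow r G))
      exact T.not_dvd_index (hd.trans (Subgroup.index_dvd_of_le (hcent r T)))
    exact ⟨⟨fun a b => (Subgroup.mem_center_iff.mp (htop.ge (Subgroup.mem_top b)) a)⟩⟩
  · right
    obtain ⟨p, q, hp, hq, hpq, P, Q, hPc, hQn, hPQ⟩ := schmidt_structure ⟨hG, hnil⟩
    have : Fact p.Prime := ⟨hp⟩
    have : Fact q.Prime := ⟨hq⟩
    refine ⟨p, q, hp, hq, hpq, P, Q, hPc, hQn, ?_, hPQ⟩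
    have hQt : (Q : Subgroup G) ≠ ⊤ := fun ht => hG
      ((Group.isNilpotent_congr ((MulEquiv.subgroupCongr ht).trans Subgroup.topEquiv)).mp Q.2.isNilpotent)
    have hQab := h _ hQt
    refine ⟨hQab, ?_⟩
    have hcop : (Nat.card (P : Subgroup G)).Coprime (Nat.card (Q : Subgroup G)) :=
      IsPGroup.coprime_card_of_ne p q hpq _ _ P.2 Q.2
    have hPQn : (P : Subgroup G) ≤ normalizer ((Q : Subgroup G) : Set G) := by
      rw [Subgroup.normalizer_eq_top_iff.mpr hQn]; exact le_top
    have hnPC : ¬ (Q : Subgroup G) ≤ centralizer ((P : Subgroup G) : Set G) := fun hle => hG <| by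
      have hPn : (P : Subgroup G).Normal := by
        rw [← Subgroup.normalizer_eq_top_iff, eq_top_iff, ← hPQ]
        exact sup_le Subgroup.le_normalizer (hle.trans (Subgroup.centralizer_le_normalizer _))
      exact Group.isNilpotent_congr Subgroup.topEquiv |>.mp
        (hPQ ▸ isNilpotent_sup P.2.isNilpotent Q.2.isNilpotent)
    -- a `P`-invariant proper subgroup of `Q` is centralised by `P`
    have hinv : ∀ X : Subgroup G, X ≤ (Q : Subgroup G) → (P : Subgroup G) ≤ normalizer (X : Set G) →
        X = Q ∨ X ≤ centralizer ((P : Subgroup G) : Set G) := by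
      intro X hX hPX
      by_cases ht : (P : Subgroup G) ⊔ X = ⊤
      · left
        refine le_antisymm hX fun y hy => ?_
        have hy' : y ∈ ((P : Subgroup G) ⊔ X : Subgroup G) := ht.ge (Subgroup.mem_top y)
        obtain ⟨a, ha, b, hb, hab⟩ := (CfsgLib.Coprime.mem_sup_of_le_normalizer' hPX).mp
          (show y ∈ X ⊔ (P : Subgroup G) by rw [sup_comm]; exact hy')
        have haQ : a ∈ (Q : Subgroup G) := by
          have : a = y * b⁻¹ := by rw [← hab]; group
          rw [this]; exact mul_mem hy (inv_mem (hX hb))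
        rw [Subgroup.disjoint_def.mp (IsPGroup.disjoint_of_ne p q hpq _ _ P.2 Q.2) ha haQ, one_mul] at hab
        exact hab ▸ hb
      · right
        exact fun x hx => Subgroup.mem_centralizer_iff.mpr fun y hy =>
          mk _ ht y (Subgroup.mem_sup_left hy) x (Subgroup.mem_sup_right hx)
    let Ω : Subgroup G :=
      { carrier := {y | y ∈ (Q : Subgroup G) ∧ y ^ q = 1}
        one_mem' := ⟨one_mem _, one_pow _⟩
        mul_mem' := fun {a b} ha hb => ⟨mul_mem ha.1 hb.1, by
          rw [(show Commute a b from mk _ hQt a ha.1 b hb.1).mul_pow, ha.2, hb.2, one_mul]⟩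
        inv_mem' := fun {a} ha => ⟨inv_mem ha.1, by rw [inv_pow, ha.2, inv_one]⟩ }
    have hΩ : (P : Subgroup G) ≤ normalizer (Ω : Set G) := by
      have hfwd : ∀ g ∈ (P : Subgroup G), ∀ y, y ∈ Ω → g * y * g⁻¹ ∈ Ω := fun g hg y hy =>
        ⟨(Subgroup.mem_normalizer_iff.mp (hPQn hg) y).mp hy.1, by rw [conj_pow, hy.2, mul_one, mul_inv_cancel]⟩
      intro g hg
      refine Subgroup.mem_normalizer_iff.mpr fun y => ⟨hfwd g hg y, fun hy => ?_⟩
      have := hfwd g⁻¹ (inv_mem hg) _ hy
      simpa [mul_assoc] using this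
    rcases hinv Ω (fun y hy => hy.1) hΩ with hΩQ | hΩC
    · intro a ha
      exact (hΩQ.ge ha).2
    · exfalso
      apply hnPC
      rw [← Subgroup.commutator_eq_bot_iff_le_centralizer]
      by_contra hne
      have hle : ⁅(Q : Subgroup G), (P : Subgroup G)⁆ ≤ Q :=
        Subgroup.le_normalizer_iff_commutator_le_left.mp hPQn
      obtain ⟨m, hm, hmc⟩ := (Q.2.to_le hle).nontrivial_iff_card.mp
        ((Subgroup.nontrivial_iff_ne_bot _).mpr hne)
      obtain ⟨y, hy⟩ := exists_prime_orderOf_dvd_card' q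
        (G := (⁅(Q : Subgroup G), (P : Subgroup G)⁆ : Subgroup G)) (hmc ▸ dvd_pow_self q hm.ne')
      have hyo : orderOf (y : G) = q := by rw [Subgroup.orderOf_coe, hy]
      have hmem : (y : G) ∈ ⁅(Q : Subgroup G), (P : Subgroup G)⁆ ⊓ centralizer ((P : Subgroup G) : Set G) :=
        ⟨y.2, hΩC ⟨hle y.2, orderOf_dvd_iff_pow_eq_one.mp hyo.dvd⟩⟩
      rw [CfsgLib.Coprime.commutator_inf_centralizer_eq_bot hQab hPQn hcop, Subgroup.mem_bot] at hmem
      rw [hmem, orderOf_one] at hyo
      exact hq.ne_one hyo.symm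

end CfsgLib.Solvable
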