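import Mathlib.GroupTheory.PGroup
import Mathlib.GroupTheory.Nilpotent
import Mathlib.GroupTheory.Solvable
import Mathlib.GroupTheory.Index
import Mathlib.GroupTheory.Commutator.Basic
import Mathlib.GroupTheory.Subgroup.Centralizer
import Cfsg.Agent.Lib.Transfer.ClassTwo
import Mathlib.Tactic

/-!
# Breadth and commutator subgroups of `p`-groups (Vaughan-Lee's theorem)

If all elements outside a proper subgroup of a finite `p`-group have breadth at most `b`, then the
derived subgroup has order at most `p ^ (b * (b + 1) / 2)`.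

The proof descends through maximal subgroups: for a maximal subgroup `J` and `t ∉ J`, the map
`h ↦ ⁅t, h⁆` from `J` to `G / J'` is a homomorphism whose kernel `K` has index at most
`p ^ breadth t`, and elements of `J` outside `K` have their centralisers inside `J`, so their
breadth in `J` is one less than in `G`.
-/

namespace CfsgLib.Solvable.Breadth

open scoped commutatorElement

variable {G : Type*} [Group G]

theorem relIndex_le_index_of_finite [Finite G] (H J : Subgroup G) : H.relIndex J ≤ H.index := by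
  rw [← Subgroup.relIndex_top_right]
  refine Subgroup.relIndex_le_of_le_right le_top ?_
  rw [Subgroup.relIndex_top_right]
  exact Subgroup.index_ne_zero_of_finite

/-- `breadth x ≤ b`, i.e. the centralizer of `x` has index at most `p ^ b`. -/
def BreadthLE (p : ℕ) (b : ℕ) (x : G) : Prop :=
  (Subgroup.centralizer ({x} : Set G)).index ≤ p ^ b

theorem exists_not_mem_two {A B : Subgroup G} (hA : A ≠ ⊤) (hB : B ≠ ⊤) :
    ∃ x : G, x ∉ A ∧ x ∉ B := by
  by_contra hcon
  push Not at hcon
  obtain ⟨a, -, ha⟩ := SetLike.exists_of_lt (lt_top_iff_ne_top.2 hA)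
  obtain ⟨c, -, hc⟩ := SetLike.exists_of_lt (lt_top_iff_ne_top.2 hB)
  have haB : a ∈ B := hcon a ha
  have hcA : c ∈ A := by
    by_contra h
    exact hc (hcon c h)
  by_cases h : a * c ∈ A
  · exact ha ((A.mul_mem_cancel_right hcA).1 h)
  · exact hc ((B.mul_mem_cancel_left haB).1 (hcon _ h))

theorem centralizer_subgroupOf (J : Subgroup G) (x : J) :
    Subgroup.centralizer ({x} : Set J) = (Subgroup.centralizer ({(x : G)} : Set G)).subgroupOf J := by
  ext y
  rw [Subgroup.mem_subgroupOf, Subgroup.mem_centralizer_singleton_iff,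
    Subgroup.mem_centralizer_singleton_iff, Subtype.ext_iff]
  rfl

theorem breadthLE_subgroup [Finite G] {p b : ℕ} (J : Subgroup G) (x : J)
    (h : BreadthLE p b (x : G)) : BreadthLE p b x := by
  unfold BreadthLE at h ⊢
  rw [centralizer_subgroupOf]
  exact le_trans (relIndex_le_index_of_finite _ J) h

theorem breadthLE_pred [Finite G] {p b : ℕ} (hp : 0 < p) (hb : 1 ≤ b) (J : Subgroup G) (hJ : J.index = p) (x : J)
    (hC : Subgroup.centralizer ({(x : G)} : Set G) ≤ J)
    (h : BreadthLE p b (x : G)) : BreadthLE p (b - 1) x := by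
  unfold BreadthLE at h ⊢
  rw [centralizer_subgroupOf]
  show (Subgroup.centralizer ({(x : G)} : Set G)).relIndex J ≤ p ^ (b - 1)
  rw [← Subgroup.relIndex_mul_index hC, hJ] at h
  obtain ⟨c, rfl⟩ : ∃ c, b = c + 1 := ⟨b - 1, by omega⟩
  rw [pow_succ] at h
  simpa using Nat.le_of_mul_le_mul_right h hp

section Step

variable [Finite G] {p : ℕ} [Fact p.Prime]

/-- The image of the derived subgroup of `J` in `G`. -/
def derivedOf (J : Subgroup G) : Subgroup G := ⁅J, J⁆

theorem card_derivedOf (J : Subgroup G) :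
    Nat.card (derivedOf J) = Nat.card (commutator J) := by
  unfold derivedOf
  rw [← Subgroup.map_subtype_commutator, Nat.card_congr
    ((commutator J).equivMapOfInjective J.subtype J.subtype_injective).toEquiv.symm]

/-- The descent step. -/
theorem step (hG : IsPGroup p G) (J : Subgroup G) (hJ : IsCoatom J) (t : G) (ht : t ∉ J) :
    ∃ K : Subgroup J,
      Nat.card (commutator G) ≤ Nat.card (commutator J) * K.index ∧
      K.index ≤ (Subgroup.centralizer ({t} : Set G)).index ∧
      ∀ w : J, w ∉ K → Subgroup.centralizer ({(w : G)} : Set G) ≤ J := by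
  obtain ⟨hJn, hJi⟩ := CfsgLib.Transfer.coatom_index_eq_prime hG hJ
  let N : Subgroup G := ⁅J, J⁆
  haveI hNn : N.Normal := Subgroup.commutator_normal J J
  let π : G →* G ⧸ N := QuotientGroup.mk' N
  have hcomm : ∀ a ∈ J, ∀ c ∈ J, Commute (π a) (π c) := by
    intro a ha c hc
    rw [← commutatorElement_eq_one_iff_commute, ← map_commutatorElement]
    exact (QuotientGroup.eq_one_iff _).2 (Subgroup.commutator_mem_commutator ha hc)
  have hmem : ∀ c : G, c ∈ J → ⁅t, c⁆ ∈ J := by
    intro c hc
    rw [commutatorElement_def]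
    exact J.mul_mem (hJn.conj_mem c hc t) (J.inv_mem hc)
  let δ : J →* G ⧸ N :=
    MonoidHom.mk' (fun h => π ⁅t, (h : G)⁆) (by
      intro a c
      have e : ⁅t, (a : G) * c⁆ = ⁅t, (a : G)⁆ * ((a : G) * ⁅t, (c : G)⁆ * (a : G)⁻¹) := by
        simp only [commutatorElement_def]
        group
      have e2 : π ((a : G) * ⁅t, (c : G)⁆ * (a : G)⁻¹) = π ⁅t, (c : G)⁆ := by
        rw [map_mul, map_mul, (hcomm _ a.2 _ (hmem _ c.2)).eq, map_inv, mul_inv_cancel_right]
      show π ⁅t, ((a * c : J) : G)⁆ = _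
      rw [Subgroup.coe_mul, e, map_mul, e2])
  have hgenJ : J ⊔ Subgroup.zpowers t = ⊤ :=
    hJ.2 _ (lt_of_le_of_ne le_sup_left fun he =>
      ht (he ▸ le_sup_right (a := J) (Subgroup.mem_zpowers t)))
  let R : Subgroup (G ⧸ N) := δ.range
  have hRJ : R ≤ J.map π := by
    rintro _ ⟨h, rfl⟩
    exact Subgroup.mem_map_of_mem π (hmem _ h.2)
  have hconj : ∀ x : G, ∀ r ∈ R, π x * r * (π x)⁻¹ ∈ R := by
    intro x
    have hx : x ∈ Subgroup.closure ((J : Set G) ∪ {t}) := by
      rw [Subgroup.closure_union, Subgroup.closure_eq, ← Subgroup.zpowers_eq_closure, hgenJ]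
      trivial
    induction hx using Subgroup.closure_induction with
    | mem y hy =>
      intro r hr
      rcases hy with hy | hy
      · obtain ⟨c, hc, rfl⟩ := hRJ hr
        rwa [(hcomm y hy c hc).eq, mul_inv_cancel_right]
      · rw [Set.mem_singleton_iff] at hy
        obtain ⟨h, rfl⟩ := hr
        refine ⟨⟨t * h * t⁻¹, hJn.conj_mem _ h.2 t⟩, ?_⟩
        subst hy
        show π ⁅y, y * (h : G) * y⁻¹⁆ = π y * π ⁅y, (h : G)⁆ * (π y)⁻¹
        rw [← map_inv, ← map_mul, ← map_mul]
        congr 1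
        simp only [commutatorElement_def]
        group
    | one => simp
    | mul a c _ _ ha hc =>
      intro r hr
      have := ha _ (hc r hr)
      simpa [map_mul, mul_assoc] using this
    | inv a _ ha =>
      intro r hr
      let φ : R → R := fun s => ⟨π a * s * (π a)⁻¹, ha _ s.2⟩
      have hinj : Function.Injective φ := by
        intro u v huv
        have h' : π a * u * (π a)⁻¹ = π a * v * (π a)⁻¹ := congrArg Subtype.val huv
        exact Subtype.ext (mul_left_cancel (mul_right_cancel h'))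
      obtain ⟨s, hs⟩ := (Finite.injective_iff_surjective.1 hinj) ⟨r, hr⟩
      have hs' : π a * s * (π a)⁻¹ = r := congrArg Subtype.val hs
      rw [← hs', map_inv, inv_inv]
      have he : (π a)⁻¹ * (π a * (s : G ⧸ N) * (π a)⁻¹) * π a = s := by group
      rw [he]
      exact s.2
  let L : Subgroup G := R.comap π
  haveI hLn : L.Normal := ⟨fun r hr x => by
    rw [Subgroup.mem_comap, map_mul, map_mul, map_inv]
    exact hconj x _ hr⟩
  have hNL : N ≤ L := fun x hx => by
    rw [Subgroup.mem_comap, show π x = 1 from (QuotientGroup.eq_one_iff x).2 hx]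
    exact one_mem R
  have hcomJ : ∀ a ∈ J, Commute (QuotientGroup.mk' L t) (QuotientGroup.mk' L a) := by
    intro a ha
    rw [← commutatorElement_eq_one_iff_commute, ← map_commutatorElement]
    refine (QuotientGroup.eq_one_iff _).2 ?_
    exact ⟨⟨a, ha⟩, rfl⟩
  have hG'L : commutator G ≤ L := by
    let τ := QuotientGroup.mk' L
    have htop : (⊤ : Subgroup G).map τ ≤ Subgroup.center (G ⧸ L) := by
      rw [← hgenJ, Subgroup.map_sup, sup_le_iff, MonoidHom.map_zpowers, Subgroup.zpowers_le]
      have key : ∀ (c : G) , (∀ a ∈ J, Commute (τ c) (τ a)) → Commute (τ c) (τ t) →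
          τ c ∈ Subgroup.center (G ⧸ L) := by
        intro c h1 h2
        rw [Subgroup.mem_center_iff]
        intro g
        have hall : (⊤ : Subgroup G).map τ ≤ Subgroup.centralizer {τ c} := by
          rw [← hgenJ, Subgroup.map_sup, sup_le_iff, MonoidHom.map_zpowers, Subgroup.zpowers_le]
          refine ⟨?_, Subgroup.mem_centralizer_singleton_iff.2 h2.eq.symm⟩
          rintro _ ⟨a, ha, rfl⟩
          exact Subgroup.mem_centralizer_singleton_iff.2 (h1 a ha).eq.symm
        rw [Subgroup.map_top_of_surjective τ (QuotientGroup.mk'_surjective L)] at hall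
        exact Subgroup.mem_centralizer_singleton_iff.1 (hall trivial)
      constructor
      · rintro _ ⟨c, hc, rfl⟩
        refine key c (fun a ha => ?_) (hcomJ c hc).symm
        rw [← commutatorElement_eq_one_iff_commute, ← map_commutatorElement]
        exact (QuotientGroup.eq_one_iff _).2 (hNL (Subgroup.commutator_mem_commutator hc ha))
      · exact key t hcomJ (Commute.refl _)
    rw [commutator_def, Subgroup.commutator_le]
    intro x _ y _
    rw [← QuotientGroup.eq_one_iff, ← QuotientGroup.mk'_apply, map_commutatorElement,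
      commutatorElement_eq_one_iff_commute]
    exact Subgroup.mem_center_iff.1 (htop ⟨y, trivial, rfl⟩) _
  have hcardL : Nat.card L = Nat.card N * Nat.card R := by
    have h1 : L.index = R.index :=
      Subgroup.index_comap_of_surjective R (QuotientGroup.mk'_surjective N)
    have h2 := L.card_mul_index
    have h3 := R.card_mul_index
    have h4 := N.card_mul_index
    rw [Subgroup.index_eq_card N, ← h3] at h4
    rw [h1, ← h4, ← mul_assoc] at h2
    exact Nat.eq_of_mul_eq_mul_right (Nat.pos_of_ne_zero Subgroup.index_ne_zero_of_finite) h2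
  refine ⟨δ.ker, ?_, ?_, ?_⟩
  · calc Nat.card (commutator G) ≤ Nat.card L := Subgroup.card_le_of_le hG'L
      _ = _ := by rw [hcardL, Subgroup.index_ker, show Nat.card N = _ from card_derivedOf J]
  · have hle : (Subgroup.centralizer ({t} : Set G)).subgroupOf J ≤ δ.ker := by
      intro h hh
      show π ⁅t, (h : G)⁆ = 1
      rw [show ⁅t, (h : G)⁆ = 1 from commutatorElement_eq_one_iff_commute.2
        (Subgroup.mem_centralizer_singleton_iff.1 hh).symm, map_one]
    exact le_trans (Nat.le_of_dvd (Nat.pos_of_ne_zero Subgroup.index_ne_zero_of_finite)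
        (Subgroup.index_dvd_of_le hle))
      (relIndex_le_index_of_finite _ J)
  · intro w hw
    by_contra hle
    obtain ⟨g, hgC, hgJ⟩ := SetLike.not_le_iff_exists.1 hle
    refine hw ?_
    have hsup : J ⊔ Subgroup.zpowers g = ⊤ :=
      hJ.2 _ (lt_of_le_of_ne le_sup_left fun he =>
        hgJ (he ▸ le_sup_right (a := J) (Subgroup.mem_zpowers g)))
    have hall : (⊤ : Subgroup G).map π ≤ Subgroup.centralizer {π w} := by
      rw [← hsup, Subgroup.map_sup, sup_le_iff, MonoidHom.map_zpowers, Subgroup.zpowers_le]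
      constructor
      · rintro _ ⟨a, ha, rfl⟩
        exact Subgroup.mem_centralizer_singleton_iff.2 (hcomm a ha w w.2).eq
      · rw [Subgroup.mem_centralizer_singleton_iff, ← map_mul, ← map_mul,
          Subgroup.mem_centralizer_singleton_iff.1 hgC]
    show π ⁅t, (w : G)⁆ = 1
    rw [map_commutatorElement, commutatorElement_eq_one_iff_commute]
    exact Subgroup.mem_centralizer_singleton_iff.1 (hall ⟨t, trivial, rfl⟩)

/-- In a non-trivial `p`-group a proper subgroup is contained in a maximal one of index `p`. -/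
theorem exists_coatom_ge {M : Subgroup G} (hM : M ≠ ⊤) : ∃ D : Subgroup G, IsCoatom D ∧ M ≤ D :=
  ((eq_top_or_exists_le_coatom M).resolve_left hM).imp fun _ h => ⟨h.1, h.2⟩

/-- Given two different maximal subgroups there is a third one through their intersection,
in which every element outside the intersection lies outside both. -/
theorem exists_third (hG : IsPGroup p G) {D K : Subgroup G} (hD : IsCoatom D) (hK : IsCoatom K)
    (hDK : D ≠ K) :
    ∃ J : Subgroup G, IsCoatom J ∧ J ≠ D ∧ J ≠ K ∧ D ⊓ K ≤ J ∧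
      ∀ w ∈ J, w ∉ D ⊓ K → w ∉ D ∧ w ∉ K := by
  obtain ⟨hDn, hDi⟩ := CfsgLib.Transfer.coatom_index_eq_prime hG hD
  obtain ⟨hKn, hKi⟩ := CfsgLib.Transfer.coatom_index_eq_prime hG hK
  obtain ⟨x, hxD, hxK⟩ := exists_not_mem_two hD.1 hK.1
  let E := D ⊓ K
  haveI := hDn
  haveI := hKn
  have hp := (Fact.out : p.Prime)
  have hElt : E < K := lt_of_le_of_ne inf_le_right fun h =>
    hDK ((hK.le_iff_eq hD.1).1 (h ▸ inf_le_left))
  have hEi : E.index = p * p := by
    have h1 : E.relIndex K * K.index = E.index := Subgroup.relIndex_mul_index inf_le_right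
    have h2 : E.relIndex K ∣ D.index := by
      rw [show E.relIndex K = D.relIndex K from Subgroup.inf_relIndex_right D K]
      exact Subgroup.relIndex_dvd_index_of_normal D K
    rw [hDi, Nat.dvd_prime hp] at h2
    rcases h2 with h2 | h2
    · exact absurd (Subgroup.relIndex_eq_one.1 h2) hElt.not_ge
    · rw [← h1, h2, hKi]
  let τ := QuotientGroup.mk' E
  have hxp : x ^ p ∈ E := ⟨hDi ▸ Subgroup.pow_index_mem D x, hKi ▸ Subgroup.pow_index_mem K x⟩
  have hord : orderOf (τ x) = p := by
    refine orderOf_eq_prime ?_ fun h => hxD ((QuotientGroup.eq_one_iff x).1 h).1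
    rw [← map_pow]
    exact (QuotientGroup.eq_one_iff _).2 hxp
  let J : Subgroup G := (Subgroup.zpowers (τ x)).comap τ
  have hEJ : E ≤ J := fun e he => by
    rw [Subgroup.mem_comap, show τ e = 1 from (QuotientGroup.eq_one_iff e).2 he]
    exact one_mem _
  have hxJ : x ∈ J := Subgroup.mem_zpowers (τ x)
  have hJi : J.index = p := by
    rw [Subgroup.index_comap_of_surjective _ (QuotientGroup.mk'_surjective E)]
    have := (Subgroup.zpowers (τ x)).card_mul_index
    rw [Nat.card_zpowers, hord, ← Subgroup.index_eq_card, hEi] at this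
    exact Nat.eq_of_mul_eq_mul_left hp.pos this
  have hJ : IsCoatom J := by
    refine ⟨fun h => hp.ne_one (by rw [← hJi, h, Subgroup.index_top]), fun B hB => ?_⟩
    have h1 := Subgroup.relIndex_mul_index hB.le
    rw [hJi] at h1
    rcases (Nat.dvd_prime hp).1 (h1 ▸ dvd_mul_left B.index _) with h | h
    · exact Subgroup.index_eq_one.1 h
    · exfalso
      refine hB.not_ge (Subgroup.relIndex_eq_one.1 ?_)
      rw [h] at h1
      exact Nat.eq_of_mul_eq_mul_right hp.pos (h1.trans (one_mul p).symm)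
  have hJD : J ≠ D := fun h => hxD (h ▸ hxJ)
  have hJK : J ≠ K := fun h => hxK (h ▸ hxJ)
  have hpow : ∀ B : Subgroup G, B.Normal → E ≤ B → x ∉ B → ∀ w ∈ J, w ∈ B → w ∈ E := by
    intro B hBn hEB hxB w hw hwB
    haveI := hBn
    obtain ⟨n, hn⟩ := Subgroup.mem_zpowers_iff.1 (Subgroup.mem_comap.1 hw)
    have hwe : (x ^ n)⁻¹ * w ∈ E := by
      rw [← QuotientGroup.eq]
      exact hn
    have hxn : x ^ n ∈ B := by
      have h1 : (x ^ n)⁻¹ * w ∈ B := hEB hwe
      simpa using B.inv_mem (B.mul_mem h1 (B.inv_mem hwB))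
    by_cases hd : (p : ℤ) ∣ n
    · obtain ⟨m, rfl⟩ := hd
      have : x ^ ((p : ℤ) * m) ∈ E := by
        rw [zpow_mul, zpow_natCast]
        exact E.zpow_mem hxp m
      simpa using E.mul_mem this hwe
    · exfalso
      apply hxB
      obtain ⟨u, v, huv⟩ : IsCoprime (p : ℤ) n :=
        (Nat.prime_iff_prime_int.1 hp).coprime_iff_not_dvd.2 hd
      have hxpB : x ^ (p : ℤ) ∈ B := by
        rw [zpow_natCast]
        exact hEB hxp
      rw [← zpow_one x, ← huv, zpow_add, mul_comm u, mul_comm v, zpow_mul, zpow_mul]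
      exact B.mul_mem (B.zpow_mem hxpB u) (B.zpow_mem hxn v)
  exact ⟨J, hJ, hJD, hJK, hEJ, fun w hw hwE =>
    ⟨fun h => hwE (hpow D hDn inf_le_left hxD w hw h),
     fun h => hwE (hpow K hKn inf_le_right hxK w hw h)⟩⟩

end Step

/-- The bound `b * (b + 1) / 2`. -/
def bound : ℕ → ℕ
  | 0 => 0
  | b + 1 => bound b + (b + 1)

theorem bound_eq (b : ℕ) : bound b = b * (b + 1) / 2 := by
  have : 2 * bound b = b * (b + 1) := by
    induction b with
    | zero => rfl
    | succ n ih => rw [bound, mul_add, ih]; ring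
  omega

theorem card_commutator_eq_one_of_zero {H : Type*} [Group H] [Finite H] {p : ℕ} {M : Subgroup H}
    (hM : M ≠ ⊤) (h : ∀ x : H, x ∉ M → BreadthLE p 0 x) : Nat.card (commutator H) = 1 := by
  have hz : ∀ x : H, x ∈ Subgroup.center H := by
    have hout : ∀ x : H, x ∉ M → x ∈ Subgroup.center H := by
      intro x hx
      have h1 := h x hx
      have h2 : (Subgroup.centralizer ({x} : Set H)).index = 1 :=
        le_antisymm (by simpa [BreadthLE] using h1)
          (Nat.one_le_iff_ne_zero.2 Subgroup.index_ne_zero_of_finite)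
      rw [Subgroup.index_eq_one] at h2
      rw [Subgroup.mem_center_iff]
      intro g
      exact Subgroup.mem_centralizer_singleton_iff.1 (h2 ▸ Subgroup.mem_top g)
    obtain ⟨a, -, ha⟩ := SetLike.exists_of_lt (lt_top_iff_ne_top.2 hM)
    intro x
    by_cases hx : x ∈ M
    · have hxa : x * a ∉ M := fun hc => ha ((M.mul_mem_cancel_left hx).1 hc)
      simpa using (Subgroup.center H).mul_mem (hout _ hxa) ((Subgroup.center H).inv_mem (hout _ ha))
    · exact hout x hx
  rw [Subgroup.card_eq_one, commutator_def, Subgroup.commutator_eq_bot_iff_le_centralizer]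
  intro x _
  rw [Subgroup.mem_centralizer_iff]
  intro g _
  exact Subgroup.mem_center_iff.1 (hz x) g

universe u

/-- The two statements proved together by induction on the order of the group. -/
theorem main {p : ℕ} [Fact p.Prime] : ∀ (n : ℕ) (G : Type u) [Group G] [Finite G],
    Nat.card G = n → IsPGroup p G →
    (∀ (b : ℕ) (M : Subgroup G), M ≠ ⊤ → (∀ x : G, x ∉ M → BreadthLE p b x) →
      Nat.card (commutator G) ≤ p ^ bound b) ∧
    (∀ (b q : ℕ) (D K : Subgroup G), D ≠ ⊤ → p ^ q ≤ K.index → 1 ≤ q → q ≤ b →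
      (∀ x : G, x ∉ D → BreadthLE p b x) → (∀ x : G, x ∉ D → x ∉ K → BreadthLE p (b - 1) x) →
      Nat.card (commutator G) * p ^ q ≤ p ^ bound b) := by
  intro n
  induction n using Nat.strong_induction_on with
  | _ n ih =>
  intro G _ _ hn hG
  have hp := (Fact.out : p.Prime)
  have hlt : ∀ J : Subgroup G, IsCoatom J → Nat.card J < n := fun J hJ => by
    rw [← hn, ← Subgroup.card_top (G := G)]
    refine lt_of_le_of_ne (Subgroup.card_le_of_le le_top) fun h => hJ.1 ?_
    rw [Subgroup.card_top] at h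
    exact Subgroup.eq_top_of_card_eq J h
  have hne_top : ∀ {J E : Subgroup G}, ¬ J ≤ E → E.subgroupOf J ≠ ⊤ := fun h he =>
    h (Subgroup.subgroupOf_eq_top.1 he)
  have part1 : ∀ (b : ℕ) (M : Subgroup G), M ≠ ⊤ → (∀ x : G, x ∉ M → BreadthLE p b x) →
      Nat.card (commutator G) ≤ p ^ bound b := by
    intro b M hM hb
    rcases Nat.eq_zero_or_pos b with rfl | hbpos
    · rw [card_commutator_eq_one_of_zero hM hb]
      exact Nat.one_le_pow _ _ hp.pos
    obtain ⟨D, hD, hMD⟩ := exists_coatom_ge hM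
    by_cases hJ : ∃ J : Subgroup G, IsCoatom J ∧ J ≠ D
    swap
    · push Not at hJ
      obtain ⟨t, -, ht⟩ := SetLike.exists_of_lt (lt_top_iff_ne_top.2 hD.1)
      have hcyc : Subgroup.zpowers t = ⊤ := by
        by_contra h
        obtain ⟨J, hJc, hle⟩ := exists_coatom_ge h
        exact ht (hJ J hJc ▸ hle (Subgroup.mem_zpowers t))
      have : commutator G = ⊥ := by
        rw [commutator_def, Subgroup.commutator_eq_bot_iff_le_centralizer, ← hcyc]
        intro x hx
        rw [Subgroup.mem_centralizer_iff]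
        intro y hy
        obtain ⟨i, rfl⟩ := Subgroup.mem_zpowers_iff.1 hx
        obtain ⟨j, rfl⟩ := Subgroup.mem_zpowers_iff.1 hy
        exact (Commute.zpow_zpow_self t j i).eq
      rw [this, Subgroup.card_bot]
      exact Nat.one_le_pow _ _ hp.pos
    obtain ⟨J, hJ, hJD⟩ := hJ
    obtain ⟨t, htD, htJ⟩ := exists_not_mem_two hD.1 hJ.1
    obtain ⟨K, hK1, hK2, hK3⟩ := step hG J hJ t htJ
    obtain ⟨-, hJi⟩ := CfsgLib.Transfer.coatom_index_eq_prime hG hJ
    obtain ⟨IH1, IH2⟩ := ih _ (hlt J hJ) J rfl (hG.to_subgroup J)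
    have hDJ : D.subgroupOf J ≠ ⊤ := hne_top fun h => hJD ((hJ.le_iff_eq hD.1).1 h).symm
    have hout : ∀ w : J, w ∉ D.subgroupOf J → BreadthLE p b w := fun w hw =>
      breadthLE_subgroup J w (hb _ fun h => hw (hMD h))
    obtain ⟨q, hq⟩ : ∃ q, K.index = p ^ q := (hG.to_subgroup J).index K
    have hqb : q ≤ b := (Nat.pow_le_pow_iff_right hp.one_lt).1
      (hq ▸ hK2.trans (hb t fun h => htD (hMD h)))
    rw [hq] at hK1
    rcases Nat.eq_zero_or_pos q with rfl | hqpos
    · rw [pow_zero, mul_one] at hK1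
      exact hK1.trans (IH1 b _ hDJ hout)
    · exact hK1.trans (IH2 b q _ K hDJ hq.ge hqpos hqb hout fun w hw hwK =>
        breadthLE_pred hp.pos hbpos J hJi w (hK3 w hwK) (hb _ fun h => hw (hMD h)))
  refine ⟨part1, ?_⟩
  intro b q D K hD hK hq1 hqb hb hb1
  obtain ⟨c, rfl⟩ : ∃ c, b = c + 1 := ⟨b - 1, by omega⟩
  simp only [Nat.add_sub_cancel] at hb1
  have hKtop : K ≠ ⊤ := by
    intro h
    rw [h, Subgroup.index_top] at hK
    exact absurd hK (Nat.one_lt_pow (by omega) hp.one_lt).not_ge
  obtain ⟨D', hD', hDD'⟩ := exists_coatom_ge hD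
  obtain ⟨K', hK', hKK'⟩ := exists_coatom_ge hKtop
  suffices hmain : Nat.card (commutator G) ≤ p ^ bound c ∨
      (q = 1 ∧ Nat.card (commutator G) * p ^ c ≤ p ^ bound c * p ^ (c + 1) ∧ 1 ≤ c) by
    rw [bound, pow_add]
    rcases hmain with h | ⟨rfl, h, hc⟩
    · exact Nat.mul_le_mul h (Nat.pow_le_pow_right hp.pos hqb)
    · calc Nat.card (commutator G) * p ^ 1 ≤ Nat.card (commutator G) * p ^ c :=
            Nat.mul_le_mul_left _ (Nat.pow_le_pow_right hp.pos hc)
        _ ≤ _ := h
  by_cases hKD : D' = K'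
  · exact Or.inl (part1 c D' hD'.1 fun x hx =>
      hb1 x (fun h => hx (hDD' h)) (fun h => hx (hKD.symm ▸ hKK' h)))
  obtain ⟨J, hJ, hJD, hJK, hEJ, hJout⟩ := exists_third hG hD' hK' hKD
  obtain ⟨hJn, hJi⟩ := CfsgLib.Transfer.coatom_index_eq_prime hG hJ
  have hEJtop : (D' ⊓ K').subgroupOf J ≠ ⊤ := hne_top fun h =>
    hJD ((hJ.le_iff_eq hD'.1).1 (h.trans inf_le_left)).symm
  have hout : ∀ w : J, w ∉ (D' ⊓ K').subgroupOf J → BreadthLE p c (w : G) := fun w hw =>
    have h := hJout w w.2 hw
    hb1 _ (fun h' => h.1 (hDD' h')) (fun h' => h.2 (hKK' h'))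
  obtain ⟨IH1, IH2⟩ := ih _ (hlt J hJ) J rfl (hG.to_subgroup J)
  -- choose `t ∈ K' \ D'`, outside `K` when `q ≥ 2`
  obtain ⟨t, htD, htK', htb⟩ : ∃ t : G, t ∉ D' ∧ t ∈ K' ∧
      BreadthLE p (if q = 1 then c + 1 else c) t := by
    by_cases hq : q = 1
    · obtain ⟨t, htK, ht⟩ := SetLike.not_le_iff_exists.1
        (fun h : K' ≤ D' => hKD ((hK'.le_iff_eq hD'.1).1 h))
      exact ⟨t, ht, htK, by rw [if_pos hq]; exact hb t fun h => ht (hDD' h)⟩
    · have hKlt : ¬ K' ≤ K := fun h => by
        have hKe : K = K' := le_antisymm hKK' h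
        rw [hKe, (CfsgLib.Transfer.coatom_index_eq_prime hG hK').2] at hK
        have : p ^ q ≤ p ^ 1 := by simpa using hK
        rw [Nat.pow_le_pow_iff_right hp.one_lt] at this
        omega
      obtain ⟨⟨t, htK⟩, ht1, ht2⟩ := exists_not_mem_two (A := D'.subgroupOf K') (B := K.subgroupOf K')
        (hne_top fun h => hKD ((hK'.le_iff_eq hD'.1).1 h)) (hne_top hKlt)
      exact ⟨t, ht1, htK, by rw [if_neg hq]; exact hb1 t (fun h => ht1 (hDD' h)) ht2⟩
  have htJ : t ∉ J := fun h => (hJout t h fun h' => htD h'.1).2 htK'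
  obtain ⟨L, hL1, hL2, hL3⟩ := step hG J hJ t htJ
  obtain ⟨r, hr⟩ : ∃ r, L.index = p ^ r := (hG.to_subgroup J).index L
  rw [hr] at hL1
  have hrb : r ≤ if q = 1 then c + 1 else c :=
    (Nat.pow_le_pow_iff_right hp.one_lt).1 (hr ▸ hL2.trans htb)
  rcases Nat.eq_zero_or_pos r with rfl | hrpos
  · rw [pow_zero, mul_one] at hL1
    exact Or.inl (hL1.trans (IH1 c _ hEJtop fun w hw => breadthLE_subgroup J w (hout w hw)))
  rcases Nat.eq_zero_or_pos c with rfl | hc
  · -- all elements of `J` outside the intersection are central in `G`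
    exfalso
    have hLtop : L ≠ ⊤ := by
      intro h
      rw [h, Subgroup.index_top] at hr
      exact absurd hr.symm (Nat.one_lt_pow (by omega) hp.one_lt).ne'
    obtain ⟨w, hw1, hw2⟩ := exists_not_mem_two hEJtop hLtop
    have h1 := hout w hw1
    have h2 : (Subgroup.centralizer ({(w : G)} : Set G)).index = 1 :=
      le_antisymm (by simpa [BreadthLE] using h1)
        (Nat.one_le_iff_ne_zero.2 Subgroup.index_ne_zero_of_finite)
    rw [Subgroup.index_eq_one] at h2
    exact hJ.1 (top_le_iff.1 (h2 ▸ hL3 w hw2))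
  have hdrop : ∀ w : J, w ∉ (D' ⊓ K').subgroupOf J → w ∉ L → BreadthLE p (c - 1) w :=
    fun w hw hwL => breadthLE_pred hp.pos hc J hJi w (hL3 w hwL) (hout w hw)
  have hout' := fun w hw => breadthLE_subgroup (p := p) J w (hout w hw)
  by_cases hrc : r ≤ c
  · exact Or.inl (hL1.trans (IH2 c r _ L hEJtop hr.ge hrpos hrc hout' hdrop))
  · have hq : q = 1 := by
      by_contra hq
      rw [if_neg hq] at hrb
      exact hrc hrb
    rw [if_pos hq] at hrb
    have hrc1 : r = c + 1 := by omega
    refine Or.inr ⟨hq, ?_, hc⟩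
    have h := IH2 c c _ L hEJtop (hr.ge.trans' (Nat.pow_le_pow_right hp.pos (by omega))) hc le_rfl
      hout' hdrop
    calc Nat.card (commutator G) * p ^ c ≤ Nat.card (commutator J) * p ^ r * p ^ c :=
          Nat.mul_le_mul_right _ hL1
      _ = Nat.card (commutator J) * p ^ c * p ^ (c + 1) := by rw [hrc1]; ring
      _ ≤ _ := Nat.mul_le_mul_right _ h

/-- Vaughan-Lee: a finite `p`-group of breadth `b` has derived subgroup of order at most
`p ^ (b * (b + 1) / 2)`. -/
theorem vaughanLee {G : Type*} [Group G] [Finite G] {p : ℕ} [Fact p.Prime] (hG : IsPGroup p G)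
    (b : ℕ) (hb : ∀ x : G, (Subgroup.centralizer ({x} : Set G)).index ≤ p ^ b) :
    Nat.card (commutator G) ≤ p ^ (b * (b + 1) / 2) := by
  rw [← bound_eq]
  rcases subsingleton_or_nontrivial G with h | h
  · exact le_trans (le_of_eq (Nat.card_of_subsingleton 1)) (Nat.one_le_pow _ _ (Fact.out : p.Prime).pos)
  · exact (main _ G rfl hG).1 b ⊥ bot_ne_top fun x _ => hb x

end CfsgLib.Solvable.Breadth
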