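import Cfsg.Prelude.Def_SolvableStructure
import Cfsg.Agent.Lib.Solvable.Hall
import Cfsg.Agent.Lib.Solvable.MinNormal
import Cfsg.Agent.Lib.Transfer.Basic
import Cfsg.Agent.Lib.OddLocal.FittingHall

/-!
# Carter subgroups of finite solvable groups
-/

namespace CfsgLib.Solvable

open Subgroup
open scoped Pointwise

universe u

variable {G : Type u} [Group G]

theorem isCarterSubgroup_conj {C : Subgroup G} (hC : Cfsg.IsCarterSubgroup C) (g : G) :
    Cfsg.IsCarterSubgroup (MulAut.conj g • C) := by
  refine ⟨?_, ?_⟩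
  · have := hC.1
    exact (Group.isNilpotent_congr (C.equivMapOfInjective (MulAut.conj g).toMonoidHom
      (MulEquiv.injective _))).1 ‹_›
  · conv_rhs => rw [← hC.2]
    rw [conj_smul_eq_map, conj_smul_eq_map]
    exact (map_equiv_normalizer_eq C (MulAut.conj g)).symm

theorem isCarterSubgroup_subgroupOf {C U : Subgroup G} (hC : Cfsg.IsCarterSubgroup C)
    (hCU : C ≤ U) : Cfsg.IsCarterSubgroup (C.subgroupOf U) := by
  refine ⟨?_, le_antisymm (fun u hu => ?_) le_normalizer⟩
  · have := hC.1
    exact (Group.isNilpotent_congr (subgroupOfEquivOfLe hCU).symm).1 ‹_›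
  · show (u : G) ∈ C
    rw [← hC.2]
    have h := le_normalizer_map (H := C.subgroupOf U) U.subtype ⟨u, hu, rfl⟩
    rwa [map_subgroupOf_eq_of_le hCU] at h

/-- A Carter subgroup of a nilpotent group is the whole group. -/
theorem eq_top_of_isCarterSubgroup [Group.IsNilpotent G] {C : Subgroup G}
    (hC : Cfsg.IsCarterSubgroup C) : C = ⊤ :=
  normalizerCondition_iff_only_full_group_self_normalizing.1
    Group.normalizerCondition_of_isNilpotent C hC.2

theorem isNilpotent_map {H : Type*} [Group H] (f : G →* H) {C : Subgroup G}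
    (hC : Group.IsNilpotent C) : Group.IsNilpotent (C.map f) :=
  have := hC
  Group.nilpotent_of_surjective _ (MonoidHom.subgroupMap_surjective f C)

/-- A nilpotent maximal complement of an abelian minimal normal subgroup is determined up to
conjugation. -/
theorem exists_conj_eq_of_complements [Finite G] [Group.IsSolvable G] {N C D : Subgroup G}
    [N.Normal] {p : ℕ} [Fact p.Prime] (hp : IsPGroup p N) (hCN : N.IsComplement' C)
    (hDN : N.IsComplement' D) (hC : Group.IsNilpotent C) (hD : Group.IsNilpotent D)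
    (hCn : normalizer (C : Set G) = C) (hCtop : C ≠ ⊤) (hmax : ∀ X : Subgroup G, C ≤ X → X = C ∨ X = ⊤) :
    ∃ g : G, MulAut.conj g • C = D := by
  obtain ⟨i, hi⟩ := IsPGroup.iff_card.1 hp
  have hCD : Nat.card C = Nat.card D :=
    Nat.eq_of_mul_eq_mul_left (Nat.card_pos (α := N)) (hCN.card_mul_card.trans hDN.card_mul_card.symm)
  set n := (Nat.card C).factorization p with hn
  have hgen : ∀ X : Subgroup G, Group.IsNilpotent X → Nat.card X = Nat.card C →
      ∃ R : Subgroup G, R ≤ X ∧ X ≤ normalizer (R : Set G) ∧ Nat.card R = Nat.card C / p ^ n := by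
    intro X hX hcard
    have := CfsgLib.Transfer.pResidual_normal (G := X) (p := p)
    refine ⟨(Cfsg.pResidual p X).map X.subtype, map_subtype_le _, ?_, ?_⟩
    · refine (normal_subgroupOf_iff_le_normalizer (map_subtype_le _)).1 ?_
      rw [← comap_subtype, comap_map_eq_self_of_injective X.subtype_injective]
      infer_instance
    · let T : Sylow p X := default
      have := hX
      have hTn : (T : Subgroup X).Normal :=
        T.normal_of_normalizerCondition Group.normalizerCondition_of_isNilpotent
      obtain ⟨R, hR⟩ := exists_right_complement'_of_coprime (N := (T : Subgroup X))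
        T.card_coprime_index
      have hRcop : (Nat.card R).Coprime p := by
        rw [← hR.symm.index_eq_card]
        exact (((Fact.out : p.Prime).coprime_iff_not_dvd).2 T.not_dvd_index).symm
      have hRle : Cfsg.pResidual p X ≤ R := by
        have hRn : R.Normal := by
          refine normalizer_eq_top_iff.1 (top_le_iff.1 (hR.sup_eq_top ▸ sup_le ?_ le_normalizer))
          intro t ht
          refine centralizer_le_normalizer _ (mem_centralizer_iff.2 fun r hr => ?_)
          obtain ⟨j, hj⟩ := (IsPGroup.iff_orderOf.1 T.2) ⟨t, ht⟩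
          rw [Subgroup.orderOf_mk] at hj
          exact (OddLocal.commute_of_coprime_of_isNilpotent hX (x := r) (y := t)
            (hj ▸ (hRcop.coprime_dvd_left (Subgroup.orderOf_dvd_natCard R hr)).pow_right j)).eq
        refine CfsgLib.Transfer.pResidual_le_of_isPGroup_quotient (IsPGroup.of_card (n := n) ?_)
        rw [← index_eq_card, hR.index_eq_card, T.card_eq_multiplicity, hcard]
      rw [le_antisymm hRle (CfsgLib.Transfer.le_pResidual_of_coprime hRcop),
        card_map_of_injective X.subtype_injective]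
      refine (Nat.div_eq_of_eq_mul_right (pow_pos (Fact.out : p.Prime).pos n) ?_).symm
      rw [← hcard, ← hR.card_mul_card, T.card_eq_multiplicity, hcard]
  obtain ⟨H, hHC, hCH, hH⟩ := hgen C hC rfl
  obtain ⟨H', hH'D, hDH', hH'⟩ := hgen D hD hCD.symm
  set m := Nat.card C / p ^ n with hm
  have hdvd : p ^ n ∣ Nat.card C := Nat.ordProj_dvd _ _
  have hG : Nat.card G = m * p ^ (i + n) := by
    rw [← hCN.card_mul_card, hi, pow_add, ← Nat.div_mul_cancel hdvd]; ring
  have hmp : m.Coprime (p ^ (i + n)) :=
    ((Nat.coprime_ordCompl (Fact.out : p.Prime) Nat.card_pos.ne').symm).pow_right _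
  obtain ⟨g, hg⟩ := hall_conj hG hmp hH' hH
  refine ⟨g⁻¹, conj_inv_smul_of_eq ?_⟩
  -- both normalize `H`
  have hnormD : MulAut.conj g • D ≤ normalizer (H : Set G) := by
    rw [← hg, conj_smul_eq_map, conj_smul_eq_map]
    exact (map_mono hDH').trans (map_equiv_normalizer_eq H' (MulAut.conj g)).le
  rcases hmax _ hCH with e | e
  · exact eq_of_le_of_card_ge (e ▸ hnormD) (by rw [card_conj_smul, hCD])
  · exfalso
    have hHn : H.Normal := normalizer_eq_top_iff.1 e
    have hq : IsPGroup p (G ⧸ H) := by
      refine IsPGroup.of_card (n := i + n) ?_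
      rw [← index_eq_card]
      exact Nat.eq_of_mul_eq_mul_left (Nat.card_pos (α := H))
        (by rw [H.card_mul_index, hG, hH])
    have := hq.isNilpotent
    set π := QuotientGroup.mk' H with hπ
    have hcm : (C.map π).comap π = C := by
      rw [comap_map_eq, hπ, QuotientGroup.ker_mk', sup_eq_left.2 hHC]
    have hcarter : Cfsg.IsCarterSubgroup (C.map π) := by
      refine ⟨isNilpotent_map π hC, comap_injective (QuotientGroup.mk'_surjective H) ?_⟩
      rw [comap_normalizer_eq_of_surjective _ (QuotientGroup.mk'_surjective H), hcm, hCn]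
    refine hCtop ?_
    rw [← hcm, eq_top_of_isCarterSubgroup hcarter, comap_top]

/-- A complement, maximal among subgroups, to an abelian minimal normal subgroup. -/
theorem complement_of_supplement [Finite G] {N C : Subgroup G} [N.Normal] [IsMulCommutative N]
    (hmin : ∀ K : Subgroup G, K.Normal → K ≤ N → K = ⊥ ∨ K = N) (hsup : C ⊔ N = ⊤) (hC : C ≠ ⊤) :
    N.IsComplement' C ∧ ∀ X : Subgroup G, C ≤ X → X = C ∨ X = ⊤ := by
  have hinf : ∀ X : Subgroup G, C ≤ X → X ≠ ⊤ → X ⊓ N = ⊥ := by
    intro X hX hXt
    have hn : (X ⊓ N).Normal := by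
      refine normalizer_eq_top_iff.1 (top_le_iff.1 (hsup ▸ sup_le (fun c hc => ?_) ?_))
      · refine conj_smul_eq_self_iff.1 ?_
        rw [Subgroup.smul_inf, conj_smul_eq_self_of_mem (hX hc),
          Subgroup.Normal.conj_smul_eq_self c N]
      · intro x hx
        refine centralizer_le_normalizer _ (mem_centralizer_iff.2 fun y hy => ?_)
        exact congrArg Subtype.val (mul_comm' (⟨y, hy.2⟩ : N) ⟨x, hx⟩)
    refine (hmin _ hn inf_le_right).resolve_right fun e => hXt ?_
    exact top_le_iff.1 (hsup ▸ sup_le hX (inf_eq_right.1 e))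
  have hmul : ∀ g : G, ∃ n ∈ N, ∃ c ∈ C, g = n * c := fun g => by
    have hg : g ∈ ((N ⊔ C : Subgroup G) : Set G) := by rw [sup_comm, hsup]; exact mem_top g
    rw [Subgroup.normal_mul] at hg
    obtain ⟨n, hn, c, hc, e⟩ := hg
    exact ⟨n, hn, c, hc, e.symm⟩
  refine ⟨isComplement'_of_disjoint_and_mul_eq_univ ?_ (Set.eq_univ_iff_forall.2 fun g => ?_),
    fun X hX => ?_⟩
  · rw [disjoint_iff, inf_comm]; exact hinf C le_rfl hC
  · obtain ⟨n, hn, c, hc, e⟩ := hmul g
    exact ⟨n, hn, c, hc, e.symm⟩
  · by_cases hXt : X = ⊤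
    · exact Or.inr hXt
    refine Or.inl (le_antisymm (fun x hx => ?_) hX)
    obtain ⟨n, hn, c, hc, rfl⟩ := hmul x
    have h1 : n ∈ X ⊓ N := ⟨(X.mul_mem_cancel_right (hX hc)).1 hx, hn⟩
    rw [hinf X hX hXt, mem_bot] at h1
    rw [h1, one_mul]; exact hc

theorem isCarterSubgroup_map_of_conj [Finite G] {N C : Subgroup G} [N.Normal]
    (hC : Cfsg.IsCarterSubgroup C)
    (hconj : C ⊔ N ≠ ⊤ → ∀ D E : Subgroup ↥(C ⊔ N), Cfsg.IsCarterSubgroup D →
      Cfsg.IsCarterSubgroup E → ∃ g : ↥(C ⊔ N), MulAut.conj g • D = E) :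
    Cfsg.IsCarterSubgroup (C.map (QuotientGroup.mk' N)) := by
  set π := QuotientGroup.mk' N with hπ
  refine ⟨isNilpotent_map π hC.1, comap_injective (QuotientGroup.mk'_surjective N) ?_⟩
  rw [comap_normalizer_eq_of_surjective _ (QuotientGroup.mk'_surjective N), comap_map_eq,
    QuotientGroup.ker_mk']
  set U := C ⊔ N with hU
  refine le_antisymm (fun g hg => ?_) le_normalizer
  by_cases hUt : U = ⊤
  · rw [hUt]; exact mem_top g
  have hgC : MulAut.conj g • C ≤ U :=
    (conj_smul_mono g le_sup_left).trans (conj_smul_eq_self_iff.2 hg).le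
  obtain ⟨u, hu⟩ := hconj hUt (C.subgroupOf U) ((MulAut.conj g • C).subgroupOf U)
    (isCarterSubgroup_subgroupOf hC le_sup_left)
    (isCarterSubgroup_subgroupOf (isCarterSubgroup_conj hC g) hgC)
  have h1 := congrArg (Subgroup.map U.subtype) hu
  rw [conj_smul_subtype, map_subgroupOf_eq_of_le (le_sup_left : C ≤ U),
    map_subgroupOf_eq_of_le hgC] at h1
  have h2 : MulAut.conj ((u : G)⁻¹ * g) • C = C := by
    rw [← conj_smul_conj_smul, ← h1, conj_smul_conj_smul, inv_mul_cancel, conj_one_smul]
  rw [conj_smul_eq_self_iff, hC.2] at h2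
  have h3 := mul_mem u.2 (mem_sup_left (T := N) h2)
  rwa [mul_inv_cancel_left] at h3

theorem carter_conj_aux : ∀ (k : ℕ) {G : Type u} [Group G] [Finite G] [Group.IsSolvable G],
    Nat.card G ≤ k → ∀ C D : Subgroup G, Cfsg.IsCarterSubgroup C → Cfsg.IsCarterSubgroup D →
      ∃ g : G, MulAut.conj g • C = D := by
  intro k
  induction k with
  | zero => intro G _ _ _ h; exact absurd h (Nat.card_pos (α := G)).not_ge
  | succ k ih =>
    intro G _ _ _ hk C D hC hD
    by_cases hnil : Group.IsNilpotent G
    · exact ⟨1, by rw [conj_one_smul, eq_top_of_isCarterSubgroup hC, eq_top_of_isCarterSubgroup hD]⟩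
    have : Nontrivial G := by
      by_contra h
      have := not_nontrivial_iff_subsingleton.1 h
      exact hnil inferInstance
    obtain ⟨N, hN, hNb, hmin⟩ := exists_minimal_normal (G := G)
    obtain ⟨p, hp, hNp, -, hNab⟩ := exists_isPGroup_of_minimal_normal hNb hmin
    have := Fact.mk hp
    set π := QuotientGroup.mk' N with hπ
    have hrec : ∀ U : Subgroup G, U ≠ ⊤ → ∀ D E : Subgroup U, Cfsg.IsCarterSubgroup D →
        Cfsg.IsCarterSubgroup E → ∃ g, MulAut.conj g • D = E := fun U hU =>
      ih (by have := card_subgroup_lt hU; omega)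
    obtain ⟨x, hx⟩ := ih (G := G ⧸ N) (by have := card_quotient_lt hNb; omega) _ _
      (isCarterSubgroup_map_of_conj hC (hrec _)) (isCarterSubgroup_map_of_conj hD (hrec _))
    obtain ⟨x, rfl⟩ := QuotientGroup.mk'_surjective N x
    rw [← map_conj_smul] at hx
    set C' := MulAut.conj x • C with hC'def
    have hC' : Cfsg.IsCarterSubgroup C' := isCarterSubgroup_conj hC x
    suffices h : ∃ g : G, MulAut.conj g • C' = D by
      obtain ⟨g, hg⟩ := h
      exact ⟨g * x, by rw [← conj_smul_conj_smul]; exact hg⟩
    have hsup : C' ⊔ N = D ⊔ N := by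
      have := congrArg (Subgroup.comap π) hx
      rwa [hπ, comap_map_eq, comap_map_eq, QuotientGroup.ker_mk'] at this
    by_cases hUt : D ⊔ N = ⊤
    · have hne : ∀ E : Subgroup G, Cfsg.IsCarterSubgroup E → E ≠ ⊤ := fun E hE e => hnil <| by
        subst e
        exact (Group.isNilpotent_congr topEquiv).1 hE.1
      obtain ⟨hc, hmax⟩ := complement_of_supplement hmin (hsup.trans hUt) (hne _ hC')
      obtain ⟨hd, -⟩ := complement_of_supplement hmin hUt (hne _ hD)
      exact exists_conj_eq_of_complements hNp hc hd hC'.1 hD.1 hC'.2 (hne _ hC') hmax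
    · set U := D ⊔ N with hU
      have hC'U : C' ≤ U := le_sup_left.trans hsup.le
      obtain ⟨u, hu⟩ := hrec U hUt (C'.subgroupOf U) (D.subgroupOf U)
        (isCarterSubgroup_subgroupOf hC' hC'U) (isCarterSubgroup_subgroupOf hD le_sup_left)
      refine ⟨(u : G), ?_⟩
      have h1 := congrArg (Subgroup.map U.subtype) hu
      rwa [conj_smul_subtype, map_subgroupOf_eq_of_le hC'U,
        map_subgroupOf_eq_of_le (le_sup_left : D ≤ U)] at h1

/-- Carter subgroups are conjugate. -/
theorem carter_conj [Finite G] [Group.IsSolvable G] {C D : Subgroup G}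
    (hC : Cfsg.IsCarterSubgroup C) (hD : Cfsg.IsCarterSubgroup D) :
    ∃ g : G, MulAut.conj g • C = D :=
  carter_conj_aux _ le_rfl C D hC hD

/-- Images of Carter subgroups are Carter subgroups. -/
theorem isCarterSubgroup_map [Finite G] [Group.IsSolvable G] (N : Subgroup G) [N.Normal]
    {C : Subgroup G} (hC : Cfsg.IsCarterSubgroup C) :
    Cfsg.IsCarterSubgroup (C.map (QuotientGroup.mk' N)) :=
  isCarterSubgroup_map_of_conj hC fun _ _ _ hD hE => carter_conj hD hE

theorem exists_isCarterSubgroup_aux : ∀ (k : ℕ) {G : Type u} [Group G] [Finite G]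
    [Group.IsSolvable G], Nat.card G ≤ k → ∃ C : Subgroup G, Cfsg.IsCarterSubgroup C := by
  intro k
  induction k with
  | zero => intro G _ _ _ h; exact absurd h (Nat.card_pos (α := G)).not_ge
  | succ k ih =>
    intro G _ _ _ hk
    by_cases hnil : Group.IsNilpotent G
    · exact ⟨⊤, (Group.isNilpotent_congr topEquiv).2 hnil,
        top_le_iff.1 le_normalizer⟩
    have : Nontrivial G := by
      by_contra h
      have := not_nontrivial_iff_subsingleton.1 h
      exact hnil inferInstance
    obtain ⟨N, hN, hNb, hmin⟩ := exists_minimal_normal (G := G)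
    obtain ⟨p, -, -, -, hNab⟩ := exists_isPGroup_of_minimal_normal hNb hmin
    set π := QuotientGroup.mk' N with hπ
    obtain ⟨C₀, hC₀⟩ := ih (G := G ⧸ N) (by have := card_quotient_lt hNb; omega)
    set U := C₀.comap π with hU
    have hUn : normalizer (U : Set G) = U := by
      rw [hU, ← comap_normalizer_eq_of_surjective _ (QuotientGroup.mk'_surjective N), hC₀.2]
    by_cases hUt : U = ⊤
    · -- then `G ⧸ N` is nilpotent
      have hC₀t : C₀ = ⊤ :=
        comap_injective (QuotientGroup.mk'_surjective N) (by rw [← hU, hUt, comap_top])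
      have hq : Group.IsNilpotent (G ⧸ N) := by
        subst hC₀t
        exact (Group.isNilpotent_congr topEquiv).1 hC₀.1
      obtain ⟨M, hM, hMn⟩ : ∃ M : Subgroup G, IsCoatom M ∧ ¬ M.Normal := by
        by_contra hall
        push Not at hall
        exact hnil ((Group.isNilpotent_of_finite_tfae.out 0 2).2 hall)
      have hNM : ¬ N ≤ M := fun hle => hMn <| by
        have hcm : (M.map π).comap π = M := by
          rw [comap_map_eq, hπ, QuotientGroup.ker_mk', sup_eq_left.2 hle]
        have hne : M.map π ≠ ⊤ := fun e => hM.1 (by rw [← hcm, e, comap_top])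
        have hlt := Group.normalizerCondition_of_isNilpotent (M.map π) (lt_top_iff_ne_top.2 hne)
        refine normalizer_eq_top_iff.1 (hM.2 _ (lt_of_le_of_ne le_normalizer fun e => hlt.ne ?_))
        refine comap_injective (QuotientGroup.mk'_surjective N) ?_
        rw [comap_normalizer_eq_of_surjective _ (QuotientGroup.mk'_surjective N), hcm, ← e]
      have hsup : M ⊔ N = ⊤ := hM.2 _ (left_lt_sup.2 hNM)
      obtain ⟨hc, -⟩ := complement_of_supplement hmin hsup hM.1
      refine ⟨M, (Group.isNilpotent_congr hc.symm.QuotientMulEquiv).1 hq, ?_⟩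
      refine le_antisymm ?_ le_normalizer
      by_contra h
      exact hMn (normalizer_eq_top_iff.1 (hM.2 _ (lt_of_le_not_ge le_normalizer h)))
    · obtain ⟨C, hC⟩ := ih (G := U) (by have := card_subgroup_lt hUt; omega)
      -- `U = C N`
      set fU := π.subgroupComap C₀ with hfU
      have hfUs : Function.Surjective fU := π.subgroupComap_surjective_of_surjective C₀
        (QuotientGroup.mk'_surjective N)
      set V := fU.ker with hV
      have : Group.IsNilpotent (U ⧸ V) :=
        (Group.isNilpotent_congr (QuotientGroup.quotientKerEquivOfSurjective fU hfUs).symm).1 hC₀.1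
      have htop : C ⊔ V = ⊤ := by
        have h1 := eq_top_of_isCarterSubgroup (isCarterSubgroup_map V hC)
        have h2 := congrArg (Subgroup.comap (QuotientGroup.mk' V)) h1
        rwa [comap_map_eq, QuotientGroup.ker_mk', comap_top] at h2
      have hNU : N ≤ U := fun x hx => by
        rw [hU, mem_comap, hπ, QuotientGroup.mk'_apply, (QuotientGroup.eq_one_iff x).2 hx]
        exact one_mem _
      have hVN : V.map U.subtype ≤ N := by
        rintro _ ⟨v, hv, rfl⟩
        exact (QuotientGroup.eq_one_iff (v : G)).1 (congrArg Subtype.val hv)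
      have hCN : C.map U.subtype ⊔ N = U := by
        refine le_antisymm (sup_le (map_subtype_le _) hNU) ?_
        conv_lhs => rw [← U.range_subtype, MonoidHom.range_eq_map, ← htop, Subgroup.map_sup]
        exact sup_le_sup_left hVN _
      refine ⟨C.map U.subtype, isNilpotent_map _ hC.1, le_antisymm (fun g hg => ?_) le_normalizer⟩
      have hgU : g ∈ U := by
        rw [← hUn]
        refine conj_smul_eq_self_iff.1 ?_
        conv_lhs => rw [← hCN]
        rw [smul_sup, Subgroup.Normal.conj_smul_eq_self g N, conj_smul_eq_self_iff.2 hg, hCN]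
      refine ⟨⟨g, hgU⟩, ?_, rfl⟩
      rw [SetLike.mem_coe, ← hC.2]
      refine conj_smul_eq_self_iff.1 (map_injective U.subtype_injective ?_)
      rw [conj_smul_subtype]
      exact conj_smul_eq_self_iff.2 hg

/-- Carter subgroups exist. -/
theorem exists_isCarterSubgroup [Finite G] [Group.IsSolvable G] :
    ∃ C : Subgroup G, Cfsg.IsCarterSubgroup C :=
  exists_isCarterSubgroup_aux _ le_rfl

end CfsgLib.Solvable
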