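import Cfsg.Agent.Lib.Solvable.Products
import Mathlib.Data.Nat.GCD.BigOperators

/-!
Permutable subgroups: `HK = KH` makes `HK` a subgroup; pairwise permutable families.
-/

set_option autoImplicit false

namespace CfsgLib.Solvable

open Subgroup
open scoped Pointwise

variable {G : Type*} [Group G]

theorem coe_sup_of_mul_comm {H K : Subgroup G}
    (h : (H : Set G) * (K : Set G) = (K : Set G) * (H : Set G)) :
    ((H ⊔ K : Subgroup G) : Set G) = (H : Set G) * (K : Set G) := by
  let S : Subgroup G :=
    { carrier := (H : Set G) * (K : Set G)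
      one_mem' := ⟨1, H.one_mem, 1, K.one_mem, one_mul 1⟩
      mul_mem' := fun {a b} ha hb => by
        have h1 : a * b ∈ ((H : Set G) * (K : Set G)) * ((H : Set G) * (K : Set G)) := Set.mul_mem_mul ha hb
        rwa [mul_assoc, ← mul_assoc (K : Set G), ← h, mul_assoc (H : Set G) (K : Set G), coe_mul_coe,
          ← mul_assoc, coe_mul_coe] at h1
      inv_mem' := fun {a} ha => by
        rw [h]
        obtain ⟨x, hx, y, hy, rfl⟩ := ha
        exact ⟨y⁻¹, K.inv_mem hy, x⁻¹, H.inv_mem hx, (mul_inv_rev x y).symm⟩ }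
  refine Set.Subset.antisymm ?_ (Subgroup.mul_subset (show (H : Set G) ⊆ (H ⊔ K : Subgroup G) from le_sup_left (a := H)) (show (K : Set G) ⊆ (H ⊔ K : Subgroup G) from le_sup_right (b := K)))
  exact sup_le (a := H) (b := K) (c := S) (fun x hx => ⟨x, hx, 1, K.one_mem, mul_one x⟩)
    fun x hx => ⟨1, H.one_mem, x, hx, one_mul x⟩

theorem card_sup_of_mul_comm [Finite G] {H K : Subgroup G}
    (h : (H : Set G) * (K : Set G) = (K : Set G) * (H : Set G))
    (hc : (Nat.card H).Coprime (Nat.card K)) :
    Nat.card (H ⊔ K : Subgroup G) = Nat.card H * Nat.card K := by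
  have h1 := card_mul_set_mul_card_inf H K
  rw [← coe_sup_of_mul_comm h, disjoint_iff.mp (Subgroup.disjoint_of_coprime_natCard hc),
    Subgroup.card_bot, mul_one] at h1
  exact h1

/-- Pairwise permutable subgroups of pairwise coprime orders. -/
theorem card_sup_of_pairwise_permute [Finite G] {ι : Type*} [DecidableEq ι] (S : ι → Subgroup G)
    (hperm : ∀ i j, (S i : Set G) * (S j : Set G) = (S j : Set G) * (S i : Set G))
    (hcop : ∀ i j, i ≠ j → (Nat.card (S i)).Coprime (Nat.card (S j))) (s : Finset ι) :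
    Nat.card (s.sup S : Subgroup G) = ∏ i ∈ s, Nat.card (S i) ∧
      ∀ j, ((s.sup S : Subgroup G) : Set G) * (S j : Set G) = (S j : Set G) * (s.sup S : Subgroup G) := by
  induction s using Finset.induction_on with
  | empty =>
    refine ⟨by simp, fun j => ?_⟩
    simp only [Finset.sup_empty, Subgroup.coe_bot]
    rw [Set.singleton_mul, Set.mul_singleton]
    simp
  | @insert a s ha ih =>
    obtain ⟨hcard, hc⟩ := ih
    have hh := (hc a).symm
    have hco : (Nat.card (S a)).Coprime (Nat.card (s.sup S : Subgroup G)) := by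
      rw [hcard]
      exact Nat.coprime_prod_right_iff.mpr fun i hi => hcop a i fun h => ha (h ▸ hi)
    refine ⟨?_, fun j => ?_⟩
    · rw [Finset.sup_insert, Finset.prod_insert ha, card_sup_of_mul_comm hh hco, hcard]
    · rw [Finset.sup_insert, coe_sup_of_mul_comm hh, mul_assoc, hc j, ← mul_assoc, hperm a j, mul_assoc]

/-- If `HK = KH` then `|H : H ⊓ K|` divides `|G : K|`. -/
theorem relIndex_dvd_index_of_mul_comm [Finite G] {H K : Subgroup G}
    (h : (H : Set G) * (K : Set G) = (K : Set G) * (H : Set G)) : K.relIndex H ∣ K.index := by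
  have h1 := card_mul_set H K
  rw [← coe_sup_of_mul_comm h] at h1
  refine ⟨(H ⊔ K).index, Nat.eq_of_mul_eq_mul_left (Nat.card_pos (α := K)) ?_⟩
  rw [K.card_mul_index, ← mul_assoc]
  calc Nat.card G = Nat.card (H ⊔ K : Subgroup G) * (H ⊔ K).index := (Subgroup.card_mul_index _).symm
    _ = _ := by rw [show Nat.card (H ⊔ K : Subgroup G) = Nat.card K * K.relIndex H from h1]

theorem relIndex_dvd_index_of_normal' [Finite G] (K N : Subgroup G) [N.Normal] :
    K.relIndex N ∣ K.index :=
  relIndex_dvd_index_of_mul_comm (by rw [← Subgroup.normal_mul, sup_comm, Subgroup.mul_normal])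

theorem relIndex_dvd_index_of_le_normalizer [Finite G] {K T : Subgroup G}
    (h : T ≤ normalizer (K : Set G)) : K.relIndex T ∣ K.index :=
  relIndex_dvd_index_of_mul_comm (Subgroup.set_mul_normalizer_comm (T : Set G) K h)

end CfsgLib.Solvable
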