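import Cfsg.Prelude.Def_SolvableStructure
import Cfsg.Agent.Lib.Solvable.Hall
import Cfsg.Agent.Lib.Solvable.Products
import Cfsg.Agent.Lib.Solvable.Fitting
import Cfsg.Agent.Lib.Solvable.Permute

/-!
Complement systems, Sylow bases and system normalizers.
-/

set_option autoImplicit false

namespace CfsgLib.Solvable

open Subgroup
open scoped Pointwise

variable {G : Type*} [Group G]

theorem pow_eq_ordProj {p k n : ℕ} (hp : p.Prime) {c : ℕ} (hn : n ≠ 0) (h : c * p ^ k = n)
    (hc : ¬ p ∣ c) : p ^ k = p ^ n.factorization p := by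
  have hc0 : c ≠ 0 := fun h0 => hn (by rw [← h, h0, zero_mul])
  rw [← h, Nat.factorization_mul hc0 (pow_ne_zero k hp.ne_zero), Finsupp.add_apply,
    Nat.factorization_eq_zero_of_not_dvd hc, hp.factorization_pow, Finsupp.single_eq_same, zero_add]

theorem not_dvd_card_complement [Finite G] {K : Nat.Primes → Subgroup G}
    (hK : Cfsg.IsComplementSystem K) (p : Nat.Primes) : ¬ (p : ℕ) ∣ Nat.card (K p) := by
  intro hd
  refine Nat.pow_succ_factorization_not_dvd (Nat.card_pos (α := G)).ne' p.2 ?_
  have h := mul_dvd_mul_right hd (K p).index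
  rw [(K p).card_mul_index, hK p, ← pow_succ'] at h
  exact h

theorem exists_complementSystem [Finite G] [Group.IsSolvable G] :
    ∃ K : Nat.Primes → Subgroup G, Cfsg.IsComplementSystem K := by
  have : ∀ p : Nat.Primes, ∃ H : Subgroup G,
      H.index = (p : ℕ) ^ (Nat.card G).factorization p := by
    intro p
    set q := (p : ℕ) ^ (Nat.card G).factorization p with hq
    have hdvd : q ∣ Nat.card G := Nat.ordProj_dvd _ _
    have hco : (Nat.card G / q).Coprime q :=
      ((Nat.coprime_ordCompl p.2 (Nat.card_pos (α := G)).ne').symm).pow_right _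
    obtain ⟨H, hH⟩ := exists_hall (m := Nat.card G / q) (n := q) (Nat.div_mul_cancel hdvd).symm hco
    exact ⟨H, index_dvd_of_card_eq (Nat.div_mul_cancel hdvd).symm hH⟩
  choose K hK using this
  exact ⟨K, hK⟩

theorem eq_top_of_not_dvd [Finite G] {K : Nat.Primes → Subgroup G}
    (hK : Cfsg.IsComplementSystem K) {p : Nat.Primes} (h : ¬ (p : ℕ) ∣ Nat.card G) : K p = ⊤ := by
  rw [← Subgroup.index_eq_one, hK p, Nat.factorization_eq_zero_of_not_dvd h, pow_zero]

theorem coprime_index_complement [Finite G] {K : Nat.Primes → Subgroup G}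
    (hK : Cfsg.IsComplementSystem K) {p q : Nat.Primes} (h : p ≠ q) :
    (K p).index.Coprime (K q).index := by
  rw [hK p, hK q]
  exact Nat.Coprime.pow _ _ ((Nat.coprime_primes p.2 q.2).mpr fun he => h (Subtype.ext he))

theorem index_finset_inf [Finite G] {K : Nat.Primes → Subgroup G}
    (hK : Cfsg.IsComplementSystem K) (s : Finset Nat.Primes) :
    (s.inf K).index = ∏ p ∈ s, (K p).index := by
  classical
  induction s using Finset.induction_on with
  | empty => simp
  | @insert a s ha ih =>
    rw [Finset.inf_insert, Finset.prod_insert ha, index_inf_of_coprime, ih]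
    rw [ih]
    exact Nat.coprime_prod_right_iff.mpr fun i hi => coprime_index_complement hK fun h => ha (h ▸ hi)

theorem coprime_index_finset_inf [Finite G] {K : Nat.Primes → Subgroup G}
    (hK : Cfsg.IsComplementSystem K) {s : Finset Nat.Primes} {a : Nat.Primes} (ha : a ∉ s) :
    (K a).index.Coprime (s.inf K).index := by
  rw [index_finset_inf hK]
  exact Nat.coprime_prod_right_iff.mpr fun i hi => coprime_index_complement hK fun h => ha (h ▸ hi)

theorem finite_divisor_primes (G : Type*) [Group G] [Finite G] :
    {p : Nat.Primes | (p : ℕ) ∣ Nat.card G}.Finite := by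
  refine Set.Finite.of_finite_image ((Nat.card G).divisors.finite_toSet.subset ?_)
    Subtype.val_injective.injOn
  rintro x ⟨p, hp, rfl⟩
  exact Finset.mem_coe.mpr (Nat.mem_divisors.mpr ⟨hp, Nat.card_pos.ne'⟩)

/-- The relevant primes. -/
noncomputable def primeSet (G : Type*) [Group G] [Finite G] : Finset Nat.Primes :=
  (finite_divisor_primes G).toFinset

theorem mem_primeSet [Finite G] {p : Nat.Primes} : p ∈ primeSet G ↔ (p : ℕ) ∣ Nat.card G :=
  Set.Finite.mem_toFinset _

/-- Systems agreeing modulo a normal subgroup are conjugate by an element of it. -/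
theorem exists_mem_conj_complementSystem [Finite G] [Group.IsSolvable G] {N : Subgroup G}
    [N.Normal] {K L : Nat.Primes → Subgroup G} (hK : Cfsg.IsComplementSystem K)
    (hL : Cfsg.IsComplementSystem L) (h : ∀ p, K p ⊔ N = L p ⊔ N) :
    ∃ g ∈ N, ∀ p, MulAut.conj g • K p = L p := by
  classical
  have key : ∀ s : Finset Nat.Primes, ∃ g ∈ N, ∀ p ∈ s, MulAut.conj g • K p = L p := by
    intro s
    induction s using Finset.induction_on with
    | empty => exact ⟨1, N.one_mem, by simp⟩
    | @insert a s ha ih =>
      obtain ⟨g, hg, hgs⟩ := ih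
      set K' := MulAut.conj g • K a with hK'
      set W := K' ⊔ N with hW
      have hWL : L a ≤ W := by
        have e : W = MulAut.conj g • (K a ⊔ N) := by
          rw [hW, Subgroup.smul_sup, Subgroup.Normal.conj_smul_eq_self g N]
        rw [e, h a, Subgroup.smul_sup, Subgroup.Normal.conj_smul_eq_self g N]
        intro x hx
        have hgN : MulAut.conj g • (L a ⊔ N) = L a ⊔ N :=
          Subgroup.conj_smul_eq_self_of_mem (Subgroup.mem_sup_right hg)
        rw [Subgroup.smul_sup, Subgroup.Normal.conj_smul_eq_self g N] at hgN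
        exact hgN.ge (Subgroup.mem_sup_left hx)
      have hK'i : K'.index = (L a).index := by rw [hK', index_conj_smul, hK, hL]
      have hcards : Nat.card K' = Nat.card (L a) := by
        refine Nat.eq_of_mul_eq_mul_right (Nat.pos_of_ne_zero (index_ne_zero_of_finite (H := L a))) ?_
        nth_rewrite 1 [← hK'i]
        rw [K'.card_mul_index, (L a).card_mul_index]
      have e1 := Nat.card_congr (Subgroup.subgroupOfEquivOfLe (le_sup_left : K' ≤ W)).toEquiv
      have e2 := Nat.card_congr (Subgroup.subgroupOfEquivOfLe hWL).toEquiv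
      have hWc : Nat.card W = Nat.card K' * K'.relIndex W := by
        have := (K'.subgroupOf W).card_mul_index
        rw [e1] at this; exact this.symm
      have hWco : (Nat.card K').Coprime (K'.relIndex W) := by
        have h1 : K'.relIndex W ∣ (a : ℕ) ^ (Nat.card G).factorization a := by
          rw [← hK a, ← index_conj_smul g (K a), ← Subgroup.relIndex_mul_index (le_sup_left : K' ≤ W)]
          exact dvd_mul_right _ _
        refine Nat.Coprime.coprime_dvd_right h1 ?_
        rw [hK', card_conj_smul]
        exact ((a.2.coprime_iff_not_dvd.mpr (not_dvd_card_complement hK a)).symm).pow_right _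
      obtain ⟨u, hu, hue⟩ := exists_conj_of_subgroupOf (le_sup_left : K' ≤ W) hWL
        (hall_conj hWc hWco e1 (e2.trans hcards.symm))
      -- write `u = m k`
      have hu' : u ∈ ((K' ⊔ N : Subgroup G) : Set G) := hu
      rw [sup_comm, Subgroup.normal_mul] at hu'
      obtain ⟨m, hm, k, hk, rfl⟩ := Set.mem_mul.mp hu'
      rw [← conj_smul_conj_smul, Subgroup.conj_smul_eq_self_of_mem hk] at hue
      -- move `m` into the intersection of the earlier members
      set D := s.inf L with hD
      have hcop : (D.subgroupOf N).index.Coprime (K'.subgroupOf N).index := by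
        refine Nat.Coprime.coprime_dvd_left (relIndex_dvd_index_of_normal' D N) ?_
        refine Nat.Coprime.coprime_dvd_right (relIndex_dvd_index_of_normal' K' N) ?_
        rw [hK'i]
        exact (coprime_index_finset_inf hL ha).symm
      obtain ⟨d, hd, k', hk', hmd⟩ := forall_exists_mul_of_coprime_index hcop (⟨m, hm⟩ : N)
      have hmd' : m = (d : G) * k' := congrArg Subtype.val hmd
      refine ⟨(d : G) * g, N.mul_mem d.2 hg, fun p hp => ?_⟩
      rcases Finset.mem_insert.mp hp with rfl | hp
      · rw [← conj_smul_conj_smul, ← hK']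
        rw [hmd', ← conj_smul_conj_smul, Subgroup.conj_smul_eq_self_of_mem (show (k' : G) ∈ K' from hk')] at hue
        exact hue
      · rw [← conj_smul_conj_smul, hgs p hp,
          Subgroup.conj_smul_eq_self_of_mem (Finset.inf_le (f := L) hp (show (d : G) ∈ D from hd))]
  obtain ⟨g, hg, hgs⟩ := key (primeSet G)
  refine ⟨g, hg, fun p => ?_⟩
  by_cases hp : (p : ℕ) ∣ Nat.card G
  · exact hgs p (mem_primeSet.mpr hp)
  · rw [eq_top_of_not_dvd hK hp, eq_top_of_not_dvd hL hp,
      Subgroup.conj_smul_eq_self_of_mem (Subgroup.mem_top g)]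

theorem exists_conj_complementSystem [Finite G] [Group.IsSolvable G]
    {K L : Nat.Primes → Subgroup G} (hK : Cfsg.IsComplementSystem K)
    (hL : Cfsg.IsComplementSystem L) : ∃ g : G, ∀ p, MulAut.conj g • K p = L p := by
  obtain ⟨g, -, hg⟩ := exists_mem_conj_complementSystem (N := ⊤) hK hL (fun p => by simp)
  exact ⟨g, hg⟩

theorem isComplementSystem_conj [Finite G] {K : Nat.Primes → Subgroup G}
    (hK : Cfsg.IsComplementSystem K) (g : G) :
    Cfsg.IsComplementSystem fun p => MulAut.conj g • K p := fun p => by
  show (MulAut.conj g • K p).index = _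
  rw [index_conj_smul, hK p]

theorem isComplementSystem_map [Finite G] {K : Nat.Primes → Subgroup G}
    (hK : Cfsg.IsComplementSystem K) (N : Subgroup G) [N.Normal] :
    Cfsg.IsComplementSystem fun p => (K p).map (QuotientGroup.mk' N) := by
  intro p
  set π := QuotientGroup.mk' N
  have h1 : ((K p).map π).index ∣ (p : ℕ) ^ (Nat.card G).factorization p :=
    hK p ▸ Subgroup.index_map_dvd _ (QuotientGroup.mk'_surjective N)
  obtain ⟨k, -, hk⟩ := (Nat.dvd_prime_pow p.2).mp h1
  show ((K p).map π).index = _
  rw [hk]
  refine pow_eq_ordProj p.2 Nat.card_pos.ne' (c := Nat.card ((K p).map π)) ?_ ?_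
  · rw [← hk, Subgroup.card_mul_index]
  · exact fun hd => not_dvd_card_complement hK p (hd.trans (card_map_mk'_dvd N _))

theorem map_systemNormalizer [Finite G] [Group.IsSolvable G] {K : Nat.Primes → Subgroup G}
    (hK : Cfsg.IsComplementSystem K) (N : Subgroup G) [N.Normal] :
    Cfsg.systemNormalizer (fun p => (K p).map (QuotientGroup.mk' N)) =
      (Cfsg.systemNormalizer K).map (QuotientGroup.mk' N) := by
  set π := QuotientGroup.mk' N
  apply le_antisymm
  · intro q hq
    obtain ⟨x, rfl⟩ := QuotientGroup.mk'_surjective N q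
    simp only [Cfsg.systemNormalizer, Subgroup.mem_iInf, ← conj_smul_eq_self_iff] at hq
    have hsame : ∀ p, (MulAut.conj x • K p) ⊔ N = K p ⊔ N := by
      intro p
      have h2 := congrArg (Subgroup.comap π) ((map_conj_smul π x (K p)).trans (hq p))
      rwa [Subgroup.comap_map_eq, Subgroup.comap_map_eq, QuotientGroup.ker_mk'] at h2
    obtain ⟨n, hn, hnp⟩ := exists_mem_conj_complementSystem (isComplementSystem_conj hK x) hK hsame
    refine ⟨n * x, ?_, ?_⟩
    · simp only [SetLike.mem_coe, Cfsg.systemNormalizer, Subgroup.mem_iInf, ← conj_smul_eq_self_iff]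
      intro p
      rw [← conj_smul_conj_smul]
      exact hnp p
    · rw [map_mul, show π n = 1 from (QuotientGroup.eq_one_iff n).mpr hn, one_mul]
  · rintro _ ⟨x, hx, rfl⟩
    simp only [SetLike.mem_coe, Cfsg.systemNormalizer, Subgroup.mem_iInf, ← conj_smul_eq_self_iff] at hx ⊢
    intro p
    rw [← map_conj_smul, hx p]

theorem systemNormalizer_isNilpotent [Finite G] {K : Nat.Primes → Subgroup G}
    (hK : Cfsg.IsComplementSystem K) : Group.IsNilpotent (Cfsg.systemNormalizer K) := by
  classical
  set T := Cfsg.systemNormalizer K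
  rw [isNilpotent_iff_pCore_index]
  intro p hp
  have : Fact p.Prime := ⟨hp⟩
  set pp : Nat.Primes := ⟨p, hp⟩
  set s := (primeSet G).erase pp with hs
  set X := s.inf K with hX
  have hTK : ∀ q, T ≤ normalizer (K q : Set G) := fun q => iInf_le _ q
  have hn : (X.subgroupOf T).Normal := by
    refine normal_of_forall_conj_smul_eq fun t => ?_
    have hTX : MulAut.conj (t : G) • X = X := by
      rw [hX]
      have : ∀ u : Finset Nat.Primes, MulAut.conj (t : G) • u.inf K = u.inf K := by
        intro u
        induction u using Finset.induction_on with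
        | empty => simp
        | @insert a u ha ih =>
          rw [Finset.inf_insert, Subgroup.smul_inf, ih, conj_smul_eq_self_iff.mpr (hTK a t.2)]
      exact this s
    ext y
    rw [mem_conj_smul, Subgroup.mem_subgroupOf, Subgroup.mem_subgroupOf]
    have h2 := SetLike.ext_iff.mp hTX (y : G)
    rw [mem_conj_smul] at h2
    simpa using h2
  have hXp : IsPGroup p X := by
    refine IsPGroup.of_card (n := (Nat.card X).primeFactorsList.length) ?_
    refine Nat.eq_prime_pow_of_unique_prime_dvd Nat.card_pos.ne' ?_
    intro r hr hrd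
    by_contra hne
    have hrG : r ∣ Nat.card G := hrd.trans X.card_subgroup_dvd_card
    have hmem : (⟨r, hr⟩ : Nat.Primes) ∈ s :=
      Finset.mem_erase.mpr ⟨fun he => hne (congrArg Subtype.val he), mem_primeSet.mpr hrG⟩
    exact not_dvd_card_complement hK ⟨r, hr⟩
      (hrd.trans (Subgroup.card_dvd_of_le (Finset.inf_le hmem)))
  have hrel : ¬ p ∣ (X.subgroupOf T).index := by
    have key : ∀ u : Finset Nat.Primes, (∀ q ∈ u, q ≠ pp) → ¬ p ∣ ((u.inf K).subgroupOf T).index := by
      intro u
      induction u using Finset.induction_on with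
      | empty => intro _; simp [hp.ne_one]
      | @insert a u ha ih =>
        intro hu hd
        rw [Finset.inf_insert, Subgroup.subgroupOf, Subgroup.comap_inf, ← Subgroup.subgroupOf,
          ← Subgroup.subgroupOf] at hd
        have hKn : ((K a).subgroupOf T).Normal :=
          Subgroup.normal_subgroupOf_iff_le_normalizer_inf.mpr (by
            intro t ht
            rw [← conj_smul_eq_self_iff, Subgroup.smul_inf, conj_smul_eq_self_iff.mpr (hTK a ht),
              Subgroup.conj_smul_eq_self_of_mem ht])
        have hd2 : ¬ p ∣ ((K a).subgroupOf T).index := by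
          intro hd2
          have h3 : (K a).relIndex T ∣ (K a).index :=
            relIndex_dvd_index_of_le_normalizer (hTK a)
          have h6 : p ∣ (a : ℕ) ^ (Nat.card G).factorization a := hK a ▸ hd2.trans h3
          exact hu a (Finset.mem_insert_self a u) (Subtype.ext
            ((Nat.prime_dvd_prime_iff_eq hp a.2).mp (hp.dvd_of_dvd_pow h6)).symm)
        have h7 := Subgroup.relIndex_inf_mul_relIndex ((K a).subgroupOf T) ((u.inf K).subgroupOf T) ⊤
        simp only [Subgroup.relIndex_top_right] at h7
        rw [← h7] at hd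
        rcases hp.dvd_mul.mp hd with h8 | h8
        · exact hd2 (h8.trans (Subgroup.relIndex_dvd_index_of_normal _ _))
        · exact ih (fun q hq => hu q (Finset.mem_insert_of_mem hq)) h8
    exact key s fun q hq => (Finset.mem_erase.mp hq).1
  exact fun hd => hrel (hd.trans (Subgroup.index_dvd_of_le
    (le_pCore hn (hXp.comap_subtype))))

end CfsgLib.Solvable
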