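import Cfsg.Agent.Lib.Solvable.Hall
import Cfsg.Agent.Lib.Solvable.Products

/-!
# Normal subgroups of the factors of a factorized group
-/

namespace CfsgLib.Solvable

open Subgroup
open scoped Pointwise

variable {G : Type*} [Group G]

theorem conj_smul_eq_of_mem_normal {A H : Subgroup G} (hA : A ≤ H)
    (hAn : (A.subgroupOf H).Normal) {h : G} (hh : h ∈ H) : MulAut.conj h • A = A := by
  have h1 : ∀ x ∈ H, ∀ a ∈ A, x * a * x⁻¹ ∈ A := fun x hx a ha =>
    hAn.conj_mem ⟨a, hA ha⟩ ha ⟨x, hx⟩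
  ext a
  rw [mem_pointwise_smul_iff_inv_smul_mem, ← map_inv]
  change h⁻¹ * a * h⁻¹⁻¹ ∈ A ↔ a ∈ A
  refine ⟨fun ha => ?_, fun ha => h1 _ (inv_mem hh) _ ha⟩
  have := h1 h hh _ ha
  simpa [mul_assoc] using this

/-- In a solvable product `H K`, normal Hall subgroups of the factors permute. -/
theorem exists_coe_eq_mul_of_hall [Finite G] [Group.IsSolvable G] {H K A B : Subgroup G}
    (hHK : ∀ g : G, ∃ h ∈ H, ∃ k ∈ K, g = h * k) (hA : A ≤ H)
    (hAn : (A.subgroupOf H).Normal) (hB : B ≤ K) (hBn : (B.subgroupOf K).Normal)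
    (hAh : (Nat.card A).Coprime A.index) (hBh : (Nat.card B).Coprime B.index) :
    ∃ S : Subgroup G, (S : Set G) = (A : Set G) * (B : Set G) := by
  set m := Nat.lcm (Nat.card A) (Nat.card B) with hmdef
  obtain ⟨n, hn⟩ : m ∣ Nat.card G :=
    Nat.lcm_dvd A.card_subgroup_dvd_card B.card_subgroup_dvd_card
  have hdvd : ∀ C : Subgroup G, Nat.card C ∣ m → n ∣ C.index := by
    rintro C ⟨c, hc⟩
    refine ⟨c, Nat.eq_of_mul_eq_mul_left (Nat.card_pos (α := C)) ?_⟩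
    rw [C.card_mul_index, hn, hc]; ring
  have hmn : m.Coprime n :=
    ((hAh.coprime_dvd_right (hdvd A (Nat.dvd_lcm_left _ _))).mul_left
      (hBh.coprime_dvd_right (hdvd B (Nat.dvd_lcm_right _ _)))).coprime_dvd_left
      (Nat.lcm_dvd_mul _ _)
  obtain ⟨M, hM, hAM⟩ := exists_hall_ge hn hmn
    (hmn.coprime_dvd_left (Nat.dvd_lcm_left _ (Nat.card B)))
  obtain ⟨z, hz⟩ := exists_conj_le_hall hn hmn hM
    (hmn.coprime_dvd_left (Nat.dvd_lcm_right (Nat.card A) (Nat.card B)))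
  obtain ⟨h, hh, k, hk, rfl⟩ := hHK z
  rw [← conj_smul_conj_smul, conj_smul_eq_of_mem_normal hB hBn hk] at hz
  refine ⟨MulAut.conj h⁻¹ • M, ?_⟩
  have hAM' : A ≤ MulAut.conj h⁻¹ • M := by
    rw [← conj_smul_eq_of_mem_normal hA hAn (inv_mem hh)]
    exact conj_smul_mono _ hAM
  have hBM : B ≤ MulAut.conj h⁻¹ • M := by
    have := conj_smul_mono h⁻¹ hz
    rwa [conj_smul_conj_smul, inv_mul_cancel, conj_one_smul] at this
  refine (Set.eq_of_subset_of_ncard_le ?_ ?_).symm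
  · rintro _ ⟨a, ha, b, hb, rfl⟩
    exact mul_mem (hAM' ha) (hBM hb)
  · rw [← Nat.card_coe_set_eq, ← Nat.card_coe_set_eq]
    change Nat.card (MulAut.conj h⁻¹ • M : Subgroup G) ≤ _
    rw [card_conj_smul, hM]
    refine Nat.le_of_mul_le_mul_right ?_ (Nat.card_pos (α := (A ⊓ B : Subgroup G)))
    rw [card_mul_set_mul_card_inf, ← Nat.gcd_mul_lcm (Nat.card A) (Nat.card B), mul_comm m]
    exact Nat.mul_le_mul_right _ (Nat.le_of_dvd (Nat.gcd_pos_of_pos_left _ Nat.card_pos)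
      (Nat.dvd_gcd (card_dvd_of_le inf_le_left) (card_dvd_of_le inf_le_right)))

/-- The normalizer of the join of normal subgroups of the factors is factorized. -/
theorem normalizer_sup_factorized [Finite G] {H K A B : Subgroup G}
    (hHK : ∀ g : G, ∃ h ∈ H, ∃ k ∈ K, g = h * k) (hA : A ≤ H)
    (hAn : (A.subgroupOf H).Normal) (hB : B ≤ K) (hBn : (B.subgroupOf K).Normal)
    {g : G} (hg : g ∈ normalizer ((A ⊔ B : Subgroup G) : Set G)) :
    ∃ h ∈ normalizer ((A ⊔ B : Subgroup G) : Set G) ⊓ H,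
      ∃ k ∈ normalizer ((A ⊔ B : Subgroup G) : Set G) ⊓ K, g = h * k := by
  obtain ⟨h, hh, k, hk, rfl⟩ := hHK g
  have hhN : h ∈ normalizer ((A ⊔ B : Subgroup G) : Set G) := by
    refine mem_normalizer_iff_map_conj_eq.2 ?_
    change (A ⊔ B).map (MulAut.conj h).toMonoidHom = A ⊔ B
    refine eq_of_le_of_card_ge ?_ (card_map_of_injective (MulEquiv.injective _)).ge
    rw [Subgroup.map_sup, sup_le_iff]
    refine ⟨?_, ?_⟩
    · exact le_trans (conj_smul_eq_of_mem_normal hA hAn hh).le le_sup_left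
    · rintro _ ⟨b, hb, rfl⟩
      have h1 : k⁻¹ * b * k⁻¹⁻¹ ∈ B := hBn.conj_mem ⟨b, hB hb⟩ hb ⟨k⁻¹, inv_mem hk⟩
      have hb' : k⁻¹ * b * k ∈ B := by simpa using h1
      have := (mem_normalizer_iff.1 hg (k⁻¹ * b * k)).1 (mem_sup_right hb')
      change h * b * h⁻¹ ∈ A ⊔ B
      have e : h * k * (k⁻¹ * b * k) * (h * k)⁻¹ = h * b * h⁻¹ := by group
      rwa [e] at this
  exact ⟨h, ⟨hhN, hh⟩, k, ⟨(Subgroup.mul_mem_cancel_left _ hhN).1 hg, hk⟩, rfl⟩

end CfsgLib.Solvable
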