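import Cfsg.Agent.Lib.Solvable.Permute
import Cfsg.Agent.Lib.Solvable.Basic
import Cfsg.Agent.Lib.Solvable.Factorized
import Mathlib.GroupTheory.Sylow
import Mathlib.Algebra.Group.Pointwise.Set.Card

/-!
# Kegel's lemma on pairs of subgroups permuting with all conjugates
-/

namespace CfsgLib.Solvable

open Subgroup
open scoped Pointwise

variable {G : Type*} [Group G]

theorem mul_comm_of_coe_eq {A C S : Subgroup G} (h : (S : Set G) = (A : Set G) * (C : Set G)) :
    (A : Set G) * (C : Set G) = (C : Set G) * (A : Set G) := by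
  have h1 := congrArg (fun s : Set G => s⁻¹) h
  simp only [mul_inv_rev, inv_coe_set] at h1
  rw [← h, h1]

/-- The subgroups permuting with `C` are closed under joins. -/
theorem mul_comm_sup [Finite G] {A A' C : Subgroup G}
    (h : (A : Set G) * (C : Set G) = (C : Set G) * (A : Set G))
    (h' : (A' : Set G) * (C : Set G) = (C : Set G) * (A' : Set G)) :
    ((A ⊔ A' : Subgroup G) : Set G) * (C : Set G) =
      (C : Set G) * ((A ⊔ A' : Subgroup G) : Set G) := by
  set T : Set G := ((A ⊔ A' : Subgroup G) : Set G) * (C : Set G) with hT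
  have key : ∀ x ∈ A ⊔ A', ∀ t ∈ T, x * t ∈ T := by
    rintro x hx _ ⟨y, hy, c, hc, rfl⟩
    exact ⟨x * y, mul_mem hx hy, c, hc, (mul_assoc _ _ _)⟩
  have hgen : ∀ x ∈ A ⊔ A', ∀ c ∈ C, c * x ∈ T := by
    intro x hx
    rw [sup_eq_closure] at hx
    refine closure_induction (p := fun x _ => ∀ c ∈ C, c * x ∈ T) ?_ ?_ ?_ ?_ hx
    · rintro x (hx | hx) c hc
      · obtain ⟨a, ha, d, hd, e⟩ := h.symm.le ⟨c, hc, x, hx, rfl⟩
        exact ⟨a, mem_sup_left ha, d, hd, e⟩
      · obtain ⟨a, ha, d, hd, e⟩ := h'.symm.le ⟨c, hc, x, hx, rfl⟩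
        exact ⟨a, mem_sup_right ha, d, hd, e⟩
    · intro c hc
      exact ⟨1, one_mem _, c, hc, by simp⟩
    · intro x y _ _ hx hy c hc
      obtain ⟨a, ha, d, hd, e⟩ := hx c hc
      rw [← mul_assoc, ← e, mul_assoc]
      exact key a ha _ (hy d hd)
    · intro x _ hx c hc
      -- powers of `x` suffice in a finite group
      have hpow : ∀ n : ℕ, ∀ c ∈ C, c * x ^ n ∈ T := by
        intro n
        induction n with
        | zero => intro c hc; exact ⟨1, one_mem _, c, hc, by simp⟩
        | succ n ih =>
          intro c hc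
          obtain ⟨a, ha, d, hd, e⟩ := ih c hc
          rw [pow_succ, ← mul_assoc, ← e, mul_assoc]
          exact key a ha _ (hx d hd)
      obtain ⟨n, hn⟩ := (isOfFinOrder_of_finite x).mem_powers_iff_mem_zpowers.2
        (inv_mem (mem_zpowers x))
      rw [← hn]
      exact hpow n c hc
  refine (Set.eq_of_subset_of_ncard_le ?_ ?_).symm
  · rintro _ ⟨c, hc, x, hx, rfl⟩
    exact hgen x hx c hc
  · rw [hT, ← Nat.card_coe_set_eq, ← Nat.card_coe_set_eq]
    have h1 : (((A ⊔ A' : Subgroup G) : Set G) * (C : Set G))⁻¹ =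
        (C : Set G) * ((A ⊔ A' : Subgroup G) : Set G) := by
      simp [mul_inv_rev]
    rw [← h1, Set.natCard_inv]

theorem kegel_lemma_aux [Finite G] : ∀ (n : ℕ) (A B : Subgroup G), Nat.card G - Nat.card A ≤ n →
    (∀ x : G, ∃ S : Subgroup G, S ≠ ⊤ ∧
      (S : Set G) = (A : Set G) * ((MulAut.conj x • B : Subgroup G) : Set G)) →
    ∃ N : Subgroup G, N.Normal ∧ N ≠ ⊤ ∧ (A ≤ N ∨ B ≤ N) := by
  intro n
  induction n using Nat.strong_induction_on with
  | _ n ih =>
    intro A B hn h
    obtain ⟨S, hStop, hS⟩ := h 1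
    have hAtop : A ≠ ⊤ := by
      rintro rfl
      refine hStop (SetLike.coe_injective (hS.trans ?_))
      exact Set.eq_univ_of_forall fun g => ⟨g, mem_top g, 1, one_mem _, mul_one g⟩
    by_cases hnorm : ∀ x : G, ∀ b ∈ MulAut.conj x • B, b ∈ normalizer (A : Set G)
    · have hle : normalClosure (B : Set G) ≤ normalizer (A : Set G) := by
        refine (Subgroup.closure_le _).2 fun c hc => ?_
        obtain ⟨b, hb, hcb⟩ := Group.mem_conjugatesOfSet_iff.1 hc
        obtain ⟨x, hx⟩ := isConj_iff.1 hcb
        refine hnorm x c (mem_conj_smul.2 ?_)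
        rw [← hx]; simpa [mul_assoc] using hb
      by_cases hK : normalClosure (B : Set G) = ⊤
      · exact ⟨A, normalizer_eq_top_iff.1 (top_le_iff.1 (hK ▸ hle)), hAtop, Or.inl le_rfl⟩
      · exact ⟨_, normalClosure_normal, hK, Or.inr subset_normalClosure⟩
    · push Not at hnorm
      obtain ⟨x, c, hc, hcN⟩ := hnorm
      obtain ⟨Sx, hSxtop, hSx⟩ := h x
      set A' := A ⊔ MulAut.conj c • A with hA'
      have hlt : Nat.card A < Nat.card A' := by
        by_contra hcon
        have e := eq_of_le_of_card_le (le_sup_left : A ≤ A') (not_lt.1 hcon)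
        refine hcN (mem_normalizer_iff_map_conj_eq.2 ?_)
        change MulAut.conj c • A = A
        exact eq_of_le_of_card_le (le_sup_right.trans e.symm.le) (card_conj_smul c A).ge
      have hASx : A ≤ Sx := fun a ha => by
        rw [← SetLike.mem_coe, hSx]; exact ⟨a, ha, 1, one_mem _, mul_one a⟩
      have hBSx : MulAut.conj x • B ≤ Sx := fun b hb => by
        rw [← SetLike.mem_coe, hSx]; exact ⟨1, one_mem _, b, hb, one_mul b⟩
      have hA'Sx : A' ≤ Sx := by
        refine sup_le hASx ?_
        refine (conj_smul_mono c hASx).trans ?_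
        exact (conj_smul_eq_self_of_mem (hBSx hc)).le
      have h' : ∀ y : G, ∃ T : Subgroup G, T ≠ ⊤ ∧
          (T : Set G) = (A' : Set G) * ((MulAut.conj y • B : Subgroup G) : Set G) := by
        intro y
        set C := MulAut.conj y • B with hC
        obtain ⟨S1, -, hS1⟩ := h y
        obtain ⟨S2, -, hS2⟩ := h (c⁻¹ * y)
        have hS2' : ((MulAut.conj c • S2 : Subgroup G) : Set G) =
            ((MulAut.conj c • A : Subgroup G) : Set G) * (C : Set G) := by
          rw [coe_pointwise_smul, hS2, smul_mul', ← coe_pointwise_smul, ← coe_pointwise_smul,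
            conj_smul_conj_smul, mul_inv_cancel_left]
        have hcomm := mul_comm_sup (mul_comm_of_coe_eq hS1) (mul_comm_of_coe_eq hS2')
        refine ⟨A' ⊔ C, fun htop => ?_, coe_sup_of_mul_comm hcomm⟩
        have hu := coe_sup_of_mul_comm hcomm
        rw [← hA', htop] at hu
        have hmem : x * y⁻¹ ∈ ((⊤ : Subgroup G) : Set G) := mem_top _
        rw [hu] at hmem
        obtain ⟨s, hs, d, hd, e⟩ := hmem
        -- `C` is conjugate to `x B x⁻¹` by an element of `Sx`
        have hCSx : C ≤ Sx := by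
          have e1 : MulAut.conj (s * d) • C = MulAut.conj x • B := by
            change MulAut.conj (s * d) • MulAut.conj y • B = _
            rw [show s * d = x * y⁻¹ from e, conj_smul_conj_smul, inv_mul_cancel_right]
          rw [← conj_smul_conj_smul, conj_smul_eq_self_of_mem hd] at e1
          have h2 := conj_smul_mono s⁻¹ hBSx
          rw [← e1, conj_smul_conj_smul, inv_mul_cancel, conj_one_smul,
            conj_smul_eq_self_of_mem (inv_mem (hA'Sx hs))] at h2
          exact h2
        exact hSxtop (top_le_iff.1 (htop ▸ sup_le hA'Sx hCSx))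
      obtain ⟨N, hN, hNtop, hle⟩ := ih (Nat.card G - Nat.card A')
        (by have := A'.card_le_card_group; omega) A' B le_rfl h'
      exact ⟨N, hN, hNtop, hle.imp (le_trans le_sup_left) id⟩

theorem kegel_lemma [Finite G] (A B : Subgroup G)
    (h : ∀ x : G, ∃ S : Subgroup G, S ≠ ⊤ ∧
      (S : Set G) = (A : Set G) * ((MulAut.conj x • B : Subgroup G) : Set G)) :
    ∃ N : Subgroup G, N.Normal ∧ N ≠ ⊤ ∧ (A ≤ N ∨ B ≤ N) :=
  kegel_lemma_aux _ A B le_rfl h

/-- In `G = A B` with normal Sylow subgroups `P` of `A` and `Q` of `B`, `P Q` is a Sylow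
subgroup of `G`. -/
theorem exists_sylow_coe_eq_mul [Finite G] {A B : Subgroup G}
    (hAB : ∀ g : G, ∃ a ∈ A, ∃ b ∈ B, g = a * b) {p : ℕ} [Fact p.Prime]
    (P : Sylow p A) (Q : Sylow p B) (hP : (P : Subgroup A).Normal) (hQ : (Q : Subgroup B).Normal) :
    ∃ R : Sylow p G, ((R : Subgroup G) : Set G) =
      (((P : Subgroup A).map A.subtype : Subgroup G) : Set G) *
        (((Q : Subgroup B).map B.subtype : Subgroup G) : Set G) := by
  set P' := (P : Subgroup A).map A.subtype with hP'
  set Q' := (Q : Subgroup B).map B.subtype with hQ'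
  obtain ⟨R₁, hR₁⟩ := (P.2.map A.subtype).exists_le_sylow
  obtain ⟨R₂, hR₂⟩ := (Q.2.map B.subtype).exists_le_sylow
  obtain ⟨g, hg⟩ := MulAction.exists_smul_eq G R₂ R₁
  obtain ⟨a, ha, b, hb, rfl⟩ := hAB g
  have hnA : (P'.subgroupOf A).Normal := by
    rw [hP', ← comap_subtype, comap_map_eq_self_of_injective A.subtype_injective]; exact hP
  have hnB : (Q'.subgroupOf B).Normal := by
    rw [hQ', ← comap_subtype, comap_map_eq_self_of_injective B.subtype_injective]; exact hQ
  refine ⟨b • R₂, (Set.eq_of_subset_of_ncard_le ?_ ?_).symm⟩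
  · have hQR : Q' ≤ ((b • R₂ : Sylow p G) : Subgroup G) := by
      rw [Sylow.coe_subgroup_smul,
        ← conj_smul_eq_of_mem_normal (A := Q') (map_subtype_le _) hnB hb]
      exact conj_smul_mono b hR₂
    have hPR : P' ≤ ((b • R₂ : Sylow p G) : Subgroup G) := by
      have : b • R₂ = a⁻¹ • R₁ := by rw [← hg, mul_smul, inv_smul_smul]
      rw [this, Sylow.coe_subgroup_smul,
        ← conj_smul_eq_of_mem_normal (A := P') (map_subtype_le _) hnA (inv_mem ha)]
      exact conj_smul_mono _ hR₁
    rintro _ ⟨u, hu, v, hv, rfl⟩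
    exact mul_mem (hPR hu) (hQR hv)
  · rw [← Nat.card_coe_set_eq, ← Nat.card_coe_set_eq]
    change Nat.card ((b • R₂ : Sylow p G) : Subgroup G) ≤ _
    refine Nat.le_of_mul_le_mul_right ?_ (Nat.card_pos (α := (A ⊓ B : Subgroup G)))
    have hcard := (forall_exists_mul_iff_card A B).1 hAB
    have h1 := card_mul_set_mul_card_inf P' Q'
    rw [Sylow.card_eq_multiplicity]
    have hPc : Nat.card P' = p ^ (Nat.card A).factorization p := by
      rw [hP', card_map_of_injective A.subtype_injective, P.card_eq_multiplicity]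
    have hQc : Nat.card Q' = p ^ (Nat.card B).factorization p := by
      rw [hQ', card_map_of_injective B.subtype_injective, Q.card_eq_multiplicity]
    -- compare the `p`-parts
    have h2 : (Nat.card G).factorization p + (Nat.card (A ⊓ B : Subgroup G)).factorization p =
        (Nat.card A).factorization p + (Nat.card B).factorization p := by
      have := congrArg (fun n => n.factorization p) hcard
      change (_ * _ : ℕ).factorization p = (_ * _ : ℕ).factorization p at this
      rwa [Nat.factorization_mul Nat.card_pos.ne' Nat.card_pos.ne',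
        Nat.factorization_mul Nat.card_pos.ne' Nat.card_pos.ne', Finsupp.add_apply,
        Finsupp.add_apply] at this
    obtain ⟨i, hi⟩ := IsPGroup.iff_card.1 ((P.2.map A.subtype).to_le
      (inf_le_left : P' ⊓ Q' ≤ P'))
    have hi' : i ≤ (Nat.card (A ⊓ B : Subgroup G)).factorization p := by
      refine ((Fact.out : p.Prime).pow_dvd_iff_le_factorization Nat.card_pos.ne').1 ?_
      rw [← hi]
      exact card_dvd_of_le (inf_le_inf (map_subtype_le _) (map_subtype_le _))
    calc p ^ (Nat.card G).factorization p * Nat.card (A ⊓ B : Subgroup G)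
        = p ^ (Nat.card G).factorization p * Nat.card (A ⊓ B : Subgroup G) := rfl
      _ ≤ _ := by
        have h3 : p ^ (Nat.card G).factorization p ≤
            Nat.card ((P' : Set G) * (Q' : Set G) : Set G) := by
          refine Nat.le_of_mul_le_mul_right ?_ (pow_pos (Fact.out : p.Prime).pos i)
          rw [← pow_add]
          calc p ^ ((Nat.card G).factorization p + i)
              ≤ p ^ ((Nat.card A).factorization p + (Nat.card B).factorization p) :=
                Nat.pow_le_pow_right (Fact.out : p.Prime).pos (by omega)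
            _ = _ := by rw [pow_add, ← hPc, ← hQc, ← h1, hi]
        exact Nat.mul_le_mul_right _ h3

end CfsgLib.Solvable
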