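import Cfsg.Agent.Lib.Solvable.Carter
import Cfsg.Agent.Lib.Solvable.HallSystem
import Cfsg.Agent.Lib.Solvable.KegelLemma
import Cfsg.Agent.Lib.Complement.FpfNilpotent

/-!
# Carter subgroups and system normalizers
-/

namespace CfsgLib.Solvable

open Subgroup
open scoped Pointwise

universe u

variable {G : Type u} [Group G]

/-- The complement system contains the elements of order prime to the index of `C`. -/
def ReducesInto (K : Nat.Primes → Subgroup G) (C : Subgroup G) : Prop :=
  ∀ (p : Nat.Primes) (c : G), c ∈ C → (orderOf c).Coprime (p : ℕ) → c ∈ K p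

/-- A normal subgroup of order prime to an index lies in that subgroup. -/
theorem le_of_coprime_index' [Finite G] (K N : Subgroup G) [N.Normal]
    (h : (Nat.card N).Coprime K.index) : N ≤ K := by
  refine relIndex_eq_one.1 (Nat.eq_one_of_dvd_coprimes h ?_ (relIndex_dvd_index_of_normal' K N))
  rw [relIndex]
  exact index_dvd_card _

theorem not_dvd_index_of_mul_nilpotent [Finite G] {C M X : Subgroup G} (hC : Group.IsNilpotent C)
    (hM : Group.IsNilpotent M) (hCM : ∀ g : G, ∃ c ∈ C, ∃ m ∈ M, g = c * m) {p q : ℕ}
    [hq : Fact q.Prime] (hp : p.Prime) (hqp : q ≠ p)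
    (hXC : ∀ c ∈ C, (orderOf c).Coprime p → c ∈ X) (hXM : ∀ m ∈ M, (orderOf m).Coprime p → m ∈ X) :
    ¬ q ∣ X.index := by
  obtain ⟨T₁⟩ : Nonempty (Sylow q C) := inferInstance
  obtain ⟨T₂⟩ : Nonempty (Sylow q M) := inferInstance
  have hT : ∀ (D : Subgroup G) (T : Sylow q D), (∀ d ∈ D, (orderOf d).Coprime p → d ∈ X) →
      (T : Subgroup D).map D.subtype ≤ X := by
    rintro D T hD _ ⟨t, ht, rfl⟩
    obtain ⟨k, hk⟩ := (IsPGroup.iff_orderOf.1 T.2) ⟨t, ht⟩
    rw [Subgroup.orderOf_mk, ← Subgroup.orderOf_coe] at hk
    exact hD _ t.2 (show (orderOf (t : G)).Coprime p from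
      hk ▸ ((Nat.coprime_primes hq.out hp).2 hqp).pow_left k)
  have := hC
  have := hM
  obtain ⟨R, hR⟩ := exists_sylow_coe_eq_mul hCM T₁ T₂
    (T₁.normal_of_normalizerCondition Group.normalizerCondition_of_isNilpotent)
    (T₂.normal_of_normalizerCondition Group.normalizerCondition_of_isNilpotent)
  have hRX : (R : Subgroup G) ≤ X := fun r hr => by
    obtain ⟨u, hu, v, hv, rfl⟩ := hR.le hr
    exact mul_mem (hT C T₁ hXC hu) (hT M T₂ hXM hv)
  exact fun hd => R.not_dvd_index (hd.trans (index_dvd_of_le hRX))

/-- The index of a member of a system restricted to a subgroup covered by it. -/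
theorem index_eq_ordProj_of_forall [Finite G] {X : Subgroup G} {p : ℕ} (hp : p.Prime)
    (hpX : ¬ p ∣ Nat.card X) (hq : ∀ q, q.Prime → q ≠ p → ¬ q ∣ X.index) :
    X.index = p ^ (Nat.card G).factorization p := by
  have hk := Nat.eq_prime_pow_of_unique_prime_dvd (p := p) (index_ne_zero_of_finite (H := X))
    fun {q} hq' hd => by
      by_contra hne
      exact hq q hq' hne hd
  rw [hk]
  exact pow_eq_ordProj hp Nat.card_pos.ne' (c := Nat.card X) (by rw [← hk, X.card_mul_index]) hpX

theorem exists_pow_coprime {H : Type*} [Group H] [Finite H] (f : G →* H) [Finite G] {p : ℕ}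
    (hp : p.Prime) (c : G) (hc : (orderOf (f c)).Coprime p) :
    ∃ n : ℕ, (orderOf (c ^ n)).Coprime p ∧ f (c ^ n) = f c := by
  set k := (orderOf c).factorization p with hk
  obtain ⟨m, hm⟩ := exists_pow_eq_self_of_coprime (n := p ^ k) (hc.symm.pow_left k)
  refine ⟨p ^ k * m, ?_, ?_⟩
  · refine Nat.Coprime.coprime_dvd_left (n := p) ?_
      (Nat.coprime_ordCompl hp (orderOf_pos c).ne').symm
    rw [pow_mul, ← hk, ← orderOf_pow_of_dvd (pow_ne_zero k hp.ne_zero)
      (hk ▸ Nat.ordProj_dvd (orderOf c) p)]
    exact orderOf_pow_dvd m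
  · rw [map_pow, pow_mul, hm]

theorem systemNormalizer_le_aux : ∀ (k : ℕ) {G : Type u} [Group G] [Finite G] [Group.IsSolvable G],
    Nat.card G ≤ k → ∀ (K : Nat.Primes → Subgroup G) (C : Subgroup G),
      Cfsg.IsComplementSystem K → Cfsg.IsCarterSubgroup C → ReducesInto K C →
      Cfsg.systemNormalizer K ≤ C := by
  intro k
  induction k with
  | zero => intro G _ _ _ h; exact absurd h (Nat.card_pos (α := G)).not_ge
  | succ k ih =>
    intro G _ _ _ hk K C hK hC hKC
    set D := Cfsg.systemNormalizer K with hD
    by_cases hnil : Group.IsNilpotent G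
    · rw [eq_top_of_isCarterSubgroup hC]; exact le_top
    have : Nontrivial G := by
      by_contra h
      have := not_nontrivial_iff_subsingleton.1 h
      exact hnil inferInstance
    obtain ⟨N, hN, hNb, hmin⟩ := exists_minimal_normal (G := G)
    obtain ⟨r, hr, hNr, -, hNab⟩ := exists_isPGroup_of_minimal_normal hNb hmin
    have := Fact.mk hr
    set π := QuotientGroup.mk' N with hπ
    have hNK : ∀ (p : Nat.Primes) (m : G), m ∈ N → (orderOf m).Coprime (p : ℕ) → m ∈ K p := by
      intro p m hm hcop
      by_cases hm1 : m = 1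
      · rw [hm1]; exact one_mem _
      obtain ⟨i, hi⟩ := IsPGroup.iff_card.1 hNr
      have hpr : (p : ℕ) ≠ r := by
        intro e
        obtain ⟨j, hj⟩ := (IsPGroup.iff_orderOf.1 hNr) ⟨m, hm⟩
        rw [Subgroup.orderOf_mk] at hj
        rcases Nat.eq_zero_or_pos j with rfl | hj0
        · exact hm1 (orderOf_eq_one_iff.1 (by simpa using hj))
        · rw [hj, Nat.coprime_pow_left_iff hj0, e, Nat.coprime_self] at hcop
          exact hr.ne_one hcop
      refine (le_of_coprime_index' (K p) N ?_) hm
      rw [hi, hK p]
      exact Nat.Coprime.pow _ _ ((Nat.coprime_primes hr p.2).2 hpr.symm)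
    -- the normalizer lies in `C ⊔ N`
    have hDU : D ≤ C ⊔ N := by
      have h1 := ih (G := G ⧸ N) (by have := card_quotient_lt hNb; omega)
        (fun p => (K p).map π) (C.map π) (isComplementSystem_map hK N)
        (isCarterSubgroup_map N hC) (fun p q hq hcop => by
          obtain ⟨c, hc, rfl⟩ := hq
          obtain ⟨n, hn, hn'⟩ := exists_pow_coprime π p.2 c hcop
          exact hn' ▸ mem_map_of_mem π (hKC p _ (pow_mem hc n) hn))
      rw [map_systemNormalizer hK N, map_le_iff_le_comap, comap_map_eq, QuotientGroup.ker_mk'] at h1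
      exact h1
    have hCn := hC.1
    have hNn : Group.IsNilpotent N := hNr.isNilpotent
    set U := C ⊔ N with hU
    have hUmul : ∀ u : U, ∃ c ∈ C.subgroupOf U, ∃ m ∈ N.subgroupOf U, u = c * m := by
      intro u
      have hu : (u : G) ∈ ((C ⊔ N : Subgroup G) : Set G) := u.2
      rw [Subgroup.mul_normal] at hu
      obtain ⟨c, hc, m, hm, e⟩ := hu
      exact ⟨⟨c, mem_sup_left hc⟩, hc, ⟨m, mem_sup_right hm⟩, hm, Subtype.ext e.symm⟩
    set L : Nat.Primes → Subgroup U := fun p => (K p).subgroupOf U with hL
    have hCU : Group.IsNilpotent (C.subgroupOf U) :=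
      (Group.isNilpotent_congr (subgroupOfEquivOfLe le_sup_left).symm).1 hCn
    have hNU : Group.IsNilpotent (N.subgroupOf U) :=
      (Group.isNilpotent_congr (subgroupOfEquivOfLe le_sup_right).symm).1 hNn
    have hLsys : Cfsg.IsComplementSystem L := by
      intro p
      refine index_eq_ordProj_of_forall p.2 (fun hd => not_dvd_card_complement hK p ?_)
        fun q hq hqp => ?_
      · exact hd.trans (card_comap_dvd_of_injective (K p) U.subtype U.subtype_injective)
      · have := Fact.mk hq
        exact not_dvd_index_of_mul_nilpotent hCU hNU hUmul p.2 hqp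
          (fun c hc hcop => hKC p c hc (by rwa [Subgroup.orderOf_coe]))
          (fun m hm hcop => hNK p m hm (by rwa [Subgroup.orderOf_coe]))
    have hLC : ReducesInto L (C.subgroupOf U) := fun p c hc hcop =>
      hKC p c hc (by rwa [Subgroup.orderOf_coe])
    by_cases hUt : U = ⊤
    · have hCt : C ≠ ⊤ := fun e => hnil <| by
        subst e; exact (Group.isNilpotent_congr topEquiv).1 hC.1
      obtain ⟨hcomp, hmax⟩ := complement_of_supplement hmin hUt hCt
      set pr : Nat.Primes := ⟨r, hr⟩ with hpr
      set R := (Cfsg.pResidual r C).map C.subtype with hR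
      have hcopR : (Nat.card R).Coprime r := by
        rw [hR, card_map_of_injective C.subtype_injective]
        exact CfsgLib.Transfer.hasNormalPComplement_iff_coprime_pResidual.1
          (Complement.hasNormalPComplement_of_isNilpotent hCn)
      have hRK : R ≤ K pr := fun x hx =>
        hKC pr x (map_subtype_le _ hx)
          (hcopR.coprime_dvd_left (Subgroup.orderOf_dvd_natCard R hx))
      have hKeq : K pr = R := by
        -- both are complements to a Sylow `r`-subgroup
        refine (eq_of_le_of_card_ge hRK ?_).symm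
        refine Nat.le_of_dvd Nat.card_pos ?_
        have hcop : (Nat.card (K pr)).Coprime r :=
          ((hr.coprime_iff_not_dvd).2 (not_dvd_card_complement hK pr)).symm
        have h1 : Nat.card (K pr) ∣ Nat.card N * (Nat.card R * R.relIndex C) := by
          have h2 : Nat.card (R.subgroupOf C) * R.relIndex C = Nat.card C := card_mul_index _
          rw [Nat.card_congr (subgroupOfEquivOfLe (map_subtype_le _)).toEquiv] at h2
          rw [h2, hcomp.card_mul_card]
          exact card_subgroup_dvd_card _
        obtain ⟨i, hi⟩ := IsPGroup.iff_card.1 hNr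
        have hidx : ∃ j, R.relIndex C = r ^ j := by
          have := CfsgLib.Transfer.pResidual_normal (G := C) (p := r)
          obtain ⟨j, hj⟩ := IsPGroup.iff_card.1
            (Transfer.isPGroup_quotient_of_pResidual_le (p := r) (N := Cfsg.pResidual r C) le_rfl)
          refine ⟨j, ?_⟩
          rw [relIndex, hR, ← comap_subtype, comap_map_eq_self_of_injective C.subtype_injective,
            index_eq_card, hj]
        obtain ⟨j, hj⟩ := hidx
        rw [hi, hj] at h1
        exact (hcop.pow_right j).dvd_of_dvd_mul_right ((hcop.pow_right i).dvd_of_dvd_mul_left h1)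
      have hCR : C ≤ normalizer (R : Set G) :=
        (normal_subgroupOf_iff_le_normalizer (map_subtype_le _)).1 (by
          rw [← comap_subtype, comap_map_eq_self_of_injective C.subtype_injective]
          exact CfsgLib.Transfer.pResidual_normal)
      rcases hmax _ hCR with e | e
      · exact (iInf_le (fun p => normalizer (K p : Set G)) pr).trans (hKeq ▸ e).le
      · exfalso
        have hRn : R.Normal := normalizer_eq_top_iff.1 e
        have hq : IsPGroup r (G ⧸ R) := by
          have h := Nat.card_pos (α := R)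
          refine IsPGroup.of_card (n := (Nat.card G).factorization r) ?_
          rw [← index_eq_card, ← hKeq]
          exact hK pr
        have := hq.isNilpotent
        refine hCt ?_
        have h2 := congrArg (Subgroup.comap (QuotientGroup.mk' R))
          (eq_top_of_isCarterSubgroup (isCarterSubgroup_map R hC))
        rwa [comap_map_eq, QuotientGroup.ker_mk', sup_eq_left.2 (map_subtype_le _), comap_top] at h2
    · have hlt : Nat.card U ≤ k := by have := card_subgroup_lt hUt; omega
      have h := ih hlt L (C.subgroupOf U) hLsys (isCarterSubgroup_subgroupOf hC le_sup_left) hLC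
      intro d hd
      refine h (x := ⟨d, hDU hd⟩) (mem_iInf.2 fun p => ?_)
      refine conj_smul_eq_self_iff.1 (map_injective U.subtype_injective ?_)
      rw [conj_smul_subtype, subgroupOf_map_subtype, Subgroup.smul_inf,
        conj_smul_eq_self_iff.2 (mem_iInf.1 hd p), conj_smul_eq_self_of_mem (hDU hd)]

theorem exists_reducing_system [Finite G] [Group.IsSolvable G] {C : Subgroup G}
    (hC : Group.IsNilpotent C) :
    ∃ K : Nat.Primes → Subgroup G, Cfsg.IsComplementSystem K ∧ ReducesInto K C := by
  have h : ∀ p : Nat.Primes, ∃ H : Subgroup G,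
      H.index = (p : ℕ) ^ (Nat.card G).factorization p ∧
        ∀ c ∈ C, (orderOf c).Coprime (p : ℕ) → c ∈ H := by
    intro p
    have := Fact.mk p.2
    set R := (Cfsg.pResidual p C).map C.subtype with hR
    have hcopR : (Nat.card R).Coprime p := by
      rw [hR, card_map_of_injective C.subtype_injective]
      exact CfsgLib.Transfer.hasNormalPComplement_iff_coprime_pResidual.1
        (Complement.hasNormalPComplement_of_isNilpotent hC)
    set e := (Nat.card G).factorization p with he
    have hG : Nat.card G = Nat.card G / (p : ℕ) ^ e * (p : ℕ) ^ e :=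
      (Nat.div_mul_cancel (Nat.ordProj_dvd _ _)).symm
    obtain ⟨H, hH, hRH⟩ := exists_hall_ge hG
      ((Nat.coprime_ordCompl p.2 Nat.card_pos.ne').symm.pow_right e) (hcopR.pow_right e)
    refine ⟨H, ?_, fun c hc hcop => hRH ⟨⟨c, hc⟩,
      CfsgLib.Transfer.mem_pResidual_of_coprime (by rwa [Subgroup.orderOf_mk]), rfl⟩⟩
    refine Nat.eq_of_mul_eq_mul_left (Nat.card_pos (α := H)) ?_
    rw [H.card_mul_index, hH]; exact hG
  choose K hK hK' using h
  exact ⟨K, hK, hK'⟩

theorem systemNormalizer_conj [Finite G] (K : Nat.Primes → Subgroup G) (g : G) :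
    Cfsg.systemNormalizer (fun p => MulAut.conj g • K p) =
      MulAut.conj g • Cfsg.systemNormalizer K := by
  ext x
  rw [mem_conj_smul, Cfsg.systemNormalizer, Cfsg.systemNormalizer, mem_iInf, mem_iInf]
  refine forall_congr' fun p => ?_
  rw [← conj_smul_eq_self_iff, ← conj_smul_eq_self_iff, conj_smul_conj_smul,
    mul_assoc g⁻¹, ← conj_smul_conj_smul g⁻¹]
  constructor
  · intro h; rw [h, conj_smul_conj_smul, inv_mul_cancel, conj_one_smul]
  · intro h
    have := congrArg (MulAut.conj g • ·) h
    rwa [conj_smul_conj_smul, mul_inv_cancel, conj_one_smul] at this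

/-- Every Carter subgroup contains a system normalizer, and every system normalizer lies in
a Carter subgroup. -/
theorem carter_systemNormalizer [Finite G] [Group.IsSolvable G] :
    (∀ C : Subgroup G, Cfsg.IsCarterSubgroup C →
      ∃ K : Nat.Primes → Subgroup G, Cfsg.IsComplementSystem K ∧ Cfsg.systemNormalizer K ≤ C) ∧
    ∀ K : Nat.Primes → Subgroup G, Cfsg.IsComplementSystem K →
      ∃ C : Subgroup G, Cfsg.IsCarterSubgroup C ∧ Cfsg.systemNormalizer K ≤ C := by
  refine ⟨fun C hC => ?_, fun L hL => ?_⟩
  · obtain ⟨K, hK, hKC⟩ := exists_reducing_system hC.1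
    exact ⟨K, hK, systemNormalizer_le_aux _ le_rfl K C hK hC hKC⟩
  · obtain ⟨C, hC⟩ := exists_isCarterSubgroup (G := G)
    obtain ⟨K, hK, hKC⟩ := exists_reducing_system hC.1
    obtain ⟨g, hg⟩ := exists_conj_complementSystem hK hL
    refine ⟨MulAut.conj g • C, isCarterSubgroup_conj hC g, ?_⟩
    rw [show L = fun p => MulAut.conj g • K p from funext fun p => (hg p).symm,
      systemNormalizer_conj]
    exact conj_smul_mono g (systemNormalizer_le_aux _ le_rfl K C hK hC hKC)

/-- For nilpotent length at most two, Carter subgroups are the system normalizers. -/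
theorem carter_iff_systemNormalizer [Finite G] (F : Subgroup G) [F.Normal]
    (hF : Group.IsNilpotent F) (hGF : Group.IsNilpotent (G ⧸ F)) (C : Subgroup G) :
    Cfsg.IsCarterSubgroup C ↔
      ∃ K : Nat.Primes → Subgroup G, Cfsg.IsComplementSystem K ∧ C = Cfsg.systemNormalizer K := by
  have : Group.IsSolvable F := by have := hF; infer_instance
  have : Group.IsSolvable (G ⧸ F) := by have := hGF; infer_instance
  have : Group.IsSolvable G :=
    Group.isSolvable_of_ker_le_range F.subtype (QuotientGroup.mk' F) (by simp)
  have key : ∀ (C : Subgroup G) (K : Nat.Primes → Subgroup G), Cfsg.IsCarterSubgroup C →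
      Cfsg.IsComplementSystem K → ReducesInto K C → C = Cfsg.systemNormalizer K := by
    intro C K hC hK hKC
    refine le_antisymm ?_ (systemNormalizer_le_aux _ le_rfl K C hK hC hKC)
    have hCF : C ⊔ F = ⊤ := by
      have h2 := congrArg (Subgroup.comap (QuotientGroup.mk' F))
        (eq_top_of_isCarterSubgroup (isCarterSubgroup_map F hC))
      rwa [comap_map_eq, QuotientGroup.ker_mk', comap_top] at h2
    have hmul : ∀ g : G, ∃ c ∈ C, ∃ m ∈ F, g = c * m := fun g => by
      have hg : g ∈ ((C ⊔ F : Subgroup G) : Set G) := by rw [hCF]; exact mem_top g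
      rw [Subgroup.mul_normal] at hg
      obtain ⟨c, hc, m, hm, e⟩ := hg
      exact ⟨c, hc, m, hm, e.symm⟩
    refine le_iInf fun p => ?_
    have := Fact.mk p.2
    -- `K p` is generated by the parts of `C` and `F` prime to `p`
    set R := (Cfsg.pResidual p C).map C.subtype with hR
    set T := (Cfsg.pResidual p F).map F.subtype with hT
    have hFcop : (Nat.card T).Coprime (p : ℕ) := by
      rw [hT, card_map_of_injective F.subtype_injective]
      exact CfsgLib.Transfer.hasNormalPComplement_iff_coprime_pResidual.1
        (Complement.hasNormalPComplement_of_isNilpotent hF)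
    have := CfsgLib.Transfer.pResidual_characteristic (G := F) (p := (p : ℕ))
    have hTn : T.Normal := map_subtype_normal (N := F) (Cfsg.pResidual p F)
    have hTK : T ≤ K p := le_of_coprime_index' (K p) T (by rw [hK p]; exact hFcop.pow_right _)
    have hRK : R ≤ K p := by
      rintro _ ⟨c, hc, rfl⟩
      refine hKC p _ c.2 ?_
      rw [Subgroup.coe_subtype, Subgroup.orderOf_coe]
      exact (CfsgLib.Transfer.hasNormalPComplement_iff_coprime_pResidual.1
        (Complement.hasNormalPComplement_of_isNilpotent hC.1)).coprime_dvd_left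
        (Subgroup.orderOf_dvd_natCard _ hc)
    have heq : R ⊔ T = K p := by
      have hle : R ⊔ T ≤ K p := sup_le hRK hTK
      refine eq_of_le_of_card_ge hle (le_of_eq ?_)
      have hi : (R ⊔ T).index = (K p).index := by
        rw [hK p]
        refine index_eq_ordProj_of_forall p.2
          (fun hd => not_dvd_card_complement hK p (hd.trans (card_dvd_of_le hle))) fun q hq hqp => ?_
        have := Fact.mk hq
        exact not_dvd_index_of_mul_nilpotent hC.1 hF hmul p.2 hqp
          (fun c hc hcop => mem_sup_left ⟨⟨c, hc⟩,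
            CfsgLib.Transfer.mem_pResidual_of_coprime (by rwa [Subgroup.orderOf_mk]), rfl⟩)
          (fun c hc hcop => mem_sup_right ⟨⟨c, hc⟩,
            CfsgLib.Transfer.mem_pResidual_of_coprime (by rwa [Subgroup.orderOf_mk]), rfl⟩)
      refine Nat.eq_of_mul_eq_mul_right (Nat.pos_of_ne_zero (index_ne_zero_of_finite (H := K p))) ?_
      rw [(K p).card_mul_index, ← hi, (R ⊔ T).card_mul_index]
    intro c hc
    rw [← heq]
    refine conj_smul_eq_self_iff.1 ?_
    rw [smul_sup, Subgroup.Normal.conj_smul_eq_self c T]
    congr 1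
    refine conj_smul_eq_self_iff.2 ((normal_subgroupOf_iff_le_normalizer (map_subtype_le _)).1 ?_ hc)
    rw [← comap_subtype, comap_map_eq_self_of_injective C.subtype_injective]
    exact CfsgLib.Transfer.pResidual_normal
  constructor
  · intro hC
    obtain ⟨K, hK, hKC⟩ := exists_reducing_system hC.1
    exact ⟨K, hK, key C K hC hK hKC⟩
  · rintro ⟨L, hL, rfl⟩
    obtain ⟨C, hC⟩ := exists_isCarterSubgroup (G := G)
    obtain ⟨K, hK, hKC⟩ := exists_reducing_system hC.1
    obtain ⟨g, hg⟩ := exists_conj_complementSystem hK hL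
    rw [show L = fun p => MulAut.conj g • K p from funext fun p => (hg p).symm,
      systemNormalizer_conj, ← key C K hC hK hKC]
    exact isCarterSubgroup_conj hC g

end CfsgLib.Solvable
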