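import Cfsg.Agent.Lib.Solvable.HallSystem
import Cfsg.Agent.Lib.Solvable.MinNormal
import Cfsg.Agent.Lib.Solvable.Nilpotent
import Mathlib.Tactic.Group

/-!
System normalizers: their normal closure, covering and avoidance of chief factors.
-/

set_option autoImplicit false

namespace CfsgLib.Solvable

open Subgroup
open scoped Pointwise commutatorElement

variable {G : Type*} [Group G]

theorem normalClosure_systemNormalizer [Finite G] [Group.IsSolvable G]
    {K : Nat.Primes → Subgroup G} (hK : Cfsg.IsComplementSystem K) :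
    Subgroup.normalClosure ((Cfsg.systemNormalizer K : Subgroup G) : Set G) = ⊤ := by
  by_contra hne
  set M := Subgroup.normalClosure ((Cfsg.systemNormalizer K : Subgroup G) : Set G) with hM
  set π := QuotientGroup.mk' M
  have hπ : Function.Surjective π := QuotientGroup.mk'_surjective M
  have : Nontrivial (G ⧸ M) := QuotientGroup.nontrivial_iff.mpr hne
  have hlt : commutator (G ⧸ M) < ⊤ := Group.IsSolvable.commutator_lt_top_of_nontrivial _
  set M' := (commutator (G ⧸ M)).comap π with hM'
  have hM'n : M'.Normal := inferInstance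
  have hMM : M ≤ M' := fun x hx => by
    simp [hM', π, (QuotientGroup.eq_one_iff x).mpr hx]
  have hbot : (Cfsg.systemNormalizer K).map (QuotientGroup.mk' M') = ⊥ := by
    rw [Subgroup.map_eq_bot_iff, QuotientGroup.ker_mk']
    exact Subgroup.subset_normalClosure.trans hMM
  rw [← map_systemNormalizer hK M'] at hbot
  have htop : Cfsg.systemNormalizer (fun p => (K p).map (QuotientGroup.mk' M')) = ⊤ := by
    refine eq_top_iff.mpr fun q _ => ?_
    simp only [Cfsg.systemNormalizer, Subgroup.mem_iInf, ← conj_smul_eq_self_iff]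
    intro p
    obtain ⟨g, rfl⟩ := QuotientGroup.mk'_surjective M' q
    ext y
    obtain ⟨y, rfl⟩ := QuotientGroup.mk'_surjective M' y
    have hcomm : QuotientGroup.mk' M' g * QuotientGroup.mk' M' y
        = QuotientGroup.mk' M' y * QuotientGroup.mk' M' g := by
      rw [← map_mul, ← map_mul]
      refine QuotientGroup.eq.mpr ?_
      rw [hM', Subgroup.mem_comap]
      have : π ((g * y)⁻¹ * (y * g)) = ⁅(π y)⁻¹, (π g)⁻¹⁆ := by
        rw [map_mul, map_inv, map_mul, map_mul, commutatorElement_def]; group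
      rw [this]
      exact Subgroup.commutator_mem_commutator (Subgroup.mem_top _) (Subgroup.mem_top _)
    rw [mem_conj_smul, mul_assoc, ← hcomm, inv_mul_cancel_left]
  rw [htop] at hbot
  refine hlt.ne (eq_top_iff.mpr fun q _ => ?_)
  obtain ⟨g, rfl⟩ := hπ q
  have h1 : QuotientGroup.mk' M' g = 1 :=
    Subgroup.mem_bot.mp (hbot ▸ Subgroup.mem_top (QuotientGroup.mk' M' g))
  exact Subgroup.mem_comap.mp ((QuotientGroup.eq_one_iff g).mp h1)

/-- A noncentral minimal normal subgroup avoids the system normalizer. -/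
theorem minimal_normal_inf_systemNormalizer [Finite G] [Group.IsSolvable G]
    {K : Nat.Primes → Subgroup G} (hK : Cfsg.IsComplementSystem K) {N : Subgroup G} [hN : N.Normal]
    (hne : N ≠ ⊥) (hmin : ∀ L : Subgroup G, L.Normal → L ≤ N → L = ⊥ ∨ L = N)
    (hnc : centralizer (N : Set G) ≠ ⊤) : N ⊓ Cfsg.systemNormalizer K = ⊥ := by
  obtain ⟨p, hp, hNp, -, hab⟩ := exists_isPGroup_of_minimal_normal hne hmin
  have : Fact p.Prime := ⟨hp⟩
  set pp : Nat.Primes := ⟨p, hp⟩
  set C := centralizer (N : Set G) with hC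
  have hCn : C.Normal := inferInstance
  set π := QuotientGroup.mk' C with hπdef
  have hπ : Function.Surjective π := QuotientGroup.mk'_surjective C
  have : Nontrivial (G ⧸ C) := QuotientGroup.nontrivial_iff.mpr hnc
  obtain ⟨R, hR, hRne, hRmin⟩ := exists_minimal_normal (G := G ⧸ C)
  obtain ⟨r, hr, hRr, -, -⟩ := exists_isPGroup_of_minimal_normal hRne hRmin
  have : Fact r.Prime := ⟨hr⟩
  set R₀ := R.comap π with hR₀
  have hR₀n : R₀.Normal := inferInstance
  have hCR : C ≤ R₀ := fun x hx => by simp [hR₀, π, (QuotientGroup.eq_one_iff x).mpr hx]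
  have hno : N ⊓ centralizer (R₀ : Set G) = ⊥ := by
    rcases hmin (N ⊓ centralizer (R₀ : Set G)) inferInstance inf_le_left with h | h
    · exact h
    · exfalso
      apply hRne
      rw [← Subgroup.map_comap_eq_self_of_surjective hπ R, Subgroup.map_eq_bot_iff, hπdef,
        QuotientGroup.ker_mk']
      intro x hx
      rw [hC, Subgroup.mem_centralizer_iff]
      intro n hn
      have hn2 : n ∈ centralizer (R₀ : Set G) := (inf_eq_left.mp h) hn
      exact (Subgroup.mem_centralizer_iff.mp hn2 x hx).symm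
  have hrp : r ≠ p := by
    rintro rfl
    obtain ⟨P⟩ := (inferInstance : Nonempty (Sylow r R₀))
    set P' := (P : Subgroup R₀).map R₀.subtype with hP'
    have hP'R : P' ≤ R₀ := Subgroup.map_subtype_le _
    have hgen : R₀ ≤ P' ⊔ C := by
      have e1 : (P' ⊔ C).relIndex R₀ ∣ P'.relIndex R₀ := Subgroup.relIndex_dvd_of_le_left R₀ le_sup_left
      have e2 : (P' ⊔ C).relIndex R₀ ∣ C.relIndex R₀ := Subgroup.relIndex_dvd_of_le_left R₀ le_sup_right
      have e3 : ¬ r ∣ P'.relIndex R₀ := by
        have : P'.subgroupOf R₀ = (P : Subgroup R₀) :=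
          Subgroup.comap_map_eq_self_of_injective R₀.subtype_injective _
        rw [Subgroup.relIndex, this]
        exact P.not_dvd_index
      obtain ⟨k, hk⟩ := hRr.exists_card_eq
      have e4 : C.relIndex R₀ = r ^ k := by
        rw [← hk, ← Subgroup.relIndex_bot_left R, ← Subgroup.map_comap_eq_self_of_surjective hπ R,
          ← Subgroup.relIndex_comap, MonoidHom.comap_bot, hπdef, QuotientGroup.ker_mk']
      obtain ⟨i, -, hi⟩ := (Nat.dvd_prime_pow hp).mp (e4 ▸ e2)
      refine Subgroup.relIndex_eq_one.mp ?_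
      rw [hi]
      rcases Nat.eq_zero_or_pos i with h0 | h0
      · rw [h0, pow_zero]
      · exact absurd ((hi ▸ dvd_pow_self r h0.ne').trans e1) e3
    set Q := P' ⊔ N with hQ
    have hQp : IsPGroup r Q := IsPGroup.to_sup_of_normal_right (P.2.map _) hNp
    have : Group.IsNilpotent Q := hQp.isNilpotent
    have hNQ : N ≤ Q := le_sup_right
    have hne' : N.subgroupOf Q ≠ ⊥ := by
      rw [Ne, Subgroup.subgroupOf_eq_bot, disjoint_iff, inf_eq_left.mpr hNQ]
      exact hne
    obtain ⟨⟨z, hz⟩, hz1'⟩ := (Subgroup.ne_bot_iff_exists_ne_one).mp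
      (normal_inf_center_ne_bot (N.subgroupOf Q) hne')
    have hz1 : z ≠ 1 := fun h => hz1' (Subtype.ext h)
    obtain ⟨hzN, hzc⟩ := hz
    have hzR : (z : G) ∈ centralizer (R₀ : Set G) := by
      have hle : P' ⊔ C ≤ centralizer ({(z : G)} : Set G) := by
        refine sup_le (fun x hx => ?_) (fun x hx => ?_)
        · rw [Subgroup.mem_centralizer_singleton_iff]
          have h2 := Subgroup.mem_center_iff.mp hzc ⟨x, Subgroup.mem_sup_left hx⟩
          exact congrArg Subtype.val h2
        · rw [Subgroup.mem_centralizer_singleton_iff]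
          exact (Subgroup.mem_centralizer_iff.mp hx z hzN).symm
      rw [Subgroup.mem_centralizer_iff]
      intro x hx
      exact Subgroup.mem_centralizer_singleton_iff.mp (hle (hgen hx))
    have hmem : (z : G) ∈ N ⊓ centralizer (R₀ : Set G) := ⟨hzN, hzR⟩
    rw [hno, Subgroup.mem_bot] at hmem
    exact hz1 (Subtype.ext hmem)
  rw [eq_bot_iff]
  rintro x ⟨hxN, hxT⟩
  have hxN' : x ∈ N := hxN
  have hxK : K pp ⊔ C ≤ centralizer ({x} : Set G) := by
    refine sup_le (fun k hk => ?_) (fun k hk => ?_)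
    · rw [Subgroup.mem_centralizer_singleton_iff]
      have hnorm : x ∈ normalizer (K pp : Set G) := iInf_le (fun q => normalizer (K q : Set G)) pp hxT
      have h1 : x * k * x⁻¹ * k⁻¹ ∈ N := by
        rw [show x * k * x⁻¹ * k⁻¹ = x * (k * x⁻¹ * k⁻¹) by group]
        exact N.mul_mem hxN' (hN.conj_mem _ (N.inv_mem hxN') k)
      have h2 : x * k * x⁻¹ * k⁻¹ ∈ K pp :=
        (K pp).mul_mem ((Subgroup.mem_normalizer_iff.mp hnorm k).mp hk) ((K pp).inv_mem hk)
      have hdis : Disjoint N (K pp) := by
        obtain ⟨a, ha⟩ := hNp.exists_card_eq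
        refine Subgroup.disjoint_of_coprime_natCard ?_
        rw [ha]
        exact Nat.Coprime.pow_left _ (hp.coprime_iff_not_dvd.mpr (not_dvd_card_complement hK pp))
      have h3 : x * k * x⁻¹ * k⁻¹ = 1 := Subgroup.disjoint_def.mp hdis h1 h2
      calc k * x = (x * k * x⁻¹ * k⁻¹) * (k * x) := by rw [h3, one_mul]
        _ = x * k := by group
    · rw [Subgroup.mem_centralizer_singleton_iff]
      exact (Subgroup.mem_centralizer_iff.mp hk x hxN').symm
  have hR₀le : R₀ ≤ K pp ⊔ C := by
    have h1 : ((K pp).map π).relIndex R ∣ p ^ (Nat.card G).factorization p := by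
      refine ((relIndex_dvd_index_of_normal' _ R).trans (Subgroup.index_map_dvd _ hπ)).trans ?_
      rw [hK pp]
    have h2 : ((K pp).map π).relIndex R ∣ Nat.card R := Subgroup.relIndex_dvd_card _ _
    obtain ⟨b, hb⟩ := hRr.exists_card_eq
    rw [hb] at h2
    have h4 : R ≤ (K pp).map π := Subgroup.relIndex_eq_one.mp
      (Nat.eq_one_of_dvd_coprimes (Nat.Coprime.pow _ _ ((Nat.coprime_primes hp hr).mpr hrp.symm)) h1 h2)
    have h5 := Subgroup.comap_mono (f := π) h4
    rwa [Subgroup.comap_map_eq, hπdef, QuotientGroup.ker_mk'] at h5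
  have hmem : x ∈ N ⊓ centralizer (R₀ : Set G) := by
    refine ⟨hxN', ?_⟩
    refine Subgroup.mem_centralizer_iff.mpr fun y hy => ?_
    exact Subgroup.mem_centralizer_singleton_iff.mp (hxK (hR₀le hy))
  rwa [hno] at hmem

theorem chiefFactor_cover_avoid [Finite G] [Group.IsSolvable G] {K : Nat.Primes → Subgroup G}
    (hK : Cfsg.IsComplementSystem K) (A B : Subgroup G) [A.Normal] [B.Normal] (hAB : A < B)
    (hchief : ∀ N : Subgroup G, N.Normal → A ≤ N → N ≤ B → N = A ∨ N = B) :
    (⁅B, (⊤ : Subgroup G)⁆ ≤ A → B ≤ A ⊔ Cfsg.systemNormalizer K) ∧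
      (¬ ⁅B, (⊤ : Subgroup G)⁆ ≤ A → B ⊓ Cfsg.systemNormalizer K ≤ A) := by
  set π := QuotientGroup.mk' A with hπdef
  have hπ : Function.Surjective π := QuotientGroup.mk'_surjective A
  set B' := B.map π with hB'
  have hB'n : B'.Normal := Subgroup.Normal.map inferInstance π hπ
  have hcom : ⁅B', (⊤ : Subgroup (G ⧸ A))⁆ = (⁅B, (⊤ : Subgroup G)⁆).map π := by
    rw [Subgroup.map_commutator, Subgroup.map_top_of_surjective _ hπ]
  constructor
  · intro hc
    have hle : B' ≤ Cfsg.systemNormalizer (fun p => (K p).map π) := by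
      refine le_iInf fun p => ?_
      intro b hb
      rw [← conj_smul_eq_self_iff]
      ext y
      rw [mem_conj_smul]
      have hcy : ⁅b, y⁆ = 1 := by
        have : ⁅b, y⁆ ∈ ⁅B', (⊤ : Subgroup (G ⧸ A))⁆ :=
          Subgroup.commutator_mem_commutator hb (Subgroup.mem_top y)
        rw [hcom, (Subgroup.map_eq_bot_iff (f := π) _).mpr (by rwa [hπdef, QuotientGroup.ker_mk']),
          Subgroup.mem_bot] at this
        exact this
      rw [commutatorElement_eq_one_iff_mul_comm] at hcy
      rw [mul_assoc, ← hcy, inv_mul_cancel_left]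
    rw [map_systemNormalizer hK A] at hle
    have h := Subgroup.comap_mono (f := π) hle
    rw [Subgroup.comap_map_eq, hπdef, QuotientGroup.ker_mk', sup_comm] at h
    exact le_sup_right.trans (h.trans (by rw [Subgroup.comap_map_eq, QuotientGroup.ker_mk', sup_comm]))
  · intro hnc
    have hne : B' ≠ ⊥ := by
      rw [hB', Ne, Subgroup.map_eq_bot_iff, hπdef, QuotientGroup.ker_mk']
      exact hAB.not_ge
    have hmin : ∀ L : Subgroup (G ⧸ A), L.Normal → L ≤ B' → L = ⊥ ∨ L = B' := by
      intro L hL hLB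
      have hAL : A ≤ L.comap π := fun x hx => by simp [π, (QuotientGroup.eq_one_iff x).mpr hx]
      have hLB' : L.comap π ≤ B := by
        refine (Subgroup.comap_mono hLB).trans ?_
        rw [Subgroup.comap_map_eq, hπdef, QuotientGroup.ker_mk']
        exact sup_le le_rfl hAB.le
      rcases hchief _ (hL.comap _) hAL hLB' with h | h
      · left
        rw [← Subgroup.map_comap_eq_self_of_surjective hπ L, h, hπdef, QuotientGroup.map_mk'_self]
      · right
        rw [← Subgroup.map_comap_eq_self_of_surjective hπ L, h]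
    have hnc' : centralizer (B' : Set (G ⧸ A)) ≠ ⊤ := by
      intro hc
      apply hnc
      have hb : ⁅B', (⊤ : Subgroup (G ⧸ A))⁆ = ⊥ := by
        rw [Subgroup.commutator_eq_bot_iff_le_centralizer, Subgroup.le_centralizer_iff, hc]
      rw [hcom, Subgroup.map_eq_bot_iff, hπdef, QuotientGroup.ker_mk'] at hb
      exact hb
    have h := minimal_normal_inf_systemNormalizer (isComplementSystem_map hK A) hne hmin hnc'
    rw [map_systemNormalizer hK A] at h
    intro x hx
    have hmem : π x ∈ B' ⊓ (Cfsg.systemNormalizer K).map π :=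
      ⟨Subgroup.mem_map_of_mem _ hx.1, Subgroup.mem_map_of_mem _ hx.2⟩
    rw [h, Subgroup.mem_bot] at hmem
    exact (QuotientGroup.eq_one_iff x).mp hmem

end CfsgLib.Solvable
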