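import Cfsg.Agent.Lib.Solvable.KegelLemma
import Cfsg.Agent.Lib.Solvable.NilpotentHall
import Cfsg.Agent.Lib.Solvable.HallHigman
import Cfsg.Agent.Lib.Solvable.Nilpotent
import Cfsg.Agent.Lib.Coprime.Sylow

/-!
# Products of two nilpotent subgroups of coprime orders: local analysis

The properties of a hypothetical simple group `G = A B` with `A`, `B` nilpotent of coprime orders,
all of whose proper factorized subgroups are solvable.
-/

namespace CfsgLib.Solvable

open Subgroup
open scoped Pointwise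

variable {G : Type*} [Group G] [Finite G]

omit [Finite G] in
theorem exists_mem_ne_one_of_ne_bot {H : Subgroup G} (h : H ≠ ⊥) : ∃ x ∈ H, x ≠ 1 := by
  by_contra hall
  push Not at hall
  exact h (H.eq_bot_iff_forall.2 hall)

/-- A normal subgroup of order prime to the index of `K` lies in `K`. -/
theorem le_of_coprime_relIndex {L K U : Subgroup G} (hUL : U ≤ L)
    (hLU : L ≤ normalizer (U : Set G)) (h : (Nat.card U).Coprime (K.relIndex L)) : U ≤ K := by
  have hn : (U.subgroupOf L).Normal := by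
    rw [normal_subgroupOf_iff hUL]
    exact fun a b ha hb => (mem_normalizer_iff.1 (hLU hb) a).1 ha
  have h1 := relIndex_dvd_index_of_normal' (K.subgroupOf L) (U.subgroupOf L)
  rw [relIndex_subgroupOf hUL, ← relIndex] at h1
  refine relIndex_eq_one.1 (Nat.eq_one_of_dvd_coprimes h ?_ h1)
  rw [relIndex]
  exact index_dvd_card _

/-- A Sylow subgroup normalizing another one is equal to it. -/
theorem sylow_eq_of_le_normalizer {p : ℕ} [Fact p.Prime] {P Q : Sylow p G}
    (h : (P : Subgroup G) ≤ normalizer ((Q : Subgroup G) : Set G)) : P = Q := by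
  obtain ⟨n, hn⟩ := MulAction.exists_smul_eq (normalizer ((Q : Subgroup G) : Set G))
    (Q.subtype le_normalizer) (P.subtype h)
  rw [Sylow.smul_subtype le_normalizer] at hn
  have h1 := Sylow.subtype_injective hn
  rw [Submonoid.smul_def, Sylow.smul_eq_iff_mem_normalizer.2 n.2] at h1
  exact h1.symm

omit [Finite G] in
theorem mem_sylow_of_mem_normalizer {p : ℕ} [Fact p.Prime] (Q : Sylow p G) {x : G}
    (hx : IsPGroup p (zpowers x)) (hxN : x ∈ normalizer ((Q : Subgroup G) : Set G)) : x ∈ Q := by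
  have h1 : IsPGroup p ((Q : Subgroup G) ⊔ zpowers x : Subgroup G) :=
    Q.2.to_sup_of_normal_left' hx ((zpowers_le).2 hxN)
  have h2 := Q.3 h1 le_sup_left
  exact (h2 ▸ mem_sup_right (mem_zpowers x) : x ∈ (Q : Subgroup G))

/-- In a solvable group an `r`-element centralizing every `O_t` lies in `O_r`. -/
theorem mem_pCore_of_forall_commute [Group.IsSolvable G] {r : ℕ} [Fact r.Prime] {x : G}
    (hx : IsPGroup r (zpowers x))
    (h : ∀ t, t.Prime → ∀ u ∈ Cfsg.pCore t G, Commute x u) : x ∈ Cfsg.pCore r G := by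
  set F := Cfsg.fittingSubgroup G with hF
  have hxF : x ∈ F := by
    refine centralizer_fittingSubgroup_le (mem_centralizer_iff.2 fun u hu => ?_)
    have hle : F ≤ centralizer {x} := by
      rw [hF, fittingSubgroup_eq_iSup_pCore]
      exact iSup_le fun t u hu => mem_centralizer_singleton_iff.2 (h t t.2 u hu).eq.symm
    exact mem_centralizer_singleton_iff.1 (hle hu)
  have := fittingSubgroup_normal G
  have : Group.IsNilpotent F := fittingSubgroup_isNilpotent
  obtain ⟨T, hT⟩ := (hx.comap_of_injective F.subtype F.subtype_injective).exists_le_sylow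
  have hTn : (T : Subgroup F).Normal :=
    T.normal_of_normalizerCondition Group.normalizerCondition_of_isNilpotent
  exact map_pCore_le r F ⟨⟨x, hxF⟩, le_pCore hTn T.2 (hT (mem_zpowers x)), rfl⟩

/-- A hypothetical simple product of two nilpotent subgroups of coprime orders. -/
structure CoprimeFactors (A B : Subgroup G) : Prop where
  normal : ∀ N : Subgroup G, N.Normal → N = ⊥ ∨ N = ⊤
  nilA : Group.IsNilpotent A
  nilB : Group.IsNilpotent B
  cop : (Nat.card A).Coprime (Nat.card B)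
  prod : ∀ g : G, ∃ a ∈ A, ∃ b ∈ B, g = a * b
  solv : ∀ L : Subgroup G, L ≠ ⊤ → (∀ g ∈ L, ∃ a ∈ L ⊓ A, ∃ b ∈ L ⊓ B, g = a * b) →
    Group.IsSolvable L
  twoA : ∀ p : ℕ, ∃ r, r.Prime ∧ r ≠ p ∧ r ∣ Nat.card A
  twoB : ∀ p : ℕ, ∃ r, r.Prime ∧ r ≠ p ∧ r ∣ Nat.card B

namespace CoprimeFactors

variable {A B : Subgroup G}

omit [Finite G] in
theorem symm_fact {L : Subgroup G} {X Y : Subgroup G}
    (h : ∀ g ∈ L, ∃ a ∈ X, ∃ b ∈ Y, g = a * b) : ∀ g ∈ L, ∃ b ∈ Y, ∃ a ∈ X, g = b * a := by
  intro g hg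
  obtain ⟨a, ha, b, hb, e⟩ := h g⁻¹ (inv_mem hg)
  exact ⟨b⁻¹, inv_mem hb, a⁻¹, inv_mem ha, by rw [← mul_inv_rev, ← e, inv_inv]⟩

omit [Finite G] in
theorem symm (h : CoprimeFactors A B) : CoprimeFactors B A where
  normal := h.normal
  nilA := h.nilB
  nilB := h.nilA
  cop := h.cop.symm
  prod g := symm_fact (L := ⊤) (fun g _ => h.prod g) g (mem_top g)
  solv L hL hfac := h.solv L hL (symm_fact hfac)
  twoA := h.twoB
  twoB := h.twoA

omit [Finite G] in
theorem inf_eq_bot (h : CoprimeFactors A B) : A ⊓ B = ⊥ :=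
  disjoint_iff.1 (disjoint_of_coprime_natCard h.cop)

theorem card_eq (h : CoprimeFactors A B) : Nat.card G = Nat.card A * Nat.card B := by
  have := (forall_exists_mul_iff_card A B).1 h.prod
  rwa [h.inf_eq_bot, card_bot, mul_one] at this

theorem index_eq (h : CoprimeFactors A B) : A.index = Nat.card B :=
  Nat.eq_of_mul_eq_mul_left Nat.card_pos (by rw [A.card_mul_index, h.card_eq])

theorem hall (h : CoprimeFactors A B) : (Nat.card A).Coprime A.index := h.index_eq ▸ h.cop

omit [Finite G] in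
theorem ne_bot (h : CoprimeFactors A B) : A ≠ ⊥ := by
  rintro rfl
  obtain ⟨r, hr, -, hrA⟩ := h.twoA 0
  rw [card_bot] at hrA
  exact hr.not_dvd_one hrA

omit [Finite G] in
theorem ne_top (h : CoprimeFactors A B) : A ≠ ⊤ := by
  rintro rfl
  refine h.symm.ne_bot ?_
  simpa using h.inf_eq_bot

omit [Finite G] in
theorem normalizer_ne_top (h : CoprimeFactors A B) {T : Subgroup G} (h1 : T ≠ ⊥) (h2 : T ≠ ⊤) :
    normalizer (T : Set G) ≠ ⊤ := fun hT =>
  (h.normal T (normalizer_eq_top_iff.1 hT)).elim h1 h2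

theorem exists_sylow (h : CoprimeFactors A B) {p : ℕ} [Fact p.Prime] (hp : p ∣ Nat.card A) :
    ∃ Q : Sylow p G, (Q : Subgroup G) ≤ A ∧ (Q : Subgroup G) ≠ ⊥ ∧
      A ≤ normalizer ((Q : Subgroup G) : Set G) ∧
      ∀ a ∈ A, (orderOf a).Coprime p → a ∈ centralizer ((Q : Subgroup G) : Set G) := by
  have := h.nilA
  obtain ⟨Q, hQA, hQ⟩ := exists_sylow_le_centralized A h.hall hp
  refine ⟨Q, hQA, Q.ne_bot_of_dvd_card (hp.trans A.card_subgroup_dvd_card), ?_, hQ⟩
  have hn := (Q.subtype hQA).normal_of_normalizerCondition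
    Group.normalizerCondition_of_isNilpotent
  rw [Sylow.coe_subtype] at hn
  exact (normal_subgroupOf_iff_le_normalizer hQA).1 hn

/-- The unique Sylow subgroup of `A`. -/
theorem sylow_eq (h : CoprimeFactors A B) {p : ℕ} [Fact p.Prime] {P Q : Sylow p G}
    (hp : p ∣ Nat.card A) (hP : (P : Subgroup G) ≤ A) (hQ : (Q : Subgroup G) ≤ A) : P = Q := by
  obtain ⟨R, -, -, hR, -⟩ := h.exists_sylow hp
  rw [sylow_eq_of_le_normalizer (hP.trans hR), sylow_eq_of_le_normalizer (hQ.trans hR)]

theorem exists_central (h : CoprimeFactors A B) {p : ℕ} [Fact p.Prime] (hp : p ∣ Nat.card A) :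
    ∃ z ∈ A, z ≠ 1 ∧ A ≤ centralizer {z} ∧ IsPGroup p (zpowers z) := by
  have := h.nilA
  let T : Sylow p A := default
  have hTn : (T : Subgroup A).Normal :=
    T.normal_of_normalizerCondition Group.normalizerCondition_of_isNilpotent
  have hne := normal_inf_center_ne_bot (T : Subgroup A) (T.ne_bot_of_dvd_card hp)
  obtain ⟨z, hz, hz1⟩ := exists_mem_ne_one_of_ne_bot hne
  refine ⟨z, z.2, fun e => hz1 (Subtype.ext e), fun a ha => ?_, ?_⟩
  · exact mem_centralizer_singleton_iff.2
      (congrArg Subtype.val (mem_center_iff.1 hz.2 ⟨a, ha⟩))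
  · rw [← coe_subtype, ← MonoidHom.map_zpowers]
    exact ((T.2.to_le ((zpowers_le).2 hz.1))).map _

omit [Finite G] in
/-- A proper subgroup containing `A` contains no central element of `B`. -/
theorem eq_top_of_le (h : CoprimeFactors A B) {X : Subgroup G} (hAX : A ≤ X) {w : G}
    (hwB : B ≤ centralizer {w}) (hw : w ≠ 1) (hwX : w ∈ X) : X = ⊤ := by
  have hle : normalClosure {w} ≤ X := by
    refine (Subgroup.closure_le _).2 fun c hc => ?_
    obtain ⟨c', hc', hcw⟩ := Group.mem_conjugatesOfSet_iff.1 hc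
    rw [Set.mem_singleton_iff] at hc'
    rw [hc'] at hcw
    obtain ⟨g, rfl⟩ := isConj_iff.1 hcw
    obtain ⟨a, ha, b, hb, rfl⟩ := h.prod g
    have hbw := mem_centralizer_singleton_iff.1 (hwB hb)
    have : a * b * w * (a * b)⁻¹ = a * w * a⁻¹ := by
      rw [mul_assoc a b w, hbw]; group
    rw [SetLike.mem_coe, this]
    exact mul_mem (mul_mem (hAX ha) hwX) (inv_mem (hAX ha))
  refine top_le_iff.1 ?_
  rcases h.normal (normalClosure {w}) normalClosure_normal with e | e
  · have hm : w ∈ normalClosure {w} := subset_normalClosure (Set.mem_singleton w)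
    rw [e, mem_bot] at hm
    exact absurd hm hw
  · exact e ▸ hle

/-- Normalizers of joins of normal subgroups of the factors. -/
theorem normalizer_sup (h : CoprimeFactors A B) {A₀ B₀ : Subgroup G} (hA : A₀ ≤ A)
    (hAn : A ≤ normalizer (A₀ : Set G)) (hB : B₀ ≤ B) (hBn : B ≤ normalizer (B₀ : Set G))
    (hne : A₀ ⊔ B₀ ≠ ⊥) (hne' : A₀ ⊔ B₀ ≠ ⊤) :
    normalizer ((A₀ ⊔ B₀ : Subgroup G) : Set G) ≠ ⊤ ∧
      (∀ g ∈ normalizer ((A₀ ⊔ B₀ : Subgroup G) : Set G),
        ∃ a ∈ normalizer ((A₀ ⊔ B₀ : Subgroup G) : Set G) ⊓ A,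
          ∃ b ∈ normalizer ((A₀ ⊔ B₀ : Subgroup G) : Set G) ⊓ B, g = a * b) :=
  ⟨h.normalizer_ne_top hne hne', fun _ hg => normalizer_sup_factorized h.prod hA
    ((normal_subgroupOf_iff_le_normalizer hA).2 hAn) hB
    ((normal_subgroupOf_iff_le_normalizer hB).2 hBn) hg⟩

theorem card_factorized (h : CoprimeFactors A B) {L : Subgroup G}
    (hfac : ∀ g ∈ L, ∃ a ∈ L ⊓ A, ∃ b ∈ L ⊓ B, g = a * b) :
    Nat.card L = Nat.card (L ⊓ A : Subgroup G) * Nat.card (L ⊓ B : Subgroup G) ∧
      A.relIndex L = Nat.card (L ⊓ B : Subgroup G) := by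
  have hset : (L : Set G) = ((L ⊓ A : Subgroup G) : Set G) * ((L ⊓ B : Subgroup G) : Set G) := by
    ext g
    constructor
    · intro hg
      obtain ⟨a, ha, b, hb, e⟩ := hfac g hg
      exact ⟨a, ha, b, hb, e.symm⟩
    · rintro ⟨a, ha, b, hb, rfl⟩
      exact mul_mem ha.1 hb.1
  have h1 := card_mul_set_mul_card_inf (L ⊓ A) (L ⊓ B)
  rw [← hset, show (L ⊓ A) ⊓ (L ⊓ B) = (⊥ : Subgroup G) from
      le_bot_iff.1 ((inf_le_inf inf_le_right inf_le_right).trans h.inf_eq_bot.le),
    card_bot, mul_one] at h1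
  refine ⟨h1, Nat.eq_of_mul_eq_mul_left (Nat.card_pos (α := (L ⊓ A : Subgroup G))) ?_⟩
  rw [← inf_relIndex_left L A]
  have h2 : Nat.card ((L ⊓ A).subgroupOf L) * (L ⊓ A).relIndex L = Nat.card L :=
    card_mul_index _
  rw [Nat.card_congr (subgroupOfEquivOfLe inf_le_left).toEquiv, inf_relIndex_left] at h2
  rw [inf_relIndex_left]
  exact h2.trans h1

theorem core_le (h : CoprimeFactors A B) {L : Subgroup G}
    (hfac : ∀ g ∈ L, ∃ a ∈ L ⊓ A, ∃ b ∈ L ⊓ B, g = a * b) {r : ℕ} (hr : r.Prime)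
    (hrB : ¬ r ∣ Nat.card B) : (Cfsg.pCore r L).map L.subtype ≤ A := by
  have := Fact.mk hr
  have := pCore_normal r L
  refine le_of_coprime_relIndex (L := L) (map_subtype_le _) ?_ ?_
  · refine (normal_subgroupOf_iff_le_normalizer (map_subtype_le _)).1 ?_
    rw [← comap_subtype, comap_map_eq_self_of_injective L.subtype_injective]
    infer_instance
  · obtain ⟨i, hi⟩ := IsPGroup.iff_card.1 ((pCore_isPGroup (G := L) r).map L.subtype)
    rw [hi, (h.card_factorized hfac).2]
    exact ((hr.coprime_iff_not_dvd.2 hrB).pow_left i).coprime_dvd_right (card_dvd_of_le inf_le_right)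

/-- `A_s` and `B_u` lie in no proper subgroup. -/
theorem eq_top_of_sylow_sylow (h : CoprimeFactors A B) {s u : ℕ} [Fact s.Prime] [Fact u.Prime]
    {Q : Sylow s G} {R : Sylow u G} (hQA : (Q : Subgroup G) ≤ A) (hQ : (Q : Subgroup G) ≠ ⊥)
    (hQn : A ≤ normalizer ((Q : Subgroup G) : Set G))
    (hRB : (R : Subgroup G) ≤ B) (hR : (R : Subgroup G) ≠ ⊥)
    (hRn : B ≤ normalizer ((R : Subgroup G) : Set G)) {X : Subgroup G}
    (hQX : (Q : Subgroup G) ≤ X) (hRX : (R : Subgroup G) ≤ X) : X = ⊤ := by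
  by_contra hX
  set H := (Q : Subgroup G) ⊔ (R : Subgroup G) with hH
  have hHX : H ≤ X := sup_le hQX hRX
  obtain ⟨hLtop, hfac⟩ := h.normalizer_sup hQA hQn hRB hRn
    (fun e => hQ (le_bot_iff.1 (e ▸ le_sup_left))) (fun e => hX (top_le_iff.1 (e ▸ hHX)))
  set L := normalizer (H : Set G) with hL
  have := h.solv L hLtop hfac
  have hHL : H ≤ L := le_normalizer
  have hQL : (Q : Subgroup G) ≤ L := le_sup_left.trans hHL
  have hRL : (R : Subgroup G) ≤ L := le_sup_right.trans hHL
  obtain ⟨S, hS⟩ := exists_coe_eq_mul_of_hall (G := L) (H := (L ⊓ A).subgroupOf L)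
    (K := (L ⊓ B).subgroupOf L) (A := (Q : Subgroup G).subgroupOf L)
    (B := (R : Subgroup G).subgroupOf L)
    (fun g => by
      obtain ⟨a, ha, b, hb, e⟩ := hfac g g.2
      exact ⟨⟨a, ha.1⟩, ha, ⟨b, hb.1⟩, hb, Subtype.ext e⟩)
    (comap_mono (le_inf hQL hQA))
    ((normal_subgroupOf_iff_le_normalizer (comap_mono (le_inf hQL hQA))).2 fun a ha =>
      le_normalizer_comap L.subtype (hQn ha.2))
    (comap_mono (le_inf hRL hRB))
    ((normal_subgroupOf_iff_le_normalizer (comap_mono (le_inf hRL hRB))).2 fun a ha =>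
      le_normalizer_comap L.subtype (hRn ha.2))
    (by rw [← Sylow.coe_subtype (h := hQL)]; exact (Q.subtype hQL).card_coprime_index)
    (by rw [← Sylow.coe_subtype (h := hRL)]; exact (R.subtype hRL).card_coprime_index)
  have hS' : ((S.map L.subtype : Subgroup G) : Set G) =
      ((Q : Subgroup G) : Set G) * ((R : Subgroup G) : Set G) := by
    rw [coe_map, hS, Set.image_mul, ← coe_map, ← coe_map, map_subgroupOf_eq_of_le hQL,
      map_subgroupOf_eq_of_le hRL]
  have hSH : S.map L.subtype ≠ ⊤ := fun e => hLtop (top_le_iff.1 (e ▸ map_subtype_le _))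
  obtain ⟨N, hN, hNtop, hle⟩ := kegel_lemma (Q : Subgroup G) (R : Subgroup G) fun x => by
    obtain ⟨a, ha, b, hb, rfl⟩ := h.prod x
    refine ⟨MulAut.conj a • S.map L.subtype, fun e => hSH ?_, ?_⟩
    · refine eq_top_of_card_eq _ ?_
      rw [← card_conj_smul a, e, card_top]
    · rw [coe_pointwise_smul, hS', smul_mul', ← coe_pointwise_smul, ← coe_pointwise_smul,
        conj_smul_eq_self_iff.2 (hQn ha), ← conj_smul_conj_smul,
        conj_smul_eq_self_iff.2 (hRn hb)]
  rcases h.normal N hN with e | e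
  · exact hle.elim (fun hh => hQ (le_bot_iff.1 (e ▸ hh))) (fun hh => hR (le_bot_iff.1 (e ▸ hh)))
  · exact hNtop e

/-- `A_s` and a central element of `B` lie in no proper subgroup. -/
theorem eq_top_of_sylow_central (h : CoprimeFactors A B) {s : ℕ} [Fact s.Prime]
    {Q : Sylow s G} (hQA : (Q : Subgroup G) ≤ A) (hQ : (Q : Subgroup G) ≠ ⊥)
    (hQn : A ≤ normalizer ((Q : Subgroup G) : Set G)) {w : G} (hwB : w ∈ B)
    (hwc : B ≤ centralizer {w}) (hw : w ≠ 1) {X : Subgroup G}
    (hQX : (Q : Subgroup G) ≤ X) (hwX : w ∈ X) : X = ⊤ := by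
  by_contra hX
  have := h.nilA
  set H := (Q : Subgroup G) ⊔ zpowers w with hH
  have hHX : H ≤ X := sup_le hQX ((zpowers_le).2 hwX)
  have hwn : B ≤ normalizer (zpowers w : Set G) := fun b hb => by
    refine centralizer_le_normalizer _ (mem_centralizer_iff.2 ?_)
    rintro _ ⟨i, rfl⟩
    exact (Commute.zpow_left (mem_centralizer_singleton_iff.1 (hwc hb)).symm i).eq
  obtain ⟨hLtop, hfac⟩ := h.normalizer_sup hQA hQn ((zpowers_le).2 hwB) hwn
    (fun e => hQ (le_bot_iff.1 (e ▸ le_sup_left))) (fun e => hX (top_le_iff.1 (e ▸ hHX)))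
  set L := normalizer (H : Set G) with hL
  have := h.solv L hLtop hfac
  have hQL : (Q : Subgroup G) ≤ L := le_sup_left.trans le_normalizer
  have hwL : w ∈ L := le_normalizer (mem_sup_right (mem_zpowers w))
  -- every `O_t(L)` is centralized by `Q`, and `O_s(L)` is trivial
  have hcore : ∀ t, t.Prime → (t = s → Cfsg.pCore t L = ⊥) ∧
      ∀ u ∈ Cfsg.pCore t L, ∀ q ∈ (Q : Subgroup G), Commute q (u : G) := by
    intro t ht
    have := Fact.mk ht
    have := pCore_normal t L
    set U := (Cfsg.pCore t L).map L.subtype with hU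
    by_cases hUb : U = ⊥
    · have h0 : Cfsg.pCore t L = ⊥ := (map_eq_bot_iff_of_injective _ L.subtype_injective).1 hUb
      refine ⟨fun _ => h0, fun u hu q _ => ?_⟩
      rw [h0, mem_bot] at hu
      simp [hu]
    have hUtop : U ≠ ⊤ := fun e => hLtop (top_le_iff.1 (e ▸ map_subtype_le _))
    have hLU : L ≤ normalizer (U : Set G) :=
      (normal_subgroupOf_iff_le_normalizer (map_subtype_le _)).1 (by
        rw [← comap_subtype, comap_map_eq_self_of_injective L.subtype_injective]
        infer_instance)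
    have hNU := h.normalizer_ne_top hUb hUtop
    have hUt : IsPGroup t U := (pCore_isPGroup (G := L) t).map _
    have hUcard : ∀ d : G, d ∈ U → ∃ k, orderOf d = t ^ k := fun d hd => by
      obtain ⟨k, hk⟩ := (IsPGroup.iff_orderOf.1 hUt) ⟨d, hd⟩
      exact ⟨k, by rwa [Subgroup.orderOf_mk] at hk⟩
    -- `t` divides the order of `A`
    have htB : ¬ t ∣ Nat.card B := by
      intro htB
      have htA : ¬ t ∣ Nat.card A := fun hd =>
        ht.ne_one (Nat.eq_one_of_dvd_coprimes h.cop hd htB)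
      have hUB : U ≤ B := h.symm.core_le (symm_fact hfac) ht htA
      obtain ⟨v, hv, hvt, hvB⟩ := h.twoB t
      have := Fact.mk hv
      obtain ⟨R, hRB, hR, hRn, hRc⟩ := h.symm.exists_sylow hvB
      refine hNU (h.eq_top_of_sylow_sylow hQA hQ hQn hRB hR hRn (hQL.trans hLU) fun x hx => ?_)
      refine centralizer_le_normalizer _ (mem_centralizer_iff.2 fun d hd => ?_)
      obtain ⟨k, hk⟩ := hUcard d hd
      exact (mem_centralizer_iff.1 (hRc d (hUB hd)
        (hk ▸ ((Nat.coprime_primes ht hv).2 hvt.symm).pow_left k)) x hx).symm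
    have hUA : U ≤ A := h.core_le hfac ht htB
    have hts : t ≠ s := by
      intro hts
      subst hts
      -- then `A` would normalize `U`
      refine hNU (h.eq_top_of_le (fun a ha => ?_) hwc hw (hLU hwL))
      have := CfsgLib.Transfer.pResidual_normal (G := A) (p := t)
      obtain ⟨u', hu', c, hc, e⟩ := CfsgLib.Transfer.exists_mem_sylow_mul (Q.subtype hQA)
        (C := Cfsg.pResidual t A) (fun g hg => CfsgLib.Transfer.mem_pResidual_of_coprime hg)
        ⟨a, ha⟩
      have hres : Cfsg.pResidual t A ≤ (centralizer (U : Set G)).comap A.subtype := by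
        rw [Cfsg.pResidual, closure_le]
        intro g hg
        refine mem_centralizer_iff.2 fun d hd => ?_
        obtain ⟨k, hk⟩ := hUcard d hd
        exact congrArg Subtype.val (OddLocal.commute_of_coprime_of_isNilpotent h.nilA
          (x := (g : A)) (y := ⟨d, hUA hd⟩)
          (by rw [← Subgroup.orderOf_coe (⟨d, hUA hd⟩ : A)]; exact hk ▸ Nat.Coprime.pow_right k hg)).eq.symm
      have e' : a = (u' : G) * c := congrArg Subtype.val e
      rw [e']
      exact mul_mem (hLU (hQL hu')) (centralizer_le_normalizer _ (hres hc))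
    refine ⟨fun e => absurd e hts, fun u hu q hq => ?_⟩
    have huU : (u : G) ∈ U := mem_map_of_mem _ hu
    obtain ⟨i, hi⟩ := (IsPGroup.iff_orderOf.1 Q.2) ⟨q, hq⟩
    obtain ⟨k, hk⟩ := hUcard u huU
    rw [Subgroup.orderOf_mk] at hi
    exact congrArg Subtype.val (OddLocal.commute_of_coprime_of_isNilpotent h.nilA
      (x := (⟨q, hQA hq⟩ : A)) (y := ⟨u, hUA huU⟩)
      (by rw [Subgroup.orderOf_mk, Subgroup.orderOf_mk, hi, hk]
          exact ((Nat.coprime_primes (Fact.out : s.Prime) ht).2 hts.symm).pow i k)).eq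
  obtain ⟨q, hq, hq1⟩ := exists_mem_ne_one_of_ne_bot hQ
  have hqs : IsPGroup s (zpowers (⟨q, hQL hq⟩ : L)) :=
    (Q.2.comap_of_injective L.subtype L.subtype_injective).to_le ((zpowers_le).2 hq)
  have := mem_pCore_of_forall_commute hqs fun t ht u hu =>
    Subtype.ext ((hcore t ht).2 u hu q hq).eq
  rw [(hcore s Fact.out).1 rfl, mem_bot] at this
  exact hq1 (congrArg Subtype.val this)

/-- Central elements of `A` and of a conjugate of `B` lie in no proper subgroup. -/
theorem eq_top_of_central_central (h : CoprimeFactors A B) {z w : G}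
    (hzA : z ∈ A) (hzc : A ≤ centralizer {z}) (hz : z ≠ 1) (hwB : w ∈ B)
    (hwc : B ≤ centralizer {w}) (hw : w ≠ 1) (g : G) {X : Subgroup G}
    (hzX : z ∈ X) (hwX : g * w * g⁻¹ ∈ X) : X = ⊤ := by
  by_contra hX
  obtain ⟨a, ha, b, hb, rfl⟩ := h.prod g
  -- conjugate into the position `z`, `w`
  set Y := MulAut.conj a⁻¹ • X with hY
  have hYtop : Y ≠ ⊤ := fun e => hX (eq_top_of_card_eq _ (by
    rw [← card_conj_smul a⁻¹ X, ← hY, e, card_top]))
  have hzY : z ∈ Y := by
    rw [hY, mem_conj_smul, inv_inv, mem_centralizer_singleton_iff.1 (hzc ha)]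
    simpa using hzX
  have hwY : w ∈ Y := by
    rw [hY, mem_conj_smul, inv_inv]
    have e : a * b * w * (a * b)⁻¹ = a * w * a⁻¹ := by
      rw [mul_assoc a b w, mem_centralizer_singleton_iff.1 (hwc hb)]; group
    rwa [e] at hwX
  set H := zpowers z ⊔ zpowers w with hH
  have hHY : H ≤ Y := sup_le ((zpowers_le).2 hzY) ((zpowers_le).2 hwY)
  have hn : ∀ {K : Subgroup G} {x : G}, K ≤ centralizer {x} →
      K ≤ normalizer (zpowers x : Set G) := fun {K x} hK c hc => by
    refine centralizer_le_normalizer _ (mem_centralizer_iff.2 ?_)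
    rintro _ ⟨i, rfl⟩
    exact (Commute.zpow_left (mem_centralizer_singleton_iff.1 (hK hc)).symm i).eq
  obtain ⟨hLtop, hfac⟩ := h.normalizer_sup ((zpowers_le).2 hzA) (hn hzc) ((zpowers_le).2 hwB)
    (hn hwc) (fun e => hz (zpowers_eq_bot.1 (le_bot_iff.1 (e ▸ le_sup_left))))
    (fun e => hYtop (top_le_iff.1 (e ▸ hHY)))
  set L := normalizer (H : Set G) with hL
  have := h.solv L hLtop hfac
  have : Nontrivial L := ⟨⟨⟨z, le_normalizer (mem_sup_left (mem_zpowers z))⟩, 1,
    fun e => hz (congrArg Subtype.val e)⟩⟩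
  obtain ⟨t, ht, hUb⟩ : ∃ t, t.Prime ∧ Cfsg.pCore t L ≠ ⊥ := by
    by_contra hall
    push Not at hall
    refine fittingSubgroup_ne_bot (G := L) ?_
    rw [fittingSubgroup_eq_iSup_pCore, iSup_eq_bot]
    exact fun t => hall t t.2
  have := Fact.mk ht
  have := pCore_normal t L
  have htG : t ∣ Nat.card A * Nat.card B := by
    rw [← h.card_eq]
    obtain ⟨i, hi⟩ := IsPGroup.iff_card.1 (pCore_isPGroup (G := L) t)
    refine ((dvd_pow_self t ?_).trans (hi ▸ card_subgroup_dvd_card _)).trans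
      L.card_subgroup_dvd_card
    rintro rfl
    exact hUb (card_eq_one.1 (by simpa using hi))
  -- the argument is symmetric
  have key : ∀ {A B : Subgroup G}, CoprimeFactors A B → ∀ {w : G}, w ∈ B →
      B ≤ centralizer {w} → w ≠ 1 → w ∈ L →
      (∀ g ∈ L, ∃ a ∈ L ⊓ A, ∃ b ∈ L ⊓ B, g = a * b) → ¬ t ∣ Nat.card B → False := by
    intro A B h w hwB hwc hw hwL hfac htB
    set U := (Cfsg.pCore t L).map L.subtype with hU
    have hUb' : U ≠ ⊥ := fun e => hUb ((map_eq_bot_iff_of_injective _ L.subtype_injective).1 e)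
    have hUtop : U ≠ ⊤ := fun e => hLtop (top_le_iff.1 (e ▸ map_subtype_le _))
    have hLU : L ≤ normalizer (U : Set G) :=
      (normal_subgroupOf_iff_le_normalizer (map_subtype_le _)).1 (by
        rw [← comap_subtype, comap_map_eq_self_of_injective L.subtype_injective]
        infer_instance)
    have hUA : U ≤ A := h.core_le hfac ht htB
    obtain ⟨s, hs, hst, hsA⟩ := h.twoA t
    have := Fact.mk hs
    obtain ⟨Q, hQA, hQ, hQn, hQc⟩ := h.exists_sylow hsA
    refine h.normalizer_ne_top hUb' hUtop (h.eq_top_of_sylow_central hQA hQ hQn hwB hwc hw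
      (fun x hx => centralizer_le_normalizer _ (mem_centralizer_iff.2 fun d hd => ?_)) (hLU hwL))
    obtain ⟨k, hk⟩ := (IsPGroup.iff_orderOf.1 ((pCore_isPGroup (G := L) t).map L.subtype)) ⟨d, hd⟩
    rw [Subgroup.orderOf_mk] at hk
    exact (mem_centralizer_iff.1 (hQc d (hUA hd)
      (hk ▸ ((Nat.coprime_primes ht hs).2 hst.symm).pow_left k)) x hx).symm
  rcases ht.dvd_mul.1 htG with hd | hd
  · exact key h hwB hwc hw (le_normalizer (mem_sup_right (mem_zpowers w))) hfac
      fun h' => ht.ne_one (Nat.eq_one_of_dvd_coprimes h.cop hd h')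
  · exact key h.symm hzA hzc hz (le_normalizer (mem_sup_left (mem_zpowers z))) (symm_fact hfac)
      fun h' => ht.ne_one (Nat.eq_one_of_dvd_coprimes h.cop h' hd)

end CoprimeFactors

end CfsgLib.Solvable
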