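import Cfsg.Agent.Lib.Solvable.CoprimeProductTI

/-!
# Products of two nilpotent subgroups of coprime orders: counting
-/

namespace CfsgLib.Solvable.CoprimeFactors

open Subgroup
open scoped Pointwise

variable {G : Type*} [Group G] [Finite G] {A B : Subgroup G}

/-- The elements of `N(A)` of order prime to `|A|` form at most `|A : A ∩ N(B)|` classes
of size at most `|B ∩ N(A)|`. -/
theorem card_prime_part_le (h : CoprimeFactors A B) :
    Nat.card {g : G // g ∈ normalizer (A : Set G) ∧ g ≠ 1 ∧ (orderOf g).Coprime (Nat.card A)} ≤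
      (normalizer (B : Set G)).relIndex A *
        (Nat.card (normalizer (A : Set G) ⊓ B : Subgroup G) - 1) := by
  classical
  have := h.nilB
  set M := normalizer (A : Set G) with hM
  set M' := normalizer (B : Set G) with hM'
  set A₁ := M'.subgroupOf A with hA₁
  let f : (A ⧸ A₁) × {b : (M ⊓ B : Subgroup G) // b ≠ 1} → G := fun q =>
    (q.1.out : G) * ((q.2 : (M ⊓ B : Subgroup G)) : G) * (q.1.out : G)⁻¹
  have hB₁ : Nat.card {b : (M ⊓ B : Subgroup G) // b ≠ 1} =
      Nat.card (M ⊓ B : Subgroup G) - 1 := by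
    have : Fintype (M ⊓ B : Subgroup G) := Fintype.ofFinite _
    rw [Nat.card_eq_fintype_card, Fintype.card_subtype_compl, Fintype.card_subtype_eq,
      Nat.card_eq_fintype_card]
  calc _ ≤ Nat.card (Set.range f) := ?_
    _ ≤ Nat.card ((A ⧸ A₁) × {b : (M ⊓ B : Subgroup G) // b ≠ 1}) := Finite.card_range_le f
    _ = _ := by rw [Nat.card_prod, hB₁, hA₁, relIndex, index_eq_card]
  refine Nat.card_mono (Set.toFinite _) fun g => ?_
  rintro ⟨hgM, hg1, hgcop⟩
  obtain ⟨hcard, hidx⟩ := h.symm.card_factorized (symm_fact (h.factorized_of_le le_normalizer))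
  set B₁ := (M ⊓ B).subgroupOf M with hB₁def
  have hc : Nat.card B₁ = Nat.card (M ⊓ B : Subgroup G) :=
    Nat.card_congr (subgroupOfEquivOfLe inf_le_left).toEquiv
  have hnil : Group.IsNilpotent B₁ := by
    have : Group.IsNilpotent (M ⊓ B : Subgroup G) :=
      (Group.isNilpotent_congr (subgroupOfEquivOfLe inf_le_right)).1 inferInstance
    exact (Group.isNilpotent_congr (subgroupOfEquivOfLe inf_le_left).symm).1 this
  have hB₁i : B₁.index = Nat.card (M ⊓ A : Subgroup G) := by
    rw [hB₁def, ← relIndex, inf_relIndex_left, hidx]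
  obtain ⟨m, hm⟩ := exists_conj_le_aux B₁ (by
      rw [hc, hB₁i]
      exact (h.cop.symm.coprime_dvd_left (card_dvd_of_le inf_le_right)).coprime_dvd_right
        (card_dvd_of_le inf_le_right))
    _ (zpowers (⟨g, hgM⟩ : M)) le_rfl fun p hp hpd => by
      rw [Nat.card_zpowers, Subgroup.orderOf_mk] at hpd
      have h1 := hpd.trans (Subgroup.orderOf_dvd_natCard M hgM)
      rw [hcard, ← hc] at h1
      exact (hp.dvd_mul.1 h1).resolve_right fun h2 => hp.ne_one
        (Nat.eq_one_of_dvd_coprimes hgcop hpd (h2.trans (card_dvd_of_le inf_le_right)))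
  obtain ⟨a, ha, b, hb, e⟩ := h.prod (m : G)
  have hbM : b ∈ M := (M.mul_mem_cancel_left (le_normalizer ha)).1 (e ▸ m.2)
  have h1 : a⁻¹ * g * a ∈ M ⊓ B := by
    have h2' := (mem_conj_smul (G := M)).1 (hm (mem_zpowers _))
    have h2 : (m : G)⁻¹ * g * m ∈ M ⊓ B := h2'
    rw [e] at h2
    have := mul_mem (mul_mem (mem_inf.2 ⟨hbM, hb⟩) h2) (inv_mem (mem_inf.2 ⟨hbM, hb⟩))
    simpa [mul_assoc] using this
  obtain ⟨u, hu⟩ := QuotientGroup.mk_out_eq_mul A₁ (⟨a, ha⟩ : A)
  -- elements of `A ∩ N(B)` centralize `B ∩ N(A)`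
  have hcomm : ((u : A) : G) * (a⁻¹ * g * a) = a⁻¹ * g * a * ((u : A) : G) := by
    set y := a⁻¹ * g * a with hy
    have hu' : ((u : A) : G) ∈ M' := u.2
    have h3 : ((u : A) : G) * y * ((u : A) : G)⁻¹ * y⁻¹ ∈ A ⊓ B := by
      refine mem_inf.2 ⟨?_, mul_mem ((mem_normalizer_iff.1 hu' y).1 h1.2) (inv_mem h1.2)⟩
      rw [mul_assoc _ y, mul_assoc _ (y * _)]
      exact mul_mem (u : A).2 ((mem_normalizer_iff.1 h1.1 _).1 (inv_mem (u : A).2))
    rw [h.inf_eq_bot, mem_bot, mul_inv_eq_one, mul_inv_eq_iff_eq_mul] at h3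
    exact h3
  have hne : (⟨a⁻¹ * g * a, h1⟩ : (M ⊓ B : Subgroup G)) ≠ 1 := fun e' => hg1 <| by
    have := congrArg Subtype.val e'
    simpa [mul_eq_one_iff_eq_inv, mul_assoc] using congrArg (fun w => a * w * a⁻¹) this
  refine ⟨(QuotientGroup.mk (⟨a, ha⟩ : A), ⟨⟨_, h1⟩, hne⟩), ?_⟩
  show (((⟨a, ha⟩ : A) : A ⧸ A₁).out : G) * (a⁻¹ * g * a) *
    (((⟨a, ha⟩ : A) : A ⧸ A₁).out : G)⁻¹ = g
  rw [hu]
  change a * ((u : A) : G) * (a⁻¹ * g * a) * (a * ((u : A) : G))⁻¹ = g
  rw [mul_assoc a, hcomm]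
  simp [mul_assoc]

/-- The elements of `M` of order not prime to `n`. -/
abbrev Part (M : Subgroup G) (n : ℕ) : Type _ := {g : G // g ∈ M ∧ ¬ (orderOf g).Coprime n}

theorem card_le_part_add (h : CoprimeFactors A B) :
    Nat.card (normalizer (A : Set G)) ≤ Nat.card (Part (normalizer (A : Set G)) (Nat.card A)) + 1 +
      (normalizer (B : Set G)).relIndex A *
        (Nat.card (normalizer (A : Set G) ⊓ B : Subgroup G) - 1) := by
  classical
  refine le_trans ?_ (Nat.add_le_add_left h.card_prime_part_le _)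
  set M := normalizer (A : Set G) with hM
  let X : Set G := {g | g ∈ M ∧ ¬ (orderOf g).Coprime (Nat.card A)}
  let Y : Set G := {g | g ∈ M ∧ g ≠ 1 ∧ (orderOf g).Coprime (Nat.card A)}
  change Nat.card (M : Set G) ≤ Nat.card X + 1 + Nat.card Y
  rw [Nat.card_coe_set_eq, Nat.card_coe_set_eq, Nat.card_coe_set_eq]
  calc (M : Set G).ncard ≤ ((X ∪ {1}) ∪ Y).ncard := Set.ncard_le_ncard (fun g hg => by
        by_cases h1 : g = 1
        · exact Or.inl (Or.inr h1)
        by_cases h2 : (orderOf g).Coprime (Nat.card A)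
        · exact Or.inr ⟨hg, h1, h2⟩
        · exact Or.inl (Or.inl ⟨hg, h2⟩))
    _ ≤ _ := (Set.ncard_union_le _ _).trans
        (Nat.add_le_add_right ((Set.ncard_union_le _ _).trans (by simp)) _)

/-- Conjugates of `N(A)` and of `B` are disjoint enough to be counted. -/
theorem card_parts_le (h : CoprimeFactors A B) :
    (normalizer (A : Set G)).index * Nat.card (Part (normalizer (A : Set G)) (Nat.card A)) +
      (normalizer (B : Set G)).index * Nat.card {b : G // b ∈ B ∧ b ≠ 1} + 1 ≤ Nat.card G := by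
  classical
  set M := normalizer (A : Set G) with hM
  set M' := normalizer (B : Set G) with hM'
  let f : ((G ⧸ M) × Part M (Nat.card A)) ⊕ ((G ⧸ M') × {b : G // b ∈ B ∧ b ≠ 1}) ⊕ Unit → G
    | .inl q => q.1.out * q.2.1 * q.1.out⁻¹
    | .inr (.inl q) => q.1.out * q.2.1 * q.1.out⁻¹
    | .inr (.inr _) => 1
  have hord : ∀ c x : G, orderOf (c * x * c⁻¹) = orderOf x := fun c x => by
    rw [← MulAut.conj_apply, MulEquiv.orderOf_eq]
  have hB : ∀ b ∈ B, (orderOf b).Coprime (Nat.card A) := fun b hb =>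
    h.cop.symm.coprime_dvd_left (Subgroup.orderOf_dvd_natCard B hb)
  have hB' : ∀ b ∈ B, b ≠ 1 → ¬ (orderOf b).Coprime (Nat.card B) := fun b hb hb1 hc =>
    hb1 (orderOf_eq_one_iff.1
      (Nat.eq_one_of_dvd_coprimes hc dvd_rfl (Subgroup.orderOf_dvd_natCard B hb)))
  have hdis : ∀ (q : (G ⧸ M) × Part M (Nat.card A)) (c b : G), b ∈ B →
      q.1.out * q.2.1 * q.1.out⁻¹ ≠ c * b * c⁻¹ := fun q c b hb e => q.2.2.2 (by
    rw [← hord q.1.out q.2.1, e, hord]; exact hB b hb)
  -- conjugates of a set in which conjugation is controlled are disjoint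
  have hinj : ∀ (N : Subgroup G) (S : G → Prop),
      (∀ g c : G, S g → S (c⁻¹ * g * c) → c ∈ N) →
      ∀ (c d : G ⧸ N) (x y : G), S x → S y →
        c.out * x * c.out⁻¹ = d.out * y * d.out⁻¹ → c = d ∧ x = y := by
    intro N S hS c d x y hx hy e
    have h1 : (d.out⁻¹ * c.out)⁻¹ * y * (d.out⁻¹ * c.out) = x := by
      have := congrArg (fun w => c.out⁻¹ * w * c.out) e
      simpa [mul_assoc] using this.symm
    have hcd : c = d := by
      have := hS y _ hy (h1.symm ▸ hx)
      rw [← QuotientGroup.out_eq' c, ← QuotientGroup.out_eq' d, eq_comm, QuotientGroup.eq]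
      exact this
    subst hcd
    exact ⟨rfl, mul_left_cancel (mul_right_cancel e)⟩
  have hf : Function.Injective f := by
    rintro (⟨c, x⟩ | ⟨c, x⟩ | _) (⟨d, y⟩ | ⟨d, y⟩ | _) e <;> simp only [f] at e
    · obtain ⟨rfl, h1⟩ := hinj M (fun g => g ∈ M ∧ ¬ (orderOf g).Coprime (Nat.card A))
        (fun g c hg hg' => h.mem_of_conj_mem hg.1 hg'.1 hg.2) c d x.1 y.1 x.2 y.2 e
      rw [Subtype.ext h1]
    · exact absurd e (hdis (c, x) d.out y.1 y.2.1)
    · exact absurd (e.trans (by simp)) (hdis (c, x) 1 1 (one_mem B))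
    · exact absurd e.symm (hdis (d, y) c.out x.1 x.2.1)
    · obtain ⟨rfl, h1⟩ := hinj M' (fun g => g ∈ B ∧ g ≠ 1)
        (fun g c hg hg' => h.symm.mem_of_conj_mem (le_normalizer hg.1) (le_normalizer hg'.1)
          (hB' g hg.1 hg.2)) c d x.1 y.1 x.2 y.2 e
      rw [Subtype.ext h1]
    · exact absurd (conj_eq_one_iff.1 e) x.2.2
    · exact absurd (e.symm.trans (by simp)) (hdis (d, y) 1 1 (one_mem B))
    · exact absurd (conj_eq_one_iff.1 e.symm) y.2.2
    · rfl
  have := Nat.card_le_card_of_injective f hf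
  rw [Nat.card_sum, Nat.card_sum, Nat.card_prod, Nat.card_prod, Nat.card_unique (α := Unit),
    ← index_eq_card, ← index_eq_card, ← add_assoc] at this
  exact this

/-- There is no simple product of two nilpotent subgroups of coprime orders. -/
theorem elim (h : CoprimeFactors A B) : False := by
  classical
  set M := normalizer (A : Set G) with hM
  set M' := normalizer (B : Set G) with hM'
  have hk : 2 ≤ M.index := by
    have h1 : M.index ≠ 1 := fun e => h.normalizer_factor_ne_top (index_eq_one.1 e)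
    have := Nat.pos_of_ne_zero (index_ne_zero_of_finite (H := M))
    omega
  have hl : 2 ≤ M'.index := by
    have h1 : M'.index ≠ 1 := fun e => h.symm.normalizer_factor_ne_top (index_eq_one.1 e)
    have := Nat.pos_of_ne_zero (index_ne_zero_of_finite (H := M'))
    omega
  have hcardM := (h.card_factorized (h.factorized_of_le le_normalizer)).1
  have hMA : (M ⊓ A : Subgroup G) = A := inf_eq_right.2 le_normalizer
  rw [hMA] at hcardM
  set b₁ := Nat.card (M ⊓ B : Subgroup G) with hb₁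
  have hb₁0 : 0 < b₁ := Nat.card_pos
  have hG := h.card_eq
  have hkb : M.index * b₁ = Nat.card B := by
    refine Nat.eq_of_mul_eq_mul_left (Nat.card_pos (α := A)) ?_
    rw [← hG, ← M.card_mul_index, hcardM]; ring
  -- `|A : A ∩ N(B)| = |G : N(B)|`
  have hla : M'.relIndex A = M'.index := by
    have hcardM' := (h.symm.card_factorized (h.symm.factorized_of_le le_normalizer)).1
    rw [inf_eq_right.2 (le_normalizer : B ≤ M')] at hcardM'
    have h1 : Nat.card (M' ⊓ A : Subgroup G) * M'.index = Nat.card A := by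
      refine Nat.eq_of_mul_eq_mul_left (Nat.card_pos (α := B)) ?_
      rw [← mul_assoc, ← hcardM', M'.card_mul_index, hG, mul_comm]
    have h2 : Nat.card ((M' ⊓ A).subgroupOf A) * (M' ⊓ A).relIndex A = Nat.card A :=
      card_mul_index _
    rw [Nat.card_congr (subgroupOfEquivOfLe inf_le_right).toEquiv, inf_relIndex_right] at h2
    exact Nat.eq_of_mul_eq_mul_left Nat.card_pos (h2.trans h1.symm)
  have h1 := h.card_le_part_add
  rw [← hM, ← hb₁, ← hM', hla, hcardM] at h1
  have h2 := h.card_parts_le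
  have hBc : Nat.card {b : G // b ∈ B ∧ b ≠ 1} + 1 = Nat.card B := by
    have e : {b : G | b ∈ B ∧ b ≠ 1} = (B : Set G) \ {1} := by ext; simp
    rw [show Nat.card {b : G // b ∈ B ∧ b ≠ 1} = Nat.card {b : G | b ∈ B ∧ b ≠ 1} from rfl, e,
      Nat.card_coe_set_eq, Set.ncard_sdiff_singleton_add_one (one_mem B)]
    exact (Nat.card_coe_set_eq _).symm
  rw [← hM, ← hM'] at h2
  set S := Nat.card (Part M (Nat.card A))
  set T := Nat.card {b : G // b ∈ B ∧ b ≠ 1}
  obtain ⟨b, hb⟩ : ∃ b, b₁ = b + 1 := ⟨b₁ - 1, by omega⟩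
  rw [hb, Nat.add_sub_cancel] at h1
  rw [hb] at hkb
  rw [hG, ← hkb] at h2
  rw [← hkb] at hBc
  nlinarith [Nat.mul_le_mul_left M.index h1, Nat.mul_le_mul hk hl]

end CfsgLib.Solvable.CoprimeFactors
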