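import Cfsg.Agent.Lib.Solvable.CoprimeProduct

/-!
# Products of two nilpotent subgroups of coprime orders: the factors are TI
-/

namespace CfsgLib.Solvable.CoprimeFactors

open Subgroup
open scoped Pointwise

variable {G : Type*} [Group G] [Finite G] {A B : Subgroup G}

omit [Finite G] in
theorem exists_pow_prime_order {x : G} {t : ℕ} (_ht : t.Prime) (h : t ∣ orderOf x)
    (hfin : orderOf x ≠ 0) : ∃ i : ℕ, orderOf (x ^ i) = t := by
  obtain ⟨d, hd⟩ := h
  refine ⟨d, ?_⟩
  have hd0 : d ≠ 0 := by rintro rfl; simp [hd] at hfin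
  rw [orderOf_pow_of_dvd hd0 ⟨t, by rw [hd, mul_comm]⟩, hd,
    Nat.mul_div_cancel _ (Nat.pos_of_ne_zero hd0)]

/-- A central element of `A` normalizes no subgroup of order involving only primes of `B`. -/
theorem eq_bot_of_central_normalizes (h : CoprimeFactors A B) {z : G} (hzA : z ∈ A)
    (hzc : A ≤ centralizer {z}) (hz : z ≠ 1) {T : Subgroup G}
    (hT : ∀ p : ℕ, p.Prime → p ∣ Nat.card T → p ∣ Nat.card B)
    (hzT : z ∈ normalizer (T : Set G)) : T = ⊥ := by
  by_contra hne
  have := h.nilB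
  obtain ⟨x, hx⟩ := exists_conj_le_aux B h.symm.hall (Nat.card T) T le_rfl hT
  obtain ⟨r, hr, -, hrB⟩ := h.twoB 0
  have := Fact.mk hr
  obtain ⟨w, hwB, hw, hwc, -⟩ := h.symm.exists_central hrB
  have hTtop : T ≠ ⊤ := fun e => h.symm.ne_top <| eq_top_iff.2 <| by
    have h1 : MulAut.conj x • B = ⊤ := top_le_iff.1 (e ▸ hx)
    refine (eq_top_of_card_eq B ?_).ge
    rw [← card_conj_smul x B, h1, card_top]
  refine h.normalizer_ne_top hne hTtop
    (h.eq_top_of_central_central hzA hzc hz hwB hwc hw x hzT ?_)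
  refine centralizer_le_normalizer _ (mem_centralizer_iff.2 fun d hd => ?_)
  have h1 := mem_centralizer_singleton_iff.1 (hwc (mem_conj_smul.1 (hx hd)))
  calc d * (x * w * x⁻¹) = x * ((x⁻¹ * d * x) * w) * x⁻¹ := by group
    _ = x * (w * (x⁻¹ * d * x)) * x⁻¹ := by rw [h1]
    _ = _ := by group

/-- A prime power element commuting with a central element of `A` has prime not dividing `|B|`. -/
theorem coprime_of_commute_central (h : CoprimeFactors A B) {z : G} (hzA : z ∈ A)
    (hzc : A ≤ centralizer {z}) (hz : z ≠ 1) {y : G} (hy : Commute y z) :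
    (orderOf y).Coprime (Nat.card B) := by
  refine Nat.coprime_of_dvd fun q hq hqy hqB => ?_
  obtain ⟨i, hi⟩ := exists_pow_prime_order hq hqy (orderOf_pos y).ne'
  have h1 := h.eq_bot_of_central_normalizes hzA hzc hz (T := zpowers (y ^ i))
    (fun p hp hpT => by
      rw [Nat.card_zpowers, hi] at hpT
      exact (Nat.prime_dvd_prime_iff_eq hp hq).1 hpT ▸ hqB)
    (centralizer_le_normalizer _ (mem_centralizer_iff.2 fun d hd => by
      obtain ⟨k, rfl⟩ := hd
      exact ((hy.pow_left i).zpow_left k).eq))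
  rw [zpowers_eq_bot] at h1
  rw [h1, orderOf_one] at hi
  exact hq.ne_one hi.symm

/-- The centralizer of a central element of `A` is `A`. -/
theorem centralizer_central_le (h : CoprimeFactors A B) {z : G} (hzA : z ∈ A)
    (hzc : A ≤ centralizer {z}) (hz : z ≠ 1) : centralizer {z} ≤ A := by
  have hcop : (Nat.card (centralizer ({z} : Set G))).Coprime (Nat.card B) := by
    refine Nat.coprime_of_dvd fun q hq hqC hqB => ?_
    have := Fact.mk hq
    obtain ⟨y, hy⟩ := exists_prime_orderOf_dvd_card' q hqC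
    have h1 := h.coprime_of_commute_central hzA hzc hz (y := (y : G))
      (mem_centralizer_singleton_iff.1 y.2)
    rw [Subgroup.orderOf_coe, hy] at h1
    exact hq.coprime_iff_not_dvd.1 h1 hqB
  refine (eq_of_le_of_card_ge hzc (Nat.le_of_dvd Nat.card_pos ?_)).ge
  refine hcop.dvd_of_dvd_mul_right ?_
  rw [← h.card_eq]
  exact card_subgroup_dvd_card _

/-- In a proper factorized subgroup containing the centre of `B`, the Sylow subgroups of `B` it
contains are normal. -/
theorem le_normalizer_sylow_of_center_le (h : CoprimeFactors A B) {L : Subgroup G} (hL : L ≠ ⊤)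
    (hfac : ∀ g ∈ L, ∃ a ∈ L ⊓ A, ∃ b ∈ L ⊓ B, g = a * b)
    (hW : ∀ w ∈ B, B ≤ centralizer {w} → w ∈ L) {u : ℕ} [Fact u.Prime] (huB : u ∣ Nat.card B)
    {Q : Sylow u G} (hQB : (Q : Subgroup G) ≤ B) (hQL : (Q : Subgroup G) ≤ L) :
    L ≤ normalizer ((Q : Subgroup G) : Set G) := by
  have := h.solv L hL hfac
  obtain ⟨r, hr, hru, hrB⟩ := h.twoB u
  have := Fact.mk hr
  obtain ⟨w, hwB, hw, hwc, hwr⟩ := h.symm.exists_central hrB
  have hwL := hW w hwB hwc
  have hLU : ∀ t, L ≤ normalizer (((Cfsg.pCore t L).map L.subtype : Subgroup G) : Set G) := fun t =>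
    (normal_subgroupOf_iff_le_normalizer (map_subtype_le _)).1 (by
      rw [← comap_subtype, comap_map_eq_self_of_injective L.subtype_injective]
      exact pCore_normal t L)
  -- `w` lies in `O_r(L)`
  have hwU : (⟨w, hwL⟩ : L) ∈ Cfsg.pCore r L := by
    refine mem_pCore_of_forall_commute
      ((hwr.comap_of_injective L.subtype L.subtype_injective).to_le
        ((zpowers_le).2 (mem_zpowers w)))
      fun t ht d hd => Subtype.ext ?_
    have := Fact.mk ht
    by_cases htB : t ∣ Nat.card B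
    · have hdB := h.symm.core_le (symm_fact hfac) ht
        (fun htA => ht.ne_one (Nat.eq_one_of_dvd_coprimes h.cop htA htB)) (mem_map_of_mem _ hd)
      exact (mem_centralizer_singleton_iff.1 (hwc hdB)).symm
    · set T := (Cfsg.pCore t L).map L.subtype with hT
      obtain ⟨i, hi⟩ := IsPGroup.iff_card.1 ((pCore_isPGroup (G := L) t).map L.subtype)
      have hTbot : T = ⊥ := by
        refine h.symm.eq_bot_of_central_normalizes hwB hwc hw (fun p hp hpT => ?_) (hLU t hwL)
        have hpt : p = t := (Nat.prime_dvd_prime_iff_eq hp ht).1 (hp.dvd_of_dvd_pow (hi ▸ hpT))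
        subst hpt
        exact (hp.dvd_mul.1 (h.card_eq ▸ hpT.trans T.card_subgroup_dvd_card)).resolve_right htB
      have hd1 : (d : G) = 1 := mem_bot.1 (hTbot ▸ mem_map_of_mem _ hd)
      change w * (d : G) = (d : G) * w
      rw [hd1, mul_one, one_mul]
  set U := (Cfsg.pCore r L).map L.subtype with hU
  have hUB : U ≤ B := h.symm.core_le (symm_fact hfac) hr
    fun hrA => hr.ne_one (Nat.eq_one_of_dvd_coprimes h.cop hrA hrB)
  set K := L ⊓ centralizer (U : Set G) with hK
  have hKn : L ≤ normalizer (K : Set G) := by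
    intro l hl
    have h1 : MulAut.conj l • U = U := conj_smul_eq_self_iff.2 (hLU r hl)
    refine conj_smul_eq_self_iff.1 (eq_of_le_of_card_ge ?_ (card_conj_smul l K).ge)
    intro x hx
    rw [mem_conj_smul] at hx
    refine mem_inf.2 ⟨?_, mem_centralizer_iff.2 fun d hd => ?_⟩
    · have := mul_mem (mul_mem hl hx.1) (inv_mem hl)
      simpa [mul_assoc] using this
    · have hd' : l⁻¹ * d * l ∈ U := mem_conj_smul.1 (h1.symm.le hd)
      have := mem_centralizer_iff.1 hx.2 _ hd'
      calc d * x = l * ((l⁻¹ * d * l) * (l⁻¹ * x * l)) * l⁻¹ := by group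
        _ = l * ((l⁻¹ * x * l) * (l⁻¹ * d * l)) * l⁻¹ := by rw [this]
        _ = x * d := by group
  have hQK : (Q : Subgroup G) ≤ K := le_inf hQL fun q hq => mem_centralizer_iff.2 fun d hd => by
    obtain ⟨i, hi⟩ := (IsPGroup.iff_orderOf.1 Q.2) ⟨q, hq⟩
    obtain ⟨k, hk⟩ := (IsPGroup.iff_orderOf.1 ((pCore_isPGroup (G := L) r).map L.subtype)) ⟨d, hd⟩
    rw [Subgroup.orderOf_mk] at hi hk
    exact congrArg Subtype.val (OddLocal.commute_of_coprime_of_isNilpotent h.nilB
      (x := (⟨d, hUB hd⟩ : B)) (y := ⟨q, hQB hq⟩)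
      (by rw [Subgroup.orderOf_mk, Subgroup.orderOf_mk, hi, hk]
          exact ((Nat.coprime_primes hr Fact.out).2 hru).pow k i)).eq
  have hKB : K ≤ B := by
    refine le_of_coprime_relIndex inf_le_left hKn ?_
    rw [(h.symm.card_factorized (symm_fact hfac)).2]
    refine Nat.Coprime.coprime_dvd_right (card_dvd_of_le inf_le_right) ?_
    refine Nat.coprime_of_dvd fun p hp hpK hpA => ?_
    have := Fact.mk hp
    obtain ⟨y, hy⟩ := exists_prime_orderOf_dvd_card' p hpK
    have h1 := h.symm.coprime_of_commute_central hwB hwc hw (y := (y : G))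
      (mem_centralizer_iff.1 y.2.2 w (mem_map_of_mem L.subtype hwU)).symm
    rw [Subgroup.orderOf_coe, hy] at h1
    exact hp.coprime_iff_not_dvd.1 h1 hpA
  intro l hl
  have h2 : ((l • Q : Sylow u G) : Subgroup G) ≤ B := by
    rw [Sylow.coe_subgroup_smul]
    exact ((conj_smul_mono l hQK).trans (conj_smul_eq_self_iff.2 (hKn hl)).le).trans hKB
  exact Sylow.smul_eq_iff_mem_normalizer.1 (h.symm.sylow_eq huB h2 hQB)

omit [Finite G] in
theorem factorized_of_le (h : CoprimeFactors A B) {X : Subgroup G} (hX : A ≤ X) :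
    ∀ g ∈ X, ∃ a ∈ X ⊓ A, ∃ b ∈ X ⊓ B, g = a * b := by
  intro g hg
  obtain ⟨a, ha, b, hb, rfl⟩ := h.prod g
  exact ⟨a, ⟨hX ha, ha⟩, b, ⟨(X.mul_mem_cancel_left (hX ha)).1 hg, hb⟩, rfl⟩

omit [Finite G] in
theorem normalizer_factor_ne_top (h : CoprimeFactors A B) : normalizer (A : Set G) ≠ ⊤ :=
  h.normalizer_ne_top h.ne_bot h.ne_top

/-- The normalizer of a Sylow subgroup of `A` is the normalizer of `A`. -/
theorem normalizer_sylow_eq (h : CoprimeFactors A B) {s : ℕ} [Fact s.Prime]
    (hs : s ∣ Nat.card A) {Q : Sylow s G} (hQA : (Q : Subgroup G) ≤ A) :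
    normalizer ((Q : Subgroup G) : Set G) = normalizer (A : Set G) := by
  obtain ⟨R, hRA, hR, hRn, -⟩ := h.exists_sylow hs
  obtain rfl := h.sylow_eq hs hQA hRA
  refine le_antisymm (fun m hm => ?_) (fun m hm => ?_)
  · set X := normalizer ((Q : Subgroup G) : Set G) with hX
    have hXtop : X ≠ ⊤ := h.normalizer_ne_top hR fun e => h.ne_top (top_le_iff.1 (e ▸ hQA))
    refine conj_smul_eq_self_iff.1 (eq_of_le_of_card_ge ?_ (card_conj_smul m A).le).symm
    -- every Sylow subgroup of `A` is fixed by `m`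
    intro a ha
    have key : A.subgroupOf A ≤ (MulAut.conj m • A).subgroupOf A := by
      rw [subgroupOf_self]
      refine (eq_top_of_forall_prime fun p hp hd => ?_).ge
      have := Fact.mk hp
      have hpA : p ∣ Nat.card A := hd.trans (index_dvd_card _)
      obtain ⟨T, hTA, -, -, -⟩ := h.exists_sylow hpA
      have hTX : X ≤ normalizer ((T : Subgroup G) : Set G) :=
        h.symm.le_normalizer_sylow_of_center_le hXtop (symm_fact (h.factorized_of_le hRn))
          (fun w hw _ => hRn hw) hpA hTA (hTA.trans hRn)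
      have hTm : (T : Subgroup G) ≤ MulAut.conj m • A := by
        rw [← conj_smul_eq_self_iff.2 (hTX hm)]
        exact conj_smul_mono m hTA
      refine (T.subtype hTA).not_dvd_index (hd.trans (index_dvd_of_le ?_))
      rw [Sylow.coe_subtype]
      exact comap_mono hTm
    exact key (x := ⟨a, ha⟩) ha
  · refine Sylow.smul_eq_iff_mem_normalizer.1 (h.sylow_eq hs ?_ hQA)
    rw [Sylow.coe_subgroup_smul, ← conj_smul_eq_self_iff.2 hm]
    exact conj_smul_mono m hQA

theorem normalizer_sylow_eq' (h : CoprimeFactors A B) {s : ℕ} [Fact s.Prime] {Q : Sylow s G}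
    (hs : s ∣ Nat.card A) (hQA : (Q : Subgroup G) ≤ A) {c : G}
    (hc : MulAut.conj c • (Q : Subgroup G) ≤ A) : c ∈ normalizer (A : Set G) := by
  rw [← h.normalizer_sylow_eq hs hQA]
  exact Sylow.smul_eq_iff_mem_normalizer.1 (h.sylow_eq hs (Q.coe_subgroup_smul (g := c) ▸ hc) hQA)

/-- An element of the normalizer of `A` of order prime to `|B|` lies in `A`. -/
theorem mem_of_mem_normalizer (h : CoprimeFactors A B) {g : G}
    (hg : g ∈ normalizer (A : Set G)) (hcop : (orderOf g).Coprime (Nat.card B)) : g ∈ A := by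
  refine mem_of_coprime_relIndex ((normal_subgroupOf_iff_le_normalizer le_normalizer).2 le_rfl) hg
    (hcop.coprime_dvd_right ?_)
  rw [← h.index_eq]
  exact relIndex_dvd_index_of_le le_normalizer

/-- For `x ∈ A` of prime order normalizing `B`, `C(x) ≤ N(A)`. -/
theorem centralizer_le_of_mem_normalizer (h : CoprimeFactors A B) {x : G} {t : ℕ}
    (ht : t.Prime) (hx : x ∈ A) (hxt : orderOf x = t) (hxB : x ∈ normalizer (B : Set G)) :
    centralizer {x} ≤ normalizer (A : Set G) := by
  have := Fact.mk ht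
  obtain ⟨s, hs, hst, hsA⟩ := h.twoA t
  have := Fact.mk hs
  obtain ⟨Q, hQA, -, -, hQc⟩ := h.exists_sylow hsA
  have hx1 : x ≠ 1 := fun e => ht.ne_one (by rw [← hxt, e, orderOf_one])
  set L := centralizer ({x} : Set G) with hL
  have hLtop : L ≠ ⊤ := fun e => by
    have hc : x ∈ center G := mem_center_iff.2 fun g =>
      mem_centralizer_singleton_iff.1 (e ▸ mem_top g : g ∈ L)
    rcases h.normal (center G) inferInstance with e' | e'
    · exact hx1 (mem_bot.1 (e' ▸ hc))
    · exact h.normalizer_factor_ne_top (top_le_iff.1 fun g _ => centralizer_le_normalizer _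
        (mem_centralizer_iff.2 fun a _ =>
          (mem_center_iff.1 (e' ▸ mem_top g : g ∈ center G) a)))
  have hfac : ∀ g ∈ L, ∃ a ∈ L ⊓ A, ∃ b ∈ L ⊓ B, g = a * b := by
    -- `x` normalizes both factors
    intro g hg
    obtain ⟨a, ha, b, hb, rfl⟩ := h.prod g
    have hg' := mem_centralizer_singleton_iff.1 hg
    have h1 : b * x * b⁻¹ * x⁻¹ ∈ A ⊓ B := by
      refine mem_inf.2 ⟨?_, ?_⟩
      · have e : b * x * b⁻¹ = a⁻¹ * x * a := by
          rw [eq_comm, ← mul_right_inj a, ← mul_left_inj b]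
          simp only [mul_assoc, mul_inv_cancel_left, inv_mul_cancel, mul_one]
          rw [← hg']; simp [mul_assoc]
        rw [e]
        exact mul_mem (mul_mem (mul_mem (inv_mem ha) hx) ha) (inv_mem hx)
      · rw [mul_assoc b x, mul_assoc b]
        exact mul_mem hb ((mem_normalizer_iff.1 hxB b⁻¹).1 (inv_mem hb))
    rw [h.inf_eq_bot, mem_bot, mul_inv_eq_one, mul_inv_eq_iff_eq_mul] at h1
    have hbL : b ∈ L := mem_centralizer_singleton_iff.2 h1
    exact ⟨a, ⟨(L.mul_mem_cancel_right hbL).1 hg, ha⟩, b, ⟨hbL, hb⟩, rfl⟩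
  have hQL : (Q : Subgroup G) ≤ L := fun q hq => mem_centralizer_singleton_iff.2
    (mem_centralizer_iff.1 (hQc x hx (hxt ▸ (Nat.coprime_primes ht hs).2 hst.symm)) q hq)
  rw [← h.normalizer_sylow_eq hsA hQA]
  exact h.symm.le_normalizer_sylow_of_center_le hLtop (symm_fact hfac)
    (fun w _ hwc => mem_centralizer_singleton_iff.2
      (mem_centralizer_singleton_iff.1 (hwc hx)).symm) hsA hQA hQL

/-- Elements of `A` commuting with a nontrivial element of `B ∩ N(A)` normalize `B`. -/
theorem mem_normalizer_of_commute (h : CoprimeFactors A B) {a y : G} (_ha : a ∈ A) (hy : y ∈ B)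
    (hy1 : y ≠ 1) (hyA : y ∈ normalizer (A : Set G)) (hay : Commute a y) :
    a ∈ normalizer (B : Set G) := by
  obtain ⟨q, hq, hqy⟩ := Nat.exists_prime_and_dvd (fun e => hy1 (orderOf_eq_one_iff.1 e))
  obtain ⟨i, hi⟩ := exists_pow_prime_order hq hqy (orderOf_pos y).ne'
  exact h.symm.centralizer_le_of_mem_normalizer hq (pow_mem hy i) hi (pow_mem hyA i)
    (mem_centralizer_singleton_iff.2 (hay.pow_right i).eq)

/-- If no nontrivial element of `N(A)` of `B`-order centralizes `x ∈ A`, then `C(x) ≤ A`. -/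
theorem centralizer_le_of_inf (h : CoprimeFactors A B) {x : G} {t : ℕ}
    (ht : t.Prime) (hx : x ∈ A) (hxt : orderOf x = t)
    (hnone : ∀ y ∈ normalizer (A : Set G), Commute y x → (orderOf y).Coprime (Nat.card B)) :
    centralizer {x} ≤ normalizer (A : Set G) := by
  have := h.nilA
  have htF := Fact.mk ht
  obtain ⟨s, hs, hst, hsA⟩ := h.twoA t
  have := Fact.mk hs
  obtain ⟨Q, hQA, -, hQn, hQc⟩ := h.exists_sylow hsA
  have htA : t ∣ Nat.card A := hxt ▸ Subgroup.orderOf_dvd_natCard A hx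
  obtain ⟨P, hPA, -, -, -⟩ := h.exists_sylow htA
  obtain ⟨z, hzA, hz, hzc, hzt⟩ := h.exists_central htA
  obtain ⟨z', hz'A, hz', hz'c, hz's⟩ := h.exists_central hsA
  set X := centralizer ({x} : Set G) with hX
  have hcx : ∀ q ∈ (Q : Subgroup G), Commute q x := fun q hq =>
    mem_centralizer_iff.1 (hQc x hx (hxt ▸ (Nat.coprime_primes ht hs).2 hst.symm)) q hq
  have hQX : (Q : Subgroup G) ≤ X := fun q hq => mem_centralizer_singleton_iff.2 (hcx q hq).eq
  have hXM : X ⊓ normalizer (A : Set G) ≤ A := fun g hg => h.mem_of_mem_normalizer hg.2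
    (hnone g hg.2 (mem_centralizer_singleton_iff.1 hg.1))
  have hPQ : ∀ p ∈ (P : Subgroup G), ∀ q ∈ (Q : Subgroup G), Commute p q := by
    intro p hp q hq
    obtain ⟨i, hi⟩ := (IsPGroup.iff_orderOf.1 P.2) ⟨p, hp⟩
    obtain ⟨j, hj⟩ := (IsPGroup.iff_orderOf.1 Q.2) ⟨q, hq⟩
    rw [Subgroup.orderOf_mk] at hi hj
    exact congrArg Subtype.val (OddLocal.commute_of_coprime_of_isNilpotent h.nilA
      (x := (⟨p, hPA hp⟩ : A)) (y := ⟨q, hQA hq⟩)
      (by rw [Subgroup.orderOf_mk, Subgroup.orderOf_mk, hi, hj]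
          exact ((Nat.coprime_primes ht hs).2 hst.symm).pow i j)).eq
  set P₀ := X ⊓ (P : Subgroup G) with hP₀
  have hzP₀ : z ∈ P₀ := by
    refine mem_inf.2 ⟨mem_centralizer_singleton_iff.2
      (mem_centralizer_singleton_iff.1 (hzc hx)).symm, mem_sylow_of_mem_normalizer P hzt ?_⟩
    rw [h.normalizer_sylow_eq htA hPA]
    exact le_normalizer hzA
  -- everything normalizing `P₀` normalizes `A`
  have hnorm : ∀ c ∈ normalizer (P₀ : Set G), c ∈ normalizer (A : Set G) := fun c hc => by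
    refine h.normalizer_sylow_eq' hsA hQA fun d hd => ?_
    refine h.centralizer_central_le hzA hzc hz (mem_centralizer_singleton_iff.2 ?_)
    rw [mem_conj_smul] at hd
    have h1 : c⁻¹ * z * c ∈ P₀ := by
      simpa using (mem_normalizer_iff.1 (inv_mem hc) z).1 hzP₀
    have h2 := (hPQ _ h1.2 _ hd).eq
    calc d * z = c * ((c⁻¹ * d * c) * (c⁻¹ * z * c)) * c⁻¹ := by group
      _ = c * ((c⁻¹ * z * c) * (c⁻¹ * d * c)) * c⁻¹ := by rw [h2]
      _ = z * d := by group
  -- `P₀` is a Sylow subgroup of `X`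
  obtain ⟨T, hT⟩ := ((P.2.to_le inf_le_right : IsPGroup t P₀).comap_of_injective X.subtype
    X.subtype_injective).exists_le_sylow
  have hTeq : (T : Subgroup X).map X.subtype = P₀ := by
    refine le_antisymm ?_ fun p hp => ⟨⟨p, hp.1⟩, hT hp, rfl⟩
    by_contra hne
    have hlt : P₀ < (T : Subgroup X).map X.subtype :=
      lt_of_le_not_ge (fun p hp => ⟨⟨p, hp.1⟩, hT hp, rfl⟩) hne
    obtain ⟨y, hyT, hyN, hy⟩ :=
      CfsgLib.Transfer.exists_mem_normalizer_not_mem (T.2.map X.subtype) hlt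
    have hyX : y ∈ X := map_subtype_le _ hyT
    have hyA : y ∈ A := hXM ⟨hyX, hnorm y hyN⟩
    refine hy (mem_inf.2 ⟨hyX, mem_sylow_of_mem_normalizer P
      ((T.2.map X.subtype).to_le ((zpowers_le).2 hyT)) ?_⟩)
    rw [h.normalizer_sylow_eq htA hPA]
    exact le_normalizer hyA
  -- `Q` controls its fusion in `X`, which yields a normal `s`-complement
  have hcompl : Cfsg.HasNormalPComplement s X := by
    refine CfsgLib.Transfer.hasNormalPComplement_of_controls_fusion (Q.subtype hQX) ?_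
    intro u hu v hv huv
    obtain ⟨g, hg⟩ := huv
    have hcen : ∀ w : X, (w : G) ∈ (Q : Subgroup G) → (T : Subgroup X) ≤ centralizer {w} := by
      intro w hw p hp
      refine mem_centralizer_singleton_iff.2 (Subtype.ext ?_)
      exact (hPQ _ (hTeq.le (mem_map_of_mem _ hp)).2 _ hw).eq
    have hgT : ((g • T : Sylow t X) : Subgroup X) ≤ centralizer {v} := by
      intro p hp
      have hp' := CfsgLib.Transfer.sylow_smul_mem_iff.1 hp
      have h1 := mem_centralizer_singleton_iff.1 (hcen u hu hp')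
      refine mem_centralizer_singleton_iff.2 ?_
      rw [← hg]
      calc p * (g * u * g⁻¹) = g * ((g⁻¹ * p * g) * u) * g⁻¹ := by group
        _ = g * (u * (g⁻¹ * p * g)) * g⁻¹ := by rw [h1]
        _ = _ := by group
    obtain ⟨c, hc⟩ := MulAction.exists_smul_eq (centralizer ({v} : Set X))
      ((g • T).subtype hgT) (T.subtype (hcen v hv))
    rw [Sylow.smul_subtype hgT] at hc
    have hcT : ((c : X) * g) • T = T := by rw [mul_smul]; exact Sylow.subtype_injective hc
    set n := (c : X) * g with hn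
    have hnu : n * u * n⁻¹ = v := by
      have := mem_centralizer_singleton_iff.1 c.2
      calc (c : X) * g * u * ((c : X) * g)⁻¹ = (c * (g * u * g⁻¹)) * (c : X)⁻¹ := by group
        _ = v := by rw [hg, this]; group
    have hnA : (n : G) ∈ A := by
      refine hXM ⟨n.2, hnorm _ ?_⟩
      rw [← hTeq]
      exact le_normalizer_map X.subtype ⟨n, Sylow.smul_eq_iff_mem_normalizer.1 hcT, rfl⟩
    have := CfsgLib.Transfer.pResidual_normal (G := A) (p := s)
    obtain ⟨q, hq, d, hd, e⟩ := CfsgLib.Transfer.exists_mem_sylow_mul (Q.subtype hQA)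
      (C := Cfsg.pResidual s A) (fun g hg => CfsgLib.Transfer.mem_pResidual_of_coprime hg)
      ⟨(n : G), hnA⟩
    have hres : Cfsg.pResidual s A ≤
        (centralizer ((Q : Subgroup G) : Set G)).comap A.subtype := by
      rw [Cfsg.pResidual, closure_le]
      exact fun g hg => hQc g g.2 ((Subgroup.orderOf_coe g).symm ▸ hg)
    have e' : (n : G) = (q : G) * d := congrArg Subtype.val e
    refine ⟨⟨(q : G), hQX hq⟩, hq, Subtype.ext ?_⟩
    have hdu : (u : G) * (d : G) = (d : G) * u := mem_centralizer_iff.1 (hres hd) (u : G) hu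
    change (q : G) * u * (q : G)⁻¹ = (v : G)
    rw [← hnu]
    change (q : G) * u * (q : G)⁻¹ = (n : G) * u * (n : G)⁻¹
    rw [e']
    calc (q : G) * u * (q : G)⁻¹ = q * ((u : G) * d) * (d : G)⁻¹ * (q : G)⁻¹ := by group
      _ = _ := by rw [hdu]; simp [mul_assoc]
  -- hence no prime of `B` divides `|X|`
  have hXcop : (Nat.card X).Coprime (Nat.card B) := by
    refine Nat.coprime_of_dvd fun q hq hqX hqB => ?_
    have hqF := Fact.mk hq
    set O := (Cfsg.pResidual s X).map X.subtype with hO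
    have hOc : (Nat.card O).Coprime s := by
      rw [hO, card_map_of_injective X.subtype_injective]
      exact CfsgLib.Transfer.hasNormalPComplement_iff_coprime_pResidual.1 hcompl
    have hqO : q ∣ Nat.card O := by
      obtain ⟨y, hy⟩ := exists_prime_orderOf_dvd_card' q hqX
      have hyO : (y : G) ∈ O := mem_map_of_mem _ (CfsgLib.Transfer.mem_pResidual_of_coprime (by
        rw [hy]
        exact (Nat.coprime_primes hq hs).2 fun e =>
          hq.ne_one (Nat.eq_one_of_dvd_coprimes h.cop (e ▸ hsA) hqB)))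
      exact hy ▸ Subgroup.orderOf_coe y ▸ Subgroup.orderOf_dvd_natCard O hyO
    have hz'X : z' ∈ X := mem_centralizer_singleton_iff.2
      (mem_centralizer_singleton_iff.1 (hz'c hx)).symm
    have hXO : X ≤ normalizer (O : Set G) :=
      (normal_subgroupOf_iff_le_normalizer (map_subtype_le _)).1 (by
        rw [← comap_subtype, comap_map_eq_self_of_injective X.subtype_injective]
        exact CfsgLib.Transfer.pResidual_normal)
    obtain ⟨i, hi⟩ := IsPGroup.iff_card.1 hz's
    obtain ⟨R, hR⟩ := Coprime.exists_invariant_sylow (A := zpowers z') (G := O)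
      ((zpowers_le).2 (hXO hz'X)) (by rw [hi]; exact (hOc.pow_right i).symm)
      (Or.inl (Group.isSolvable_of_comm mul_comm')) q
    refine R.ne_bot_of_dvd_card hqO ((map_eq_bot_iff_of_injective _ O.subtype_injective).1
      (h.eq_bot_of_central_normalizes hz'A hz'c hz' (fun p hp hpR => ?_) (hR (mem_zpowers z'))))
    obtain ⟨j, hj⟩ := IsPGroup.iff_card.1 (R.2.map O.subtype)
    exact (Nat.prime_dvd_prime_iff_eq hp hq).1 (hp.dvd_of_dvd_pow (hj ▸ hpR)) ▸ hqB
  obtain ⟨d, hd⟩ := exists_conj_le_aux A h.hall (Nat.card X) X le_rfl fun p hp hpX =>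
    (hp.dvd_mul.1 (h.card_eq ▸ hpX.trans X.card_subgroup_dvd_card)).resolve_right
      fun hpB => hp.ne_one (Nat.eq_one_of_dvd_coprimes hXcop hpX hpB)
  have hdM : d⁻¹ ∈ normalizer (A : Set G) := by
    refine h.normalizer_sylow_eq' hsA hQA ?_
    have h1 := conj_smul_mono d⁻¹ (hQX.trans hd)
    rwa [conj_smul_conj_smul, inv_mul_cancel, conj_one_smul] at h1
  rw [conj_smul_eq_self_iff.2 (inv_mem_iff.1 hdM)] at hd
  exact hd.trans le_normalizer

/-- The centralizer of an element of prime order of `A` normalizes `A`. -/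
theorem centralizer_le_normalizer' (h : CoprimeFactors A B) {x : G} {t : ℕ}
    (ht : t.Prime) (hx : x ∈ A) (hxt : orderOf x = t) :
    centralizer {x} ≤ normalizer (A : Set G) := by
  by_cases hnone : ∀ y ∈ normalizer (A : Set G), Commute y x → (orderOf y).Coprime (Nat.card B)
  · exact h.centralizer_le_of_inf ht hx hxt hnone
  push Not at hnone
  obtain ⟨y, hyM, hyx, hy⟩ := hnone
  obtain ⟨q, hq, hqy, hqB⟩ := Nat.Prime.not_coprime_iff_dvd.1 hy
  obtain ⟨i, hi⟩ := exists_pow_prime_order hq hqy (orderOf_pos y).ne'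
  have := h.nilB
  set M := normalizer (A : Set G) with hM
  set B₁ := (M ⊓ B).subgroupOf M with hB₁
  have hc : Nat.card B₁ = Nat.card (M ⊓ B : Subgroup G) :=
    Nat.card_congr (subgroupOfEquivOfLe inf_le_left).toEquiv
  obtain ⟨hcard, hidx⟩ := h.symm.card_factorized (symm_fact (h.factorized_of_le le_normalizer))
  have hnil : Group.IsNilpotent B₁ := by
    have : Group.IsNilpotent (M ⊓ B : Subgroup G) :=
      (Group.isNilpotent_congr (subgroupOfEquivOfLe inf_le_right)).1 inferInstance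
    exact (Group.isNilpotent_congr (subgroupOfEquivOfLe inf_le_left).symm).1 this
  have hB₁i : B₁.index = Nat.card (M ⊓ A : Subgroup G) := by
    rw [hB₁, ← relIndex, inf_relIndex_left, hidx]
  have hqM : q ∣ Nat.card (M ⊓ B : Subgroup G) := by
    have h1 : q ∣ Nat.card M := hqy.trans (Subgroup.orderOf_dvd_natCard M hyM)
    rw [hcard] at h1
    exact (hq.dvd_mul.1 h1).resolve_right fun h2 => hq.ne_one
      (Nat.eq_one_of_dvd_coprimes h.cop (h2.trans (card_dvd_of_le inf_le_right)) hqB)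
  obtain ⟨m, hm⟩ := exists_conj_le_aux B₁ (by
      rw [hc, hB₁i]
      exact (h.cop.symm.coprime_dvd_left (card_dvd_of_le inf_le_right)).coprime_dvd_right
        (card_dvd_of_le inf_le_right))
    _ (zpowers (⟨y ^ i, pow_mem hyM i⟩ : M)) le_rfl fun p hp hpd => by
      rw [Nat.card_zpowers, Subgroup.orderOf_mk, hi] at hpd
      rw [(Nat.prime_dvd_prime_iff_eq hp hq).1 hpd, hc]
      exact hqM
  obtain ⟨a, ha, b, hb, e⟩ := h.prod (m : G)
  have hbM : b ∈ M := (M.mul_mem_cancel_left (le_normalizer ha)).1 (e ▸ m.2)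
  have h1 : a⁻¹ * y ^ i * a ∈ M ⊓ B := by
    have h2' := (mem_conj_smul (G := M)).1 (hm (mem_zpowers _))
    have h2 : (m : G)⁻¹ * y ^ i * m ∈ M ⊓ B := h2'
    rw [e] at h2
    have := mul_mem (mul_mem (mem_inf.2 ⟨hbM, hb⟩) h2) (inv_mem (mem_inf.2 ⟨hbM, hb⟩))
    simpa [mul_assoc] using this
  have hx' : a⁻¹ * x * a ∈ A := mul_mem (mul_mem (inv_mem ha) hx) ha
  have hord : orderOf (a⁻¹ * x * a) = t := by
    have : a⁻¹ * x * a = MulAut.conj a⁻¹ x := by simp
    rw [this, MulEquiv.orderOf_eq, hxt]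
  have hy'1 : a⁻¹ * y ^ i * a ≠ 1 := fun e' => hq.ne_one (by
    have : a⁻¹ * y ^ i * a = MulAut.conj a⁻¹ (y ^ i) := by simp
    rw [← hi, ← MulEquiv.orderOf_eq (MulAut.conj a⁻¹), ← this, e', orderOf_one])
  have hcomm : Commute (a⁻¹ * x * a) (a⁻¹ * y ^ i * a) := by
    have := (hyx.pow_left i).symm.map (MulAut.conj a⁻¹).toMonoidHom
    simpa using this
  have h3 := h.centralizer_le_of_mem_normalizer ht hx' hord
    (h.mem_normalizer_of_commute hx' h1.2 hy'1 h1.1 hcomm)
  intro g hg
  have hg' : a⁻¹ * g * a ∈ centralizer {a⁻¹ * x * a} := mem_centralizer_singleton_iff.2 (by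
    have := congrArg (fun w => a⁻¹ * w * a) (mem_centralizer_singleton_iff.1 hg)
    simpa [mul_assoc] using this)
  have := mul_mem (mul_mem (le_normalizer ha) (h3 hg')) (inv_mem (le_normalizer ha))
  simpa [mul_assoc] using this

/-- Conjugates of `N(A)` meet only in elements of order prime to `|A|`. -/
theorem mem_of_conj_mem (h : CoprimeFactors A B) {g c : G} (hg : g ∈ normalizer (A : Set G))
    (hgc : c⁻¹ * g * c ∈ normalizer (A : Set G)) (hcop : ¬ (orderOf g).Coprime (Nat.card A)) :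
    c ∈ normalizer (A : Set G) := by
  obtain ⟨t, ht, htg, htA⟩ := Nat.Prime.not_coprime_iff_dvd.1 hcop
  obtain ⟨i, hi⟩ := exists_pow_prime_order ht htg (orderOf_pos g).ne'
  have htB : t.Coprime (Nat.card B) := h.cop.coprime_dvd_left htA
  have hxA : g ^ i ∈ A := h.mem_of_mem_normalizer (pow_mem hg i) (hi.symm ▸ htB)
  have hord : orderOf (c⁻¹ * g ^ i * c) = t := by
    have : c⁻¹ * g ^ i * c = MulAut.conj c⁻¹ (g ^ i) := by simp
    rw [this, MulEquiv.orderOf_eq, hi]
  have hxA' : c⁻¹ * g ^ i * c ∈ A := by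
    refine h.mem_of_mem_normalizer ?_ (hord.symm ▸ htB)
    have := pow_mem hgc i
    rwa [show c⁻¹ * g * c = c⁻¹ * g * c⁻¹⁻¹ by rw [inv_inv], conj_pow, inv_inv] at this
  obtain ⟨s, hs, hst, hsA⟩ := h.twoA t
  have := Fact.mk hs
  obtain ⟨Q, hQA, -, -, hQc⟩ := h.exists_sylow hsA
  refine inv_mem_iff.1 (h.normalizer_sylow_eq' hsA hQA fun d hd => ?_)
  rw [mem_conj_smul, inv_inv] at hd
  have h1 : d ∈ centralizer {c⁻¹ * g ^ i * c} := by
    refine mem_centralizer_singleton_iff.2 ?_
    have h2 := mem_centralizer_iff.1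
      (hQc _ hxA (hi ▸ (Nat.coprime_primes ht hs).2 hst.symm)) _ hd
    calc d * (c⁻¹ * g ^ i * c) = c⁻¹ * ((c * d * c⁻¹) * g ^ i) * c := by group
      _ = c⁻¹ * (g ^ i * (c * d * c⁻¹)) * c := by rw [h2]
      _ = _ := by group
  refine h.mem_of_mem_normalizer (h.centralizer_le_normalizer' ht hxA' hord h1) ?_
  have h3 : orderOf (c * d * c⁻¹) = orderOf d := by
    rw [← MulAut.conj_apply, MulEquiv.orderOf_eq]
  rw [← h3]
  exact h.cop.coprime_dvd_left (Subgroup.orderOf_dvd_natCard A (hQA hd))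

end CfsgLib.Solvable.CoprimeFactors
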