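import Cfsg.Agent.Lib.Solvable.ItoFactor
import Cfsg.Agent.Lib.Solvable.Supersolvable

/-!
# A product of two cyclic subgroups is supersolvable
-/

namespace CfsgLib.Solvable

open Subgroup

universe u

theorem isSupersolvable_of_mul_cyclic_aux : ∀ (n : ℕ) {G : Type u} [Group G] [Finite G]
    (A B : Subgroup G) [IsCyclic A] [IsCyclic B], Nat.card G ≤ n →
    (∀ g : G, ∃ a ∈ A, ∃ b ∈ B, g = a * b) → Cfsg.IsSupersolvable G := by
  intro n
  induction n with
  | zero => intro G _ _ A B _ _ h; exact absurd h (Nat.card_pos (α := G)).not_ge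
  | succ n ih =>
    intro G _ _ A B _ _ hn hAB
    rcases subsingleton_or_nontrivial G with h | h
    · exact isSupersolvable_of_subsingleton G
    have hA : IsMulCommutative A := inferInstance
    have hB : IsMulCommutative B := inferInstance
    obtain ⟨N, hN, hNb, hle⟩ := exists_normal_le_factor_aux (Nat.card G) A B le_rfl hAB
    have : IsCyclic N := by
      rcases hle with h | h
      · exact isCyclic_of_injective (Subgroup.inclusion h) (Subgroup.inclusion_injective h)
      · exact isCyclic_of_injective (Subgroup.inclusion h) (Subgroup.inclusion_injective h)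
    refine isSupersolvable_of_cyclic_normal N ?_
    have : IsCyclic (A.map (QuotientGroup.mk' N)) :=
      isCyclic_of_surjective _ (MonoidHom.subgroupMap_surjective (QuotientGroup.mk' N) A)
    have : IsCyclic (B.map (QuotientGroup.mk' N)) :=
      isCyclic_of_surjective _ (MonoidHom.subgroupMap_surjective (QuotientGroup.mk' N) B)
    refine ih (A.map (QuotientGroup.mk' N)) (B.map (QuotientGroup.mk' N))
      (by have := card_quotient_lt hNb; omega) fun q => ?_
    obtain ⟨g, rfl⟩ := QuotientGroup.mk'_surjective N q
    obtain ⟨a, ha, b, hb, rfl⟩ := hAB g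
    exact ⟨_, mem_map_of_mem _ ha, _, mem_map_of_mem _ hb, map_mul _ _ _⟩

end CfsgLib.Solvable
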