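import Cfsg.Prelude.Def_SolvableStructure
import Cfsg.Agent.Lib.Solvable.Hall
import Mathlib.GroupTheory.Perm.Cycle.Type

/-!
Subgroups of every order: abelian groups, and products with an abelian group.
-/

set_option autoImplicit false

namespace CfsgLib.Solvable

open Subgroup

universe u

theorem exists_subgroup_card_eq_of_comm {A : Type u} [CommGroup A] [Finite A] {d : ℕ}
    (hd : d ∣ Nat.card A) : ∃ H : Subgroup A, Nat.card H = d := by
  induction d using Nat.strong_induction_on generalizing A with
  | _ d ih =>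
    rcases eq_or_ne d 1 with rfl | h1
    · exact ⟨⊥, Subgroup.card_bot⟩
    obtain ⟨p, hp, hpd⟩ := Nat.exists_prime_and_dvd h1
    have : Fact p.Prime := ⟨hp⟩
    obtain ⟨x, hx⟩ := exists_prime_orderOf_dvd_card' p (hpd.trans hd)
    set N := zpowers x
    have hN : Nat.card N = p := (Nat.card_zpowers x).trans hx
    obtain ⟨e, he⟩ := hpd
    have hd0 : d ≠ 0 := fun h => Nat.card_pos.ne' (Nat.eq_zero_of_zero_dvd (h ▸ hd))
    have he0 : 0 < e := Nat.pos_of_ne_zero fun h => hd0 (by rw [he, h, mul_zero])
    have hdq : e ∣ Nat.card (A ⧸ N) := by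
      have h := Subgroup.card_eq_card_quotient_mul_card_subgroup N
      rw [hN] at h
      rw [he, h, mul_comm (Nat.card (A ⧸ N))] at hd
      exact Nat.dvd_of_mul_dvd_mul_left hp.pos hd
    obtain ⟨L, hL⟩ := ih e (by rw [he]; exact lt_mul_of_one_lt_left he0 hp.one_lt) hdq
    exact ⟨L.comap (QuotientGroup.mk' N), by rw [card_comap_mk', hL, hN, he, mul_comm]⟩

theorem hasSubgroupOfEveryOrder_prod {G A : Type*} [Group G] [CommGroup A] [Finite G] [Finite A]
    [Group.IsSolvable G] (hA : ∀ p : ℕ, p.Prime → p ∣ Nat.card A → p ∣ Nat.card G)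
    (hexp : ∀ p : ℕ, p.Prime → p ∣ Nat.card G →
      (Nat.card A).factorization p + 1 = (Nat.card G).factorization p) :
    Cfsg.HasSubgroupOfEveryOrder (G × A) := by
  classical
  intro d hd
  rw [Nat.card_prod] at hd
  have hG0 : Nat.card G ≠ 0 := Nat.card_pos.ne'
  have hA0 : Nat.card A ≠ 0 := Nat.card_pos.ne'
  have hd0 : d ≠ 0 := fun h => mul_ne_zero hG0 hA0 (Nat.eq_zero_of_zero_dvd (h ▸ hd))
  set c := (Nat.card G).factorization with hc
  have hfd : ∀ p, d.factorization p ≤ c p + (Nat.card A).factorization p := fun p => by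
    have := (Nat.factorization_le_iff_dvd hd0 (mul_ne_zero hG0 hA0)).mpr hd p
    rwa [Nat.factorization_mul hG0 hA0, Finsupp.add_apply] at this
  set f := c.filter (fun p => c p ≤ d.factorization p) with hf
  have hfp : ∀ p ∈ f.support, p.Prime := by
    intro p hp
    rw [hf, Finsupp.support_filter, Finset.mem_filter, hc, Nat.support_factorization] at hp
    exact Nat.prime_of_mem_primeFactors hp.1
  set m := f.prod (fun p k => p ^ k) with hm
  have hfm : m.factorization = f := Nat.prod_pow_factorization_eq_self hfp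
  have hm0 : m ≠ 0 := by
    rw [hm, Finsupp.prod]
    exact Finset.prod_ne_zero_iff.mpr fun p hp => pow_ne_zero _ (hfp p hp).ne_zero
  have hmG : m ∣ Nat.card G := by
    refine (Nat.factorization_le_iff_dvd hm0 hG0).mp fun p => ?_
    rw [hfm, hf, Finsupp.filter_apply, ← hc]
    split <;> omega
  obtain ⟨k, hk⟩ := hmG
  have hk0 : k ≠ 0 := fun h => hG0 (by rw [hk, h, mul_zero])
  have hkf : ∀ p, c p = f p + k.factorization p := fun p => by
    rw [hc, hk, Nat.factorization_mul hm0 hk0, Finsupp.add_apply, hfm]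
  have hco : m.Coprime k := by
    refine Nat.coprime_of_dvd fun p hp hpm hpk => ?_
    have h1 := hp.factorization_pos_of_dvd hm0 hpm
    have h2 := hp.factorization_pos_of_dvd hk0 hpk
    have h3 := hkf p
    rw [hfm] at h1
    rw [hf, Finsupp.filter_apply] at h1 h3
    split at h1
    · next hh => rw [if_pos hh] at h3; omega
    · omega
  have hmd : m ∣ d := by
    refine (Nat.factorization_le_iff_dvd hm0 hd0).mp fun p => ?_
    rw [hfm, hf, Finsupp.filter_apply]
    split <;> omega
  obtain ⟨e, he⟩ := hmd
  have he0 : e ≠ 0 := fun h => hd0 (by rw [he, h, mul_zero])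
  have heA : e ∣ Nat.card A := by
    refine (Nat.factorization_le_iff_dvd he0 hA0).mp fun p => ?_
    have h1 : d.factorization p = f p + e.factorization p := by
      rw [he, Nat.factorization_mul hm0 he0, Finsupp.add_apply, hfm]
    have h2 := hfd p
    by_cases hp : p.Prime ∧ p ∣ Nat.card G
    · have h3 := hexp p hp.1 hp.2
      rw [hf, Finsupp.filter_apply] at h1
      split at h1 <;> omega
    · have hc0 : c p = 0 := by
        rw [hc, Nat.factorization_eq_zero_iff]
        tauto
      have hA' : (Nat.card A).factorization p = 0 := by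
        rw [Nat.factorization_eq_zero_iff]
        by_cases hpp : p.Prime
        · exact Or.inr (Or.inl fun h => hp ⟨hpp, hA p hpp h⟩)
        · exact Or.inl hpp
      omega
  obtain ⟨H, hH⟩ := exists_hall hk hco
  obtain ⟨B, hB⟩ := exists_subgroup_card_eq_of_comm heA
  exact ⟨H.prod B, by rw [Nat.card_congr (H.prodEquiv B).toEquiv, Nat.card_prod, hH, hB, he]⟩

end CfsgLib.Solvable
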