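import Cfsg.Agent.Lib.Transfer.Focal

/-!
# Hall subgroups whose focal series terminates
-/

namespace CfsgLib.Solvable

open Subgroup
open scoped commutatorElement

universe u

variable {G : Type u} [Group G] [Finite G]

omit [Finite G] in
theorem focalSubgroup_mono {H K : Subgroup G} (h : H ≤ K) :
    H.focalSubgroup ≤ K.focalSubgroup := by
  rw [focalSubgroup_def, focalSubgroup_def]
  refine closure_mono ?_
  rintro g ⟨hg, x, hx, w, rfl⟩
  exact ⟨h hg, x, h hx, w, rfl⟩

omit [Finite G] in
theorem map_subtype_focalSubgroup_le (K : Subgroup G) (L : Subgroup K) :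
    L.focalSubgroup.map K.subtype ≤ (L.map K.subtype).focalSubgroup := by
  rw [focalSubgroup_def, focalSubgroup_def, MonoidHom.map_closure]
  refine closure_mono ?_
  rintro _ ⟨g, ⟨hg, x, hx, w, rfl⟩, rfl⟩
  exact ⟨mem_map_of_mem _ hg, _, mem_map_of_mem _ hx, (w : G), map_commutatorElement _ _ _⟩

omit [Finite G] in
theorem map_subtype_iterate_focalSubgroup_le (K : Subgroup G) (L : Subgroup K) (n : ℕ) :
    ((fun J : Subgroup K => J.focalSubgroup)^[n] L).map K.subtype ≤
      (fun J : Subgroup G => J.focalSubgroup)^[n] (L.map K.subtype) := by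
  induction n with
  | zero => rfl
  | succ n ih =>
    rw [Function.iterate_succ_apply', Function.iterate_succ_apply']
    exact (map_subtype_focalSubgroup_le K _).trans (focalSubgroup_mono ih)

omit [Finite G] in
/-- A normal subgroup of order prime to its index contains every element whose order divides
its order. -/
theorem mem_of_orderOf_dvd_of_coprime {N : Subgroup G} [N.Normal]
    (h : (Nat.card N).Coprime N.index) {x : G} (hx : orderOf x ∣ Nat.card N) : x ∈ N := by
  rw [← QuotientGroup.eq_one_iff, ← orderOf_eq_one_iff]
  refine Nat.eq_one_of_dvd_coprimes h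
    ((orderOf_map_dvd (QuotientGroup.mk' N) x).trans hx) ?_
  rw [index_eq_card]
  exact orderOf_dvd_natCard _

/-- A Hall subgroup whose focal series reaches the trivial group has a normal complement. -/
theorem exists_normal_complement_of_focal_series : ∀ (n : ℕ) {G : Type u} [Group G] [Finite G]
    (H : Subgroup G), (Nat.card H).Coprime H.index →
    (fun K : Subgroup G => K.focalSubgroup)^[n] H = ⊥ →
    ∃ N : Subgroup G, N.Normal ∧ N.IsComplement' H := by
  intro n
  induction n with
  | zero =>
    intro G _ _ H _ hfoc
    rw [Function.iterate_zero_apply] at hfoc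
    exact ⟨⊤, inferInstance, hfoc ▸ isComplement'_top_bot⟩
  | succ n ih =>
    intro G _ _ H hHall hfoc
    rw [Function.iterate_succ_apply] at hfoc
    have hc : H.index.Coprime (Nat.card (H ⧸ H.focalSubgroupOf)) :=
      hHall.symm.coprime_dvd_right (card_quotient_dvd_card _)
    obtain ⟨-, hKinf, hKsup⟩ := CfsgLib.Transfer.commutator_inf_eq_focal_of_coprime H hc
    set K := H.transferFocal.ker with hKdef
    have hFK : H.focalSubgroup ≤ K := hKinf ▸ inf_le_left
    set L : Subgroup K := H.focalSubgroup.subgroupOf K with hLdef
    have hLmap : L.map K.subtype = H.focalSubgroup := map_subgroupOf_eq_of_le hFK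
    have hLidx : L.index = H.index := by
      have hKn : K.Normal := MonoidHom.normal_ker _
      have h1 : (H ⊓ K).relIndex K * K.index = (H ⊓ K).relIndex H * H.index := by
        rw [relIndex_mul_index inf_le_right, relIndex_mul_index inf_le_left]
      rw [inf_relIndex_left, inf_relIndex_right, ← relIndex_sup_left (K := K) (H := H), hKsup,
        relIndex_top_right, mul_comm K.index] at h1
      rw [hLdef, ← relIndex, ← hKinf, inf_comm, inf_relIndex_right]
      exact Nat.eq_of_mul_eq_mul_right (Nat.pos_of_ne_zero index_ne_zero_of_finite) h1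
    have hLcard : Nat.card L ∣ Nat.card H := by
      rw [← card_map_of_injective K.subtype_injective (K := L), hLmap]
      exact card_dvd_of_le (focalSubgroup_le H)
    have hLHall : (Nat.card L).Coprime L.index := hLidx ▸ hHall.coprime_dvd_left hLcard
    have hLfoc : (fun J : Subgroup K => J.focalSubgroup)^[n] L = ⊥ := by
      refine (map_eq_bot_iff_of_injective _ K.subtype_injective).1 (le_bot_iff.1 ?_)
      refine (map_subtype_iterate_focalSubgroup_le K L n).trans ?_
      rw [hLmap, hfoc]
    obtain ⟨N, hNn, hN⟩ := ih L hLHall hLfoc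
    have hNcard : Nat.card N = H.index := by
      rw [← hLidx]
      exact Nat.eq_of_mul_eq_mul_right Nat.card_pos (by rw [hN.card_mul_card, mul_comm, card_mul_index])
    have hNHall : (Nat.card N).Coprime N.index := by
      have h1 : N.index = Nat.card L := Nat.eq_of_mul_eq_mul_left Nat.card_pos
        (by rw [card_mul_index, hN.card_mul_card])
      rw [hNcard, h1]
      exact (hHall.coprime_dvd_left hLcard).symm
    refine ⟨N.map K.subtype, ⟨?_⟩, ?_⟩
    · rintro _ ⟨x, hx, rfl⟩ g
      have hxK : g * (x : G) * g⁻¹ ∈ K :=
        (MonoidHom.normal_ker H.transferFocal).conj_mem _ x.2 g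
      refine ⟨⟨_, hxK⟩, mem_of_orderOf_dvd_of_coprime hNHall ?_, rfl⟩
      have h1 : orderOf (g * (x : G) * g⁻¹) = orderOf x := by
        rw [← MulAut.conj_apply, MulEquiv.orderOf_eq, Subgroup.orderOf_coe]
      rw [← Subgroup.orderOf_coe]
      exact h1 ▸ N.orderOf_dvd_natCard hx
    · refine isComplement'_of_coprime ?_ ?_
      · rw [card_map_of_injective K.subtype_injective, hNcard, mul_comm, H.card_mul_index]
      · rw [card_map_of_injective K.subtype_injective, hNcard]
        exact hHall.symm

end CfsgLib.Solvable
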