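import Cfsg.Agent.Lib.Solvable.SupersolvableAction
import Cfsg.Agent.Lib.Solvable.Frattini
import Cfsg.Agent.Lib.Solvable.PCore
import Cfsg.Agent.Lib.Solvable.Products
import Cfsg.Agent.Lib.Coprime.Action
import Cfsg.Agent.Lib.StructB.SuperTower
import Mathlib.GroupTheory.SchurZassenhaus

/-!
Huppert's criterion: maximal subgroups of prime index force supersolvability.
-/

set_option autoImplicit false

namespace CfsgLib.Solvable

open Subgroup
open scoped Pointwise commutatorElement

universe u

/-- The Sylow subgroup for the largest prime of a supersolvable group is normal. -/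
theorem sylow_normal_of_isSupersolvable {G : Type u} [Group G] [Finite G]
    (h : Cfsg.IsSupersolvable G) {p : ℕ} [hp : Fact p.Prime]
    (hmax : ∀ q : ℕ, q.Prime → q ∣ Nat.card G → q ≤ p) (P : Sylow p G) :
    (P : Subgroup G).Normal := by
  obtain ⟨N, hN, hc, hi⟩ := CfsgLib.StructB.exists_tower_of_supersolvable h p
  obtain ⟨k, hk⟩ : ∃ k, Nat.card N = p ^ k :=
    ⟨_, Nat.eq_prime_pow_of_unique_prime_dvd Nat.card_pos.ne' fun {r} hr hrd =>
      le_antisymm (hmax r hr (hrd.trans N.card_subgroup_dvd_card)) (hc r hr hrd)⟩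
  have hd : ¬ p ∣ N.index := fun hd => lt_irrefl p (hi p hp.out hd)
  have hle : N ≤ (P : Subgroup G) := normal_pgroup_le_sylow (IsPGroup.of_card hk) P
  have he := ((IsPGroup.of_card hk).toSylow hd).3 P.2 (by rw [IsPGroup.toSylow_coe]; exact hle)
  rw [he, IsPGroup.toSylow_coe]
  exact hN

/-- Sylow counting: `|G : M| ≡ 1 (mod p)` if `N(P) ≤ M`. -/
theorem index_modEq_one_of_normalizer_le {G : Type*} [Group G] [Finite G] {p : ℕ} [Fact p.Prime]
    (P : Sylow p G) {M : Subgroup G} (h : normalizer (P : Set G) ≤ M) : M.index ≡ 1 [MOD p] := by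
  have hPM : (P : Subgroup G) ≤ M := le_trans Subgroup.le_normalizer h
  set Q := P.subtype hPM
  have h1 := card_sylow_modEq_one p G
  rw [Sylow.card_eq_index_normalizer P] at h1
  have h2 := card_sylow_modEq_one p M
  rw [Sylow.card_eq_index_normalizer Q] at h2
  have h3 : (normalizer (Q : Set M)).index = (normalizer (P : Set G)).relIndex M := by
    rw [Subgroup.relIndex]
    congr 1
    show normalizer ((Q : Subgroup M) : Set M) = (normalizer ((P : Subgroup G) : Set G)).subgroupOf M
    rw [Sylow.coe_subtype, Subgroup.subgroupOf_normalizer_eq hPM]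
  rw [h3] at h2
  rw [← Subgroup.relIndex_mul_index h] at h1
  calc M.index = 1 * M.index := (one_mul _).symm
    _ ≡ (normalizer (P : Set G)).relIndex M * M.index [MOD p] := Nat.ModEq.mul_right _ h2.symm
    _ ≡ 1 [MOD p] := h1

/-- Quotients inherit the condition on maximal subgroups. -/
theorem quotient_coatom_index {G : Type*} [Group G] {N : Subgroup G} [N.Normal]
    (h : ∀ M : Subgroup G, IsCoatom M → M.index.Prime) (M : Subgroup (G ⧸ N)) (hM : IsCoatom M) :
    M.index.Prime := by
  rw [← M.index_comap_of_surjective (QuotientGroup.mk'_surjective N)]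
  exact h _ (Subgroup.isCoatom_comap_of_surjective (QuotientGroup.mk'_surjective N) hM)

/-- If all maximal subgroups have prime index, the Sylow subgroup for the largest prime is
normal. -/
theorem sylow_normal_of_coatom_index_prime {G : Type*} [Group G] [Finite G]
    (h : ∀ M : Subgroup G, IsCoatom M → M.index.Prime) {p : ℕ} [hp : Fact p.Prime]
    (hmax : ∀ q : ℕ, q.Prime → q ∣ Nat.card G → q ≤ p) (P : Sylow p G) :
    (P : Subgroup G).Normal := by
  have : Finite (Subgroup G) := Finite.of_injective _ SetLike.coe_injective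
  by_contra hn
  rw [← Subgroup.normalizer_eq_top_iff] at hn
  obtain ⟨M, hM, hle⟩ := (eq_top_or_exists_le_coatom _).resolve_left hn
  have h1 := index_modEq_one_of_normalizer_le P hle
  have hq := h M hM
  have hqp := hmax _ hq (M.index_dvd_card)
  unfold Nat.ModEq at h1
  rw [Nat.one_mod_eq_one.mpr hp.out.ne_one] at h1
  rcases hqp.lt_or_eq with hlt | he
  · rw [Nat.mod_eq_of_lt hlt] at h1; exact hq.ne_one h1
  · rw [he, Nat.mod_self] at h1; exact zero_ne_one h1

theorem exists_largest_prime {n : ℕ} (hn : 1 < n) :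
    ∃ p : ℕ, p.Prime ∧ p ∣ n ∧ ∀ q : ℕ, q.Prime → q ∣ n → q ≤ p := by
  have hne : n.primeFactors.Nonempty := Nat.nonempty_primeFactors.mpr hn
  refine ⟨n.primeFactors.max' hne, ?_, ?_, fun q hq hd => ?_⟩
  · exact Nat.prime_of_mem_primeFactors (Finset.max'_mem _ hne)
  · exact Nat.dvd_of_mem_primeFactors (Finset.max'_mem _ hne)
  · exact Finset.le_max' _ _ (Nat.mem_primeFactors.mpr ⟨hq, hd, by omega⟩)

theorem isSolvable_of_coatom_index_prime {G : Type u} [Group G] [Finite G]
    (h : ∀ M : Subgroup G, IsCoatom M → M.index.Prime) : Group.IsSolvable G := by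
  induction hn : Nat.card G using Nat.strong_induction_on generalizing G with
  | _ n ih =>
    subst hn
    rcases subsingleton_or_nontrivial G with hs | hs
    · exact Group.isSolvable_of_comm fun a b => Subsingleton.elim _ _
    obtain ⟨p, hp, hpd, hmax⟩ := exists_largest_prime (Finite.one_lt_card (α := G))
    have : Fact p.Prime := ⟨hp⟩
    obtain ⟨P⟩ := (inferInstance : Nonempty (Sylow p G))
    have hPn := sylow_normal_of_coatom_index_prime h hmax P
    have hq := ih _ (card_quotient_lt (P.ne_bot_of_dvd_card hpd)) (quotient_coatom_index h) rfl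
    have : Group.IsNilpotent (P : Subgroup G) := P.2.isNilpotent
    exact (Group.isSolvable_iff_subgroup_quotient (P : Subgroup G)).mpr ⟨inferInstance, hq⟩

theorem isSupersolvable_of_coatom_index_prime {G : Type u} [Group G] [Finite G]
    (h : ∀ M : Subgroup G, IsCoatom M → M.index.Prime) : Cfsg.IsSupersolvable G := by
  induction hn : Nat.card G using Nat.strong_induction_on generalizing G with
  | _ n ih =>
    subst hn
    rcases subsingleton_or_nontrivial G with hs | hs
    · exact isSupersolvable_of_subsingleton G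
    obtain ⟨p, hp, hpd, hmax⟩ := exists_largest_prime (Finite.one_lt_card (α := G))
    have : Fact p.Prime := ⟨hp⟩
    obtain ⟨S⟩ := (inferInstance : Nonempty (Sylow p G))
    set P : Subgroup G := (S : Subgroup G)
    have hPn : P.Normal := sylow_normal_of_coatom_index_prime h hmax S
    have hPne : P ≠ ⊥ := S.ne_bot_of_dvd_card hpd
    obtain ⟨N, hNn, hNne, hNP, hmin⟩ := exists_minimal_normal_le hPn hPne
    have hNp : IsPGroup p N := S.2.to_le hNP
    have : Group.IsSolvable N := by
      have := hNp.isNilpotent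
      infer_instance
    have := isMulCommutative_of_minimal_normal hNne hmin
    have hQ := ih _ (card_quotient_lt hNne) (quotient_coatom_index h) rfl
    by_cases hΦ : N ≤ frattini G
    swap
    · -- complemented: cyclic of prime order
      obtain ⟨M, hM, hsup, hle⟩ := exists_coatom_sup_eq_top hΦ
      have hcyc : (Nat.card N).Prime := by
        have hn' := inf_normal_of_sup_eq_top hsup
        rcases hmin _ hn' inf_le_left with he | he
        · have hc := card_mul_set N M
          rw [← Subgroup.normal_mul, hsup, Subgroup.coe_top, Nat.card_coe_set_eq, Set.ncard_univ,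
            ← M.card_mul_index] at hc
          have h2 : M.index = M.relIndex N := Nat.eq_of_mul_eq_mul_left Nat.card_pos hc
          rw [← Subgroup.inf_relIndex_left, he, Subgroup.relIndex_bot_left] at h2
          rw [← h2]; exact h M hM
        · exact absurd (inf_eq_left.mp he) hle
      have := isCyclic_of_card_prime hcyc
      exact isSupersolvable_of_cyclic_normal N hQ
    -- `N` in the Frattini subgroup
    obtain ⟨j, hj⟩ := IsPGroup.iff_card.mp S.2
    have hcopP : (Nat.card P).Coprime P.index := by
      show (Nat.card S).Coprime _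
      rw [hj]
      exact Nat.Coprime.pow_left _ (hp.coprime_iff_not_dvd.mpr S.not_dvd_index)
    obtain ⟨H, hH⟩ := Subgroup.exists_right_complement'_of_coprime (N := P) hcopP
    have hHcard : Nat.card H = P.index := hH.symm.index_eq_card.symm
    have hHp : ∀ x ∈ H, (orderOf x).Coprime p := fun x hx =>
      (Nat.Coprime.coprime_dvd_left (hHcard ▸ Subgroup.orderOf_dvd_natCard H hx)
        (hp.coprime_iff_not_dvd.mpr S.not_dvd_index).symm)
    have hHs : Cfsg.IsSupersolvable H := by
      have hQ' := ih _ (card_quotient_lt hPne) (quotient_coatom_index h) rfl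
      exact isSupersolvable_of_surjective hH.symm.QuotientMulEquiv.toMonoidHom (MulEquiv.surjective _) hQ'
    set π := QuotientGroup.mk' N with hπ
    have hs' : Function.Surjective π := QuotientGroup.mk'_surjective N
    have : (P.map π).Normal := Subgroup.Normal.map ‹_› π hs'
    set D : Subgroup G := H ⊓ (centralizer ((P.map π : Subgroup (G ⧸ N)) : Set (G ⧸ N))).comap π
    have hmemD : ∀ x ∈ H, (∃ a b : G, x = ⁅a, b⁆) ∨ (∃ a : G, x = a ^ (p - 1)) → x ∈ D :=
      fun x hx hx2 => ⟨hx, mem_centralizer_of_isSupersolvable hQ (P := P.map π) (S.2.map π)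
        ((hHp x hx).coprime_dvd_left (orderOf_map_dvd π x))
        (hx2.imp (fun ⟨a, b, e⟩ => ⟨π a, π b, by rw [e, map_commutatorElement]⟩)
          fun ⟨a, e⟩ => ⟨π a, by rw [e, map_pow]⟩)⟩
    set C := P ⊓ centralizer (D : Set G)
    have hHC : H ≤ normalizer (C : Set G) := by
      intro x hx
      have hxD : MulAut.conj x • D = D := by
        rw [Subgroup.smul_inf, Subgroup.conj_smul_eq_self_of_mem hx, Subgroup.Normal.conj_smul_eq_self]
      have hxn : x ∈ normalizer (D : Set G) := conj_smul_eq_self_iff.mp hxD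
      have hinv : ∀ y ∈ normalizer (D : Set G), ∀ c ∈ C, y * c * y⁻¹ ∈ C := by
        intro y hy c hc
        refine ⟨hPn.conj_mem c hc.1 y, mem_centralizer_iff.mpr fun d hd => ?_⟩
        have hd' : y⁻¹ * d * y ∈ D := (Subgroup.mem_normalizer_iff''.mp hy d).mp hd
        have hcd := mem_centralizer_iff.mp hc.2 _ hd'
        calc d * (y * c * y⁻¹) = y * ((y⁻¹ * d * y) * c) * y⁻¹ := by group
          _ = y * c * y⁻¹ * d := by rw [hcd]; group
      rw [Subgroup.mem_normalizer_iff]
      refine fun c => ⟨hinv x hxn c, fun hc => ?_⟩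
      simpa [mul_assoc] using hinv x⁻¹ (inv_mem hxn) _ hc
    have hPD : ∀ x ∈ P, x ∈ centralizer (D : Set G) := by
      have hcopD : (Nat.card D).Coprime (Nat.card P) := by
        refine Nat.Coprime.coprime_dvd_left (Subgroup.card_dvd_of_le inf_le_left) ?_
        rw [hHcard]; exact hcopP.symm
      have hsolN : Group.IsSolvable D ∨ Group.IsSolvable N := Or.inr inferInstance
      have hdec : ∀ x ∈ P, ∃ c ∈ C, ∃ m ∈ N, x = c * m := by
        intro x hx
        obtain ⟨m, hm, hc⟩ := CfsgLib.Coprime.exists_mem_centralizer_of_coset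
          (A := D) (G := P) (N := N) Subgroup.le_normalizer_of_normal
          Subgroup.le_normalizer_of_normal hNP hcopD hsolN hx fun d hd => by
            have h2 := mem_centralizer_iff.mp hd.2 (π x) ⟨x, hx, rfl⟩
            rw [← QuotientGroup.eq_one_iff]
            change π (x⁻¹ * d * x * d⁻¹) = 1
            rw [map_mul, map_mul, map_mul, map_inv, map_inv, mul_assoc _ (π d), ← h2]
            group
        exact ⟨x * m, ⟨mul_mem hx (hNP hm), hc⟩, m⁻¹, inv_mem hm, by group⟩
      have htop : C ⊔ H = ⊤ := by
        refine eq_top_of_sup_eq_top_of_le_frattini hΦ (eq_top_iff.mpr ?_)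
        rw [← hH.sup_eq_top]
        refine sup_le (fun x hx => ?_) ((le_sup_right (a := C)).trans le_sup_left)
        obtain ⟨c, hc, m, hm, rfl⟩ := hdec x hx
        exact mul_mem (mem_sup_left (mem_sup_left hc)) (mem_sup_right hm)
      intro x hx
      have hx' : x ∈ ((C ⊔ H : Subgroup G) : Set G) := by rw [htop]; trivial
      rw [Subgroup.coe_mul_of_right_le_normalizer_left C H hHC] at hx'
      obtain ⟨c, hc, y, hy, rfl⟩ := Set.mem_mul.mp hx'
      have : y ∈ P ⊓ H := ⟨(P.mul_mem_cancel_left hc.1).mp hx, hy⟩
      rw [hH.disjoint.eq_bot, Subgroup.mem_bot] at this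
      rw [this, mul_one]; exact hc.2
    refine isSupersolvable_of_action S.2 hH.sup_eq_top hHs ?_ ?_
    · intro a ha b hb
      refine mem_centralizer_iff.mpr fun x hx => (mem_centralizer_iff.mp (hPD x hx) _ ?_).symm
      exact hmemD _ (by rw [commutatorElement_def]; exact mul_mem (mul_mem (mul_mem ha hb) (inv_mem ha)) (inv_mem hb))
        (Or.inl ⟨a, b, rfl⟩)
    · intro a ha
      refine mem_centralizer_iff.mpr fun x hx => (mem_centralizer_iff.mp (hPD x hx) _ ?_).symm
      exact hmemD _ (pow_mem ha _) (Or.inr ⟨a, rfl⟩)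

end CfsgLib.Solvable
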