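import Mathlib.GroupTheory.Solvable
import Mathlib.GroupTheory.Commutator.Basic
import Mathlib.Algebra.Group.Subgroup.Pointwise
import Mathlib.Tactic.Group

/-!
Itô: a product of two abelian subgroups is metabelian.
-/

set_option autoImplicit false

namespace CfsgLib.Solvable

open Subgroup
open scoped commutatorElement

variable {G : Type*} [Group G]

/-- The derived subgroup of `G = AB` (`A`, `B` abelian) is `⁅A, B⁆`. -/
theorem commutator_le_of_mul_eq {A B : Subgroup G} [hA : IsMulCommutative A]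
    [hB : IsMulCommutative B] (hAB : ∀ g : G, ∃ a ∈ A, ∃ b ∈ B, g = a * b) :
    commutator G ≤ ⁅A, B⁆ := by
  have htop : normalizer ((⁅A, B⁆ : Subgroup G) : Set G) = ⊤ := by
    refine eq_top_iff.mpr fun g _ => ?_
    obtain ⟨a, ha, b, hb, rfl⟩ := hAB g
    exact mul_mem (normalizer_commutator_ge_left A B ha) (normalizer_commutator_ge_right A B hb)
  have : (⁅A, B⁆ : Subgroup G).Normal := normalizer_eq_top_iff.mp htop
  have hab : ∀ x y : G, QuotientGroup.mk' ⁅A, B⁆ x * QuotientGroup.mk' ⁅A, B⁆ y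
      = QuotientGroup.mk' ⁅A, B⁆ y * QuotientGroup.mk' ⁅A, B⁆ x := by
    set π := QuotientGroup.mk' ⁅A, B⁆
    have hAB' : ∀ a ∈ A, ∀ b ∈ B, π a * π b = π b * π a := fun a ha b hb => by
      rw [← commutatorElement_eq_one_iff_mul_comm, ← map_commutatorElement]
      exact (QuotientGroup.eq_one_iff _).mpr (commutator_mem_commutator ha hb)
    intro x y
    obtain ⟨a, ha, b, hb, rfl⟩ := hAB x
    obtain ⟨c, hc, d, hd, rfl⟩ := hAB y
    have h1 : π a * π c = π c * π a := by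
      rw [← map_mul, ← map_mul]
      exact congrArg π (congrArg Subtype.val (hA.is_comm.comm ⟨a, ha⟩ ⟨c, hc⟩))
    have h2 : π b * π d = π d * π b := by
      rw [← map_mul, ← map_mul]
      exact congrArg π (congrArg Subtype.val (hB.is_comm.comm ⟨b, hb⟩ ⟨d, hd⟩))
    have c1 : Commute (π a) (π c * π d) :=
      (show Commute (π a) (π c) from h1).mul_right (hAB' a ha d hd)
    have c2 : Commute (π b) (π c * π d) :=
      (show Commute (π b) (π c) from (hAB' c hc b hb).symm).mul_right h2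
    rw [map_mul, map_mul]
    exact c1.mul_left c2
  rw [commutator_def, commutator_le]
  intro x _ y _
  rw [← QuotientGroup.eq_one_iff]
  change QuotientGroup.mk' _ ⁅x, y⁆ = 1
  rw [map_commutatorElement, commutatorElement_eq_one_iff_mul_comm]
  exact hab x y

/-- Itô's computation: `⁅A, B⁆` is abelian when `G = AB` with `A`, `B` abelian. -/
theorem isMulCommutative_commutator_of_mul_eq {A B : Subgroup G} [hA : IsMulCommutative A]
    [hB : IsMulCommutative B] (hAB : ∀ g : G, ∃ a ∈ A, ∃ b ∈ B, g = a * b) :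
    IsMulCommutative (⁅A, B⁆ : Subgroup G) := by
  have cA : ∀ a ∈ A, ∀ c ∈ A, a * c = c * a := fun a ha c hc =>
    congrArg Subtype.val (hA.is_comm.comm ⟨a, ha⟩ ⟨c, hc⟩)
  have cB : ∀ a ∈ B, ∀ c ∈ B, a * c = c * a := fun a ha c hc =>
    congrArg Subtype.val (hB.is_comm.comm ⟨a, ha⟩ ⟨c, hc⟩)
  -- conjugates of a commutator by `a₁ b₁` and `b₁ a₁` agree
  have key : ∀ a ∈ A, ∀ b ∈ B, ∀ c ∈ A, ∀ d ∈ B,
      d⁻¹ * (c⁻¹ * (a⁻¹ * b⁻¹ * a * b) * c) * d = c⁻¹ * (d⁻¹ * (a⁻¹ * b⁻¹ * a * b) * d) * c := by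
    intro a ha b hb c hc d hd
    obtain ⟨a2, ha2, b2, hb2, h2⟩ := hAB (c⁻¹ * b * c)
    obtain ⟨a3', ha3', b3', hb3', h3'⟩ := hAB (d⁻¹ * a⁻¹ * d)
    have h3 : d⁻¹ * a * d = b3'⁻¹ * a3'⁻¹ := by rw [← mul_inv_rev, ← h3']; group
    have e1 : c⁻¹ * (a⁻¹ * b⁻¹ * a * b) * c = a⁻¹ * b2⁻¹ * a * b2 := by
      have hac : c⁻¹ * a * c = a := by rw [mul_assoc, cA a ha c hc, inv_mul_cancel_left]
      calc c⁻¹ * (a⁻¹ * b⁻¹ * a * b) * c
          = (c⁻¹ * a * c)⁻¹ * (c⁻¹ * b * c)⁻¹ * (c⁻¹ * a * c) * (c⁻¹ * b * c) := by group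
        _ = a⁻¹ * b2⁻¹ * a2⁻¹ * (a * a2) * b2 := by rw [h2, hac]; group
        _ = a⁻¹ * b2⁻¹ * a * b2 := by rw [cA a ha a2 ha2]; group
    have e2 : ∀ e ∈ B, d⁻¹ * (a⁻¹ * e⁻¹ * a * e) * d = a3' * e⁻¹ * a3'⁻¹ * e := by
      intro e he
      have hed : d⁻¹ * e * d = e := by rw [mul_assoc, cB e he d hd, inv_mul_cancel_left]
      have hbe : b3' * e⁻¹ = e⁻¹ * b3' := cB _ hb3' _ (B.inv_mem he)
      calc d⁻¹ * (a⁻¹ * e⁻¹ * a * e) * d
          = (d⁻¹ * a * d)⁻¹ * (d⁻¹ * e * d)⁻¹ * (d⁻¹ * a * d) * (d⁻¹ * e * d) := by group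
        _ = a3' * (b3' * e⁻¹) * b3'⁻¹ * a3'⁻¹ * e := by rw [h3, hed]; group
        _ = a3' * e⁻¹ * a3'⁻¹ * e := by rw [hbe]; group
    rw [e1, e2 b2 hb2, e2 b hb]
    have hac : c⁻¹ * a3' * c = a3' := by rw [mul_assoc, cA _ ha3' c hc, inv_mul_cancel_left]
    calc a3' * b2⁻¹ * a3'⁻¹ * b2 = a3' * b2⁻¹ * (a2⁻¹ * a3'⁻¹ * a2) * b2 := by
          rw [mul_assoc a2⁻¹, cA a3'⁻¹ (A.inv_mem ha3') a2 ha2, inv_mul_cancel_left]
      _ = (c⁻¹ * a3' * c) * (c⁻¹ * b * c)⁻¹ * (c⁻¹ * a3' * c)⁻¹ * (c⁻¹ * b * c) := by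
          rw [h2, hac]; group
      _ = c⁻¹ * (a3' * b⁻¹ * a3'⁻¹ * b) * c := by group
  rw [Subgroup.commutator_def]
  refine Subgroup.isMulCommutative_closure ?_
  rintro x ⟨a, ha, b, hb, rfl⟩ y ⟨c, hc, d, hd, rfl⟩
  have h := key a⁻¹ (A.inv_mem ha) b⁻¹ (B.inv_mem hb) c hc d hd
  simp only [inv_inv] at h
  rw [commutatorElement_def, commutatorElement_def]
  set X := a * b * a⁻¹ * b⁻¹
  calc X * (c * d * c⁻¹ * d⁻¹) = c * d * (d⁻¹ * (c⁻¹ * X * c) * d) * c⁻¹ * d⁻¹ := by group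
    _ = c * d * (c⁻¹ * (d⁻¹ * X * d) * c) * c⁻¹ * d⁻¹ := by rw [h]
    _ = c * d * c⁻¹ * d⁻¹ * X := by group

/-- Itô's theorem. -/
theorem derivedSeries_two_of_mul_eq {A B : Subgroup G} [IsMulCommutative A] [IsMulCommutative B]
    (hAB : ∀ g : G, ∃ a ∈ A, ∃ b ∈ B, g = a * b) : derivedSeries G 2 = ⊥ := by
  have hab := isMulCommutative_commutator_of_mul_eq hAB
  rw [derivedSeries_succ, derivedSeries_one, eq_bot_iff]
  refine (commutator_mono (commutator_le_of_mul_eq hAB) (commutator_le_of_mul_eq hAB)).trans ?_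
  rw [commutator_le]
  intro x hx y hy
  rw [Subgroup.mem_bot, commutatorElement_eq_one_iff_mul_comm]
  exact congrArg Subtype.val (hab.is_comm.comm ⟨x, hx⟩ ⟨y, hy⟩)

end CfsgLib.Solvable
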