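import Cfsg.Agent.Lib.Solvable.Ito
import Cfsg.Agent.Lib.Solvable.Carter
import Cfsg.Agent.Lib.Solvable.KegelWielandt

/-!
# Itô: a product of two abelian subgroups has a normal subgroup inside a factor
-/

namespace CfsgLib.Solvable

open Subgroup
open scoped Pointwise commutatorElement

universe u

theorem commute_of_isMulCommutative {G : Type*} [Group G] {A : Subgroup G} [IsMulCommutative A]
    {a b : G} (ha : a ∈ A) (hb : b ∈ A) : a * b = b * a :=
  congrArg Subtype.val (mul_comm' (⟨a, ha⟩ : A) ⟨b, hb⟩)

theorem isCarterSubgroup_of_supplement {G : Type*} [Group G] {A : Subgroup G}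
    [IsMulCommutative A] (hG' : IsMulCommutative (commutator G))
    (hsup : A ⊔ commutator G = ⊤) (hZ : center G = ⊥) : Cfsg.IsCarterSubgroup A := by
  have := hG'
  refine ⟨by open scoped IsMulCommutative in infer_instance, ?_⟩
  have hcentral : ∀ z : G, (∀ a ∈ A, a * z = z * a) → (∀ c ∈ commutator G, c * z = z * c) →
      z = 1 := by
    intro z h1 h2
    rw [← mem_bot, ← hZ, mem_center_iff]
    intro g
    have hg : g ∈ centralizer {z} := by
      refine (show A ⊔ commutator G ≤ centralizer {z} from sup_le ?_ ?_) (hsup ▸ mem_top g)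
      · exact fun a ha => mem_centralizer_singleton_iff.2 (h1 a ha)
      · exact fun c hc => mem_centralizer_singleton_iff.2 (h2 c hc)
    exact mem_centralizer_singleton_iff.1 hg
  refine le_antisymm (fun g hg => ?_) le_normalizer
  have hg' : g ∈ ((A ⊔ commutator G : Subgroup G) : Set G) := by rw [hsup]; exact mem_top g
  rw [Subgroup.mul_normal] at hg'
  obtain ⟨a, ha, c, hc, rfl⟩ := hg'
  have hcN : c ∈ normalizer (A : Set G) := (Subgroup.mul_mem_cancel_left _ (le_normalizer ha)).1 hg
  suffices hc1 : c = 1 by
    subst hc1
    simpa using ha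
  refine hcentral c (fun x hx => ?_) fun d hd => commute_of_isMulCommutative hd hc
  have h1 : ⁅c, x⁆ ∈ A ⊓ commutator G := mem_inf.2 ⟨mul_mem ((mem_normalizer_iff.1 hcN x).1 hx)
    (inv_mem hx), commutator_mem_commutator (mem_top c) (mem_top x)⟩
  have h2 : ⁅c, x⁆ = 1 := hcentral _ (fun y hy => commute_of_isMulCommutative hy h1.1)
    fun d hd => commute_of_isMulCommutative hd h1.2
  exact (commutatorElement_eq_one_iff_mul_comm.1 h2).symm

theorem exists_normal_le_factor_aux : ∀ (n : ℕ) {G : Type u} [Group G] [Finite G] [Nontrivial G]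
    (A B : Subgroup G) [IsMulCommutative A] [IsMulCommutative B], Nat.card G ≤ n →
    (∀ g : G, ∃ a ∈ A, ∃ b ∈ B, g = a * b) →
    ∃ N : Subgroup G, N.Normal ∧ N ≠ ⊥ ∧ (N ≤ A ∨ N ≤ B) := by
  intro n
  induction n with
  | zero => intro G _ _ _ A B _ _ h; exact absurd h (Nat.card_pos (α := G)).not_ge
  | succ n ih =>
    intro G _ _ _ A B _ _ hn hAB
    by_contra hnone
    push Not at hnone
    have hAB' : ∀ g : G, ∃ b ∈ B, ∃ a ∈ A, g = b * a := fun g => by
      obtain ⟨a, ha, b, hb, e⟩ := hAB g⁻¹
      exact ⟨b⁻¹, inv_mem hb, a⁻¹, inv_mem ha, by rw [← mul_inv_rev, ← e, inv_inv]⟩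
    -- there are no central elements
    have central : ∀ z ∈ center G, z ∈ A ∨ z ∈ B → z = 1 := by
      intro z hz hzAB
      by_contra hz1
      have hn : (zpowers z).Normal := ⟨fun x hx g => by
        have hxz := mem_center_iff.1 ((zpowers_le).2 hz hx) g
        rw [hxz, mul_inv_cancel_right]; exact hx⟩
      have := hnone _ hn (fun e => hz1 (zpowers_eq_bot.1 e))
      exact hzAB.elim (fun h => this.1 ((zpowers_le).2 h)) (fun h => this.2 ((zpowers_le).2 h))
    have hZ : center G = ⊥ := by
      refine (eq_bot_iff_forall _).2 fun z hz => ?_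
      obtain ⟨a, ha, b, hb, rfl⟩ := hAB z
      have ha' : a ∈ center G := by
        refine mem_center_iff.2 fun g => ?_
        obtain ⟨x, hx, y, hy, rfl⟩ := hAB g
        have h1 : a * y = y * a := by
          have h := mem_center_iff.1 hz y
          have h2 := commute_of_isMulCommutative hb hy
          rw [← mul_assoc, mul_assoc a b y, h2, ← mul_assoc] at h
          exact (mul_right_cancel h).symm
        rw [mul_assoc, ← h1, ← mul_assoc, commute_of_isMulCommutative hx ha, mul_assoc]
      have hb' : b ∈ center G := by simpa using mul_mem (inv_mem ha') hz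
      rw [central a ha' (Or.inl ha), central b hb' (Or.inr hb), mul_one]
    have hG'ab : IsMulCommutative (commutator G) := by
      have := isMulCommutative_commutator_of_mul_eq hAB
      have hle := commutator_le_of_mul_eq hAB
      exact ⟨⟨fun a b => Subtype.ext (commute_of_isMulCommutative (hle a.2) (hle b.2))⟩⟩
    -- each factor supplements `G'`
    have side : ∀ (A B : Subgroup G), IsMulCommutative A → IsMulCommutative B →
        (∀ g : G, ∃ a ∈ A, ∃ b ∈ B, g = a * b) →
        (∀ N : Subgroup G, N.Normal → N ≠ ⊥ → ¬N ≤ A ∧ ¬N ≤ B) →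
        A ⊔ commutator G = ⊤ := by
      intro A B _ _ hAB hnone
      by_contra hM
      set M := A ⊔ commutator G with hMdef
      have hMn : M.Normal := Subgroup.Normal.of_commutator_le G (le_sup_right (a := A))
      have hbcentral : ∀ b ∈ B, (∀ m ∈ M, m * b = b * m) → b = 1 := fun b hb hbM => by
        refine mem_bot.1 (hZ ▸ mem_center_iff.2 fun g => ?_)
        obtain ⟨x, hx, y, hy, rfl⟩ := hAB g
        rw [mul_assoc, commute_of_isMulCommutative hy hb, ← mul_assoc, hbM x (mem_sup_left hx),
          mul_assoc]
      have hZM : center M = ⊥ := by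
        by_contra hne
        set Z := (center M).map M.subtype with hZdef
        have hZA : Z ≤ A := by
          rintro _ ⟨⟨z, hzM⟩, hz, rfl⟩
          obtain ⟨a, ha, b, hb, rfl⟩ := hAB z
          have hz' : ∀ m ∈ M, m * (a * b) = a * b * m := fun m hm =>
            congrArg Subtype.val (mem_center_iff.1 hz ⟨m, hm⟩)
          have hbM : b ∈ M := (Subgroup.mul_mem_cancel_left _ (mem_sup_left ha)).1 hzM
          -- both parts are central in `M`
          have hab : a * b = b * a := by
            have := hz' a (mem_sup_left ha)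
            rw [mul_assoc a b a] at this
            exact mul_left_cancel this
          have ha' : ∀ m ∈ M, m * a = a * m := by
            intro m hm
            obtain ⟨x, hx, y, hy, rfl⟩ := hAB m
            have hyM : y ∈ M := (Subgroup.mul_mem_cancel_left _ (mem_sup_left hx)).1 hm
            have h1 : a * y = y * a := by
              have h := hz' y hyM
              rw [← mul_assoc, mul_assoc a b y, commute_of_isMulCommutative hb hy,
                ← mul_assoc] at h
              exact (mul_right_cancel h).symm
            rw [mul_assoc, ← h1, ← mul_assoc, commute_of_isMulCommutative hx ha, mul_assoc]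
          have hb1 : b = 1 := hbcentral b hb fun m hm => by
            have h1 := hz' m hm
            rw [← mul_assoc, ha' m hm, mul_assoc, mul_assoc] at h1
            exact mul_left_cancel h1
          simpa [hb1] using ha
        have hZn : Z.Normal := by rw [hZdef]; infer_instance
        refine (hnone Z hZn fun e => hne ?_).1 hZA
        exact (map_eq_bot_iff_of_injective _ M.subtype_injective).1 e
      have hMb : M ≠ ⊥ := fun e => by
        have h1 : commutator G = ⊥ := le_bot_iff.1 (e ▸ le_sup_right)
        refine (hnone ⊤ inferInstance top_ne_bot).2 fun g _ => ?_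
        obtain ⟨a, ha, b, hb, rfl⟩ := hAB g
        rw [mem_bot.1 (e ▸ mem_sup_left ha : a ∈ (⊥ : Subgroup G)), one_mul]; exact hb
      have : Nontrivial M := (nontrivial_iff_ne_bot M).2 hMb
      have hA₀ : IsMulCommutative (A.subgroupOf M) := isMulCommutative_subgroupOf A M
      have hB₀ : IsMulCommutative (B.subgroupOf M) := isMulCommutative_subgroupOf B M
      obtain ⟨K, hK, hKb, hKle⟩ := ih (A.subgroupOf M) (B.subgroupOf M)
        (by have := card_subgroup_lt hM; omega) fun m => by
          obtain ⟨a, ha, b, hb, e⟩ := hAB (m : G)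
          exact ⟨⟨a, mem_sup_left ha⟩, ha, ⟨b, (Subgroup.mul_mem_cancel_left _
            (mem_sup_left ha)).1 (e ▸ m.2)⟩, hb, Subtype.ext e⟩
      obtain ⟨k, hk, hk1⟩ := exists_mem_ne_one_of_ne_bot hKb
      rcases hKle with hKA | hKB
      · refine hk1 (mem_bot.1 (hZM ▸ mem_center_iff.2 fun m => ?_))
        have hm : m ∈ ((centralizer {(k : G)}).subgroupOf M) := by
          refine (show M ≤ centralizer {(k : G)} from sup_le ?_ ?_) m.2
          · exact fun a ha => mem_centralizer_singleton_iff.2
              (commute_of_isMulCommutative ha (hKA hk))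
          · intro c hc
            have hcM : c ∈ M := mem_sup_right hc
            set d : M := ⁅(⟨c, hcM⟩ : M), k⁆ with hd
            have hdK : d ∈ K := mul_mem (hK.conj_mem k hk _) (inv_mem hk)
            have hdG' : (d : G) ∈ commutator G := commutator_mem_commutator (mem_top c) (mem_top (k : G))
            have hd1 : d = 1 := by
              refine mem_bot.1 (hZM ▸ mem_center_iff.2 fun m => ?_)
              refine Subtype.ext (mem_centralizer_singleton_iff.1
                ((show M ≤ centralizer {(d : G)} from sup_le ?_ ?_) m.2))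
              · exact fun a ha => mem_centralizer_singleton_iff.2
                  (commute_of_isMulCommutative ha (hKA hdK))
              · exact fun x hx => mem_centralizer_singleton_iff.2
                  (commute_of_isMulCommutative hx hdG')
            refine mem_centralizer_singleton_iff.2 ?_
            exact congrArg Subtype.val (commutatorElement_eq_one_iff_mul_comm.1 hd1)
        exact Subtype.ext (mem_centralizer_singleton_iff.1 hm)
      · set K' := K.map M.subtype with hK'
        have hK'B : K' ≤ B := by rintro _ ⟨x, hx, rfl⟩; exact hKB hx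
        have hK'n : K'.Normal := by
          refine ⟨fun x hx g => ?_⟩
          obtain ⟨a, ha, b, hb, rfl⟩ := hAB g
          have hbx : b * x * b⁻¹ = x := by
            rw [commute_of_isMulCommutative hb (hK'B hx), mul_inv_cancel_right]
          have e : a * b * x * (a * b)⁻¹ = a * (b * x * b⁻¹) * a⁻¹ := by group
          rw [e, hbx]
          obtain ⟨x, hx', rfl⟩ := hx
          exact ⟨⟨a, mem_sup_left ha⟩ * x * ⟨a, mem_sup_left ha⟩⁻¹, hK.conj_mem x hx' _, rfl⟩
        exact (hnone K' hK'n fun e => hKb
          ((map_eq_bot_iff_of_injective _ M.subtype_injective).1 e)).2 hK'B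
    have hA := side A B inferInstance inferInstance hAB hnone
    have hB := side B A inferInstance inferInstance hAB' fun N hN hN1 => (hnone N hN hN1).symm
    have hnA : Group.IsNilpotent A := (isCarterSubgroup_of_supplement hG'ab hA hZ).1
    have hnB : Group.IsNilpotent B := (isCarterSubgroup_of_supplement hG'ab hB hZ).1
    have := isSolvable_of_mul_nilpotent A B hnA hnB hAB
    obtain ⟨g, hg⟩ := carter_conj (isCarterSubgroup_of_supplement hG'ab hA hZ)
      (isCarterSubgroup_of_supplement hG'ab hB hZ)
    obtain ⟨a, ha, b, hb, e⟩ := hAB g⁻¹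
    rw [← hg, mem_conj_smul] at hb
    have hgA : g ∈ A := by
      have e' : g = a⁻¹ * (g⁻¹ * b * g)⁻¹ := by
        have h1 : a * g * (g⁻¹ * b * g) = 1 :=
          calc a * g * (g⁻¹ * b * g) = a * b * g := by group
            _ = 1 := by rw [← e, inv_mul_cancel]
        calc g = a⁻¹ * (a * g * (g⁻¹ * b * g)) * (g⁻¹ * b * g)⁻¹ := by group
          _ = _ := by rw [h1, mul_one]
      rw [e']; exact mul_mem (inv_mem ha) (inv_mem hb)
    rw [conj_smul_eq_self_of_mem hgA] at hg
    refine (hnone ⊤ inferInstance top_ne_bot).1 fun x _ => ?_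
    obtain ⟨a, ha, b, hb, rfl⟩ := hAB x
    exact mul_mem ha (hg ▸ hb)

end CfsgLib.Solvable
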