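import Cfsg.Agent.Lib.Solvable.MinNormal
import Cfsg.Agent.Lib.Solvable.Frattini
import Cfsg.Agent.Lib.Solvable.FrobeniusKernel
import Cfsg.Agent.Lib.Coprime.Sylow
import Cfsg.Agent.Lib.Coprime.Basic
import Mathlib.GroupTheory.Sylow

/-!
Conditions on maximal subgroups: all maximal subgroups Hall; an abelian maximal subgroup.
-/

set_option autoImplicit false

namespace CfsgLib.Solvable

open Subgroup
open scoped Pointwise commutatorElement

universe u

variable {G : Type u} [Group G]

theorem exists_normal_sylow_of_maximal_hall [Finite G] [Group.IsSolvable G] [Nontrivial G]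
    (h : ∀ M : Subgroup G, IsCoatom M → (Nat.card M).Coprime M.index) :
    ∃ p : ℕ, p.Prime ∧ p ∣ Nat.card G ∧ ∀ P : Sylow p G, (P : Subgroup G).Normal := by
  obtain ⟨n, hn⟩ : ∃ n, Nat.card G = n := ⟨_, rfl⟩
  induction n using Nat.strong_induction_on generalizing G with
  | _ n ih =>
    obtain ⟨A, hAn, hAne, hAmin⟩ := exists_minimal_normal (G := G)
    obtain ⟨p, hp, hAp, -, hAab⟩ := exists_isPGroup_of_minimal_normal hAne hAmin
    have : Fact p.Prime := ⟨hp⟩
    have hpA : p ∣ Nat.card A := by
      obtain ⟨k, hk, hkc⟩ := hAp.nontrivial_iff_card.mp (A.nontrivial_iff_ne_bot.mpr hAne)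
      rw [hkc]; exact dvd_pow_self p hk.ne'
    have norm_of : ∀ (r : ℕ) [Fact r.Prime] (X : Subgroup G), X.Normal → IsPGroup r X → ¬ r ∣ X.index →
        ∀ P : Sylow r G, (P : Subgroup G).Normal := fun r _ X hX hXr hi P => by
      obtain ⟨g, hg⟩ := MulAction.exists_smul_eq G (hXr.toSylow hi) P
      rw [← hg, Sylow.coe_subgroup_smul, IsPGroup.toSylow_coe, Subgroup.Normal.conj_smul_eq_self]
      exact hX
    by_cases hpi : p ∣ A.index
    swap
    · exact ⟨p, hp, hpA.trans A.card_subgroup_dvd_card, norm_of p A hAn hAp hpi⟩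
    have : Nontrivial (G ⧸ A) := by
      refine QuotientGroup.nontrivial_iff.mpr fun ht => hp.ne_one ?_
      rw [ht, Subgroup.index_top] at hpi
      exact Nat.dvd_one.mp hpi
    set π := QuotientGroup.mk' A with hπdef
    have hπ : Function.Surjective π := QuotientGroup.mk'_surjective A
    obtain ⟨q, hq, hqd, hQn⟩ := ih _ (hn ▸ card_quotient_lt hAne) (G := G ⧸ A) (fun M hM => by
      have hM' : IsCoatom (M.comap π) := by
        refine ⟨fun ht => hM.1 ?_, fun K hK => ?_⟩
        · rw [← Subgroup.map_comap_eq_self_of_surjective hπ M, ht, Subgroup.map_top_of_surjective π hπ]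
        · have hAK : A ≤ K := fun x hx => hK.le (by simp [π, (QuotientGroup.eq_one_iff x).mpr hx])
          have hlt : M < K.map π := by
            refine lt_of_le_of_ne ?_ fun he => hK.ne ?_
            · rw [← Subgroup.map_comap_eq_self_of_surjective hπ M]; exact Subgroup.map_mono hK.le
            · rw [he, Subgroup.comap_map_eq, hπdef, QuotientGroup.ker_mk', sup_eq_left.mpr hAK]
          have := congrArg (Subgroup.comap π) (hM.2 _ hlt)
          rwa [Subgroup.comap_map_eq, hπdef, QuotientGroup.ker_mk', sup_eq_left.mpr hAK,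
            Subgroup.comap_top] at this
      have h1 := h _ hM'
      rw [Subgroup.index_comap_of_surjective _ hπ, card_comap_mk'] at h1
      exact h1.coprime_dvd_left (dvd_mul_right _ _)) rfl
    have : Fact q.Prime := ⟨hq⟩
    obtain ⟨Q⟩ := (inferInstance : Nonempty (Sylow q G))
    have hT := hQn (Q.mapSurjective hπ)
    set T := ((Q.mapSurjective hπ : Sylow q (G ⧸ A)) : Subgroup (G ⧸ A)).comap π with hTdef
    have hTn : T.Normal := hT.comap _
    have hqG : q ∣ Nat.card G := hqd.trans (A.card_quotient_dvd_card)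
    by_cases hqp : q = p
    · subst hqp
      refine ⟨q, hq, hqG, norm_of q T hTn ?_ ?_⟩
      · exact (Q.mapSurjective hπ).2.comap_of_ker_isPGroup _ (by rw [hπdef, QuotientGroup.ker_mk']; exact hAp)
      · rw [hTdef, Subgroup.index_comap_of_surjective _ hπ]
        exact (Q.mapSurjective hπ).not_dvd_index
    · have hTe : T = (Q : Subgroup G) ⊔ A := by
        rw [hTdef, Sylow.coe_mapSurjective, Subgroup.comap_map_eq, hπdef, QuotientGroup.ker_mk']
      have hfr : normalizer ((Q : Subgroup G) : Set G) ⊔ A = ⊤ := by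
        have h1 := Sylow.normalizer_sup_eq_top' (N := T) Q (hTe ▸ le_sup_left)
        refine eq_top_iff.mpr (h1 ▸ sup_le le_sup_left ?_)
        rw [hTe]
        exact sup_le (Subgroup.le_normalizer.trans le_sup_left) le_sup_right
      by_cases hN : normalizer ((Q : Subgroup G) : Set G) = ⊤
      · have := Subgroup.normalizer_eq_top_iff.mp hN
        exact ⟨q, hq, hqG, norm_of q Q this Q.2 Q.not_dvd_index⟩
      · exfalso
        obtain ⟨M, hM, hNM⟩ := (eq_top_or_exists_le_coatom _).resolve_left hN
        have hAM : A ⊔ M = ⊤ := eq_top_iff.mpr (hfr ▸ sup_le (hNM.trans le_sup_right) le_sup_left)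
        have hn2 : (A ⊓ M).Normal := inf_normal_of_sup_eq_top hAM
        have hdis : A ⊓ M = ⊥ := by
          rcases hAmin _ hn2 inf_le_left with h' | h'
          · exact h'
          · exfalso
            refine hM.1 (eq_top_iff.mpr (hAM ▸ sup_le ?_ le_rfl))
            exact inf_eq_left.mp h'
        have hc : IsComplement' A M := Subgroup.isComplement'_of_disjoint_and_mul_eq_univ
          (disjoint_iff.mpr hdis) (by rw [← Subgroup.normal_mul, hAM, Subgroup.coe_top])
        have hcop := h M hM
        rw [hc.index_eq_card, ← hc.symm.index_eq_card] at hcop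
        exact hp.ne_one (Nat.eq_one_of_dvd_coprimes hcop hpi hpA)

/-- A group with an abelian maximal subgroup has derived length at most three. -/
theorem derivedSeries_three_of_abelian_maximal [Finite G] {A : Subgroup G} (hA : IsCoatom A)
    [hAab : IsMulCommutative A] : derivedSeries G 3 = ⊥ := by
  -- it suffices that `G''` is central
  suffices h : derivedSeries G 2 ≤ center G ∨ derivedSeries G 2 = ⊥ by
    rw [derivedSeries_succ]
    rcases h with h | h
    · rw [Subgroup.commutator_eq_bot_iff_le_centralizer]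
      exact h.trans (Subgroup.center_le_centralizer _)
    · rw [h, Subgroup.commutator_bot_left]
  by_cases hAn : A.Normal
  · right
    have hcomm : commutator G ≤ A := by
      obtain ⟨g, -, hg⟩ := SetLike.exists_of_lt (lt_top_iff_ne_top.mpr hA.1)
      have htop : A ⊔ zpowers g = ⊤ :=
        hA.2 _ (lt_of_le_of_ne le_sup_left fun h => hg (h ▸ Subgroup.mem_sup_right (mem_zpowers g)))
      rw [commutator_def, Subgroup.commutator_le]
      intro x _ y _
      rw [← QuotientGroup.eq_one_iff (N := A)]
      have hcyc : ∀ z : G, ∃ k : ℤ, (z : G ⧸ A) = (g : G ⧸ A) ^ k := by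
        intro z
        have hz : z ∈ ((A ⊔ zpowers g : Subgroup G) : Set G) := htop ▸ Subgroup.mem_top z
        rw [Subgroup.normal_mul] at hz
        obtain ⟨a, ha, w, hw, rfl⟩ := Set.mem_mul.mp hz
        obtain ⟨k, rfl⟩ := mem_zpowers_iff.mp hw
        refine ⟨k, ?_⟩
        rw [QuotientGroup.mk_mul, (QuotientGroup.eq_one_iff a).mpr ha, one_mul, QuotientGroup.mk_zpow]
      obtain ⟨i, hi⟩ := hcyc x
      obtain ⟨j, hj⟩ := hcyc y
      show QuotientGroup.mk' A ⁅x, y⁆ = 1
      rw [map_commutatorElement, QuotientGroup.mk'_apply, QuotientGroup.mk'_apply, hi, hj,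
        commutatorElement_eq_one_iff_mul_comm]
      exact ((Commute.refl _).zpow_zpow i j).eq
    rw [derivedSeries_succ, derivedSeries_one, Subgroup.commutator_eq_bot_iff_le_centralizer]
    exact hcomm.trans ((Subgroup.le_centralizer_iff_isMulCommutative.mpr hAab).trans
      (Subgroup.centralizer_le hcomm))
  left
  have hNA : normalizer (A : Set G) = A :=
    (hA.le_iff.mp Subgroup.le_normalizer).resolve_left fun h => hAn (Subgroup.normalizer_eq_top_iff.mp h)
  have hZA : center G ≤ A := fun z hz => hNA.le (Subgroup.centralizer_le_normalizer _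
    (Subgroup.mem_centralizer_iff.mpr fun a _ => Subgroup.mem_center_iff.mp hz a))
  have hTI : ∀ g : G, g ∉ A → A ⊓ MulAut.conj g • A ≤ center G := by
    intro g hg x hx
    have htop : A ⊔ MulAut.conj g • A = ⊤ := by
      refine hA.2 _ (lt_of_le_of_ne le_sup_left fun h => hg ?_)
      have hle : MulAut.conj g • A ≤ A := le_sup_right.trans h.ge
      have hgn : g ∈ normalizer (A : Set G) :=
        conj_smul_eq_self_iff.mp (eq_of_le_of_card_le hle (by rw [card_conj_smul]))
      rwa [hNA] at hgn
    have hle : A ⊔ MulAut.conj g • A ≤ centralizer ({x} : Set G) := by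
      refine sup_le (fun a ha => ?_) fun a ha => ?_
      · exact Subgroup.mem_centralizer_singleton_iff.mpr
          (congrArg Subtype.val (hAab.is_comm.comm (⟨a, ha⟩ : A) ⟨x, hx.1⟩))
      · have h := congrArg Subtype.val
          (hAab.is_comm.comm (⟨_, mem_conj_smul.mp ha⟩ : A) ⟨_, mem_conj_smul.mp hx.2⟩)
        refine Subgroup.mem_centralizer_singleton_iff.mpr ?_
        have h' := congrArg (fun w => g * w * g⁻¹) h
        simpa [mul_assoc] using h'
    rw [Subgroup.mem_center_iff]
    intro y
    exact Subgroup.mem_centralizer_singleton_iff.mp (hle (htop.ge (Subgroup.mem_top y)))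
  set Z := center G with hZdef
  set π := QuotientGroup.mk' Z with hπdef
  have hπ : Function.Surjective π := QuotientGroup.mk'_surjective Z
  set B := A.map π with hB
  have hBc : B.comap π = A := by
    rw [hB, Subgroup.comap_map_eq, hπdef, QuotientGroup.ker_mk', sup_eq_left.mpr hZA]
  have hBab : IsMulCommutative B := ⟨⟨fun a b => by
    obtain ⟨a', rfl⟩ := (π.subgroupMap_surjective A) a
    obtain ⟨b', rfl⟩ := (π.subgroupMap_surjective A) b
    rw [← map_mul, ← map_mul, hAab.is_comm.comm]⟩⟩
  have hFr : Cfsg.IsFrobeniusComplement B := by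
    refine ⟨fun h => hAn ?_, fun h => hA.1 ?_, fun q hq => ?_⟩
    · have hAZ : A = Z := by
        rw [← hBc, h, MonoidHom.comap_bot, hπdef, QuotientGroup.ker_mk']
      rw [hAZ]; infer_instance
    · rw [← hBc, h, Subgroup.comap_top]
    · obtain ⟨g, rfl⟩ := hπ q
      rw [eq_bot_iff]
      intro x hx
      obtain ⟨y, rfl⟩ := hπ x
      have hy : y ∈ A := hBc.le (show π y ∈ B from hx.1)
      have hy2 : g⁻¹ * y * g ∈ A := by
        refine hBc.le (show π (g⁻¹ * y * g) ∈ B from ?_)
        rw [map_mul, map_mul, map_inv]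
        exact mem_conj_smul.mp hx.2
      have hg : g ∉ A := fun h => hq (Subgroup.mem_map_of_mem π h)
      exact Subgroup.mem_bot.mpr ((QuotientGroup.eq_one_iff y).mpr
        (hTI g hg ⟨hy, mem_conj_smul.mpr hy2⟩))
  have hBmax : ∀ X : Subgroup (G ⧸ Z), B < X → X = ⊤ := fun X hX => by
    have hlt : A < X.comap π := by
      refine lt_of_le_of_ne (hBc ▸ Subgroup.comap_mono hX.le) fun he => hX.ne ?_
      rw [← Subgroup.map_comap_eq_self_of_surjective hπ X, ← he]
    rw [← Subgroup.map_comap_eq_self_of_surjective hπ X, hA.2 _ hlt,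
      Subgroup.map_top_of_surjective π hπ]
  obtain ⟨N, -, hNn, hc⟩ := exists_frobeniusKernel hFr
  have hco : (Nat.card B).Coprime (Nat.card N) := by
    rw [← hc.index_eq_card]
    have h := index_mod_card_of_isFrobeniusComplement hFr
    rw [Nat.coprime_iff_gcd_eq_one, Nat.gcd_rec, h, ← Nat.gcd_rec]
    simp
  have hBN : B ≤ normalizer (N : Set (G ⧸ Z)) := by rw [Subgroup.normalizer_eq_top]; exact le_top
  have hgrow : ∀ X : Subgroup (G ⧸ Z), X ≤ N → B ≤ normalizer (X : Set (G ⧸ Z)) → X = ⊥ ∨ X = N := by
    intro X hX hBX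
    by_cases hb : X = ⊥
    · exact Or.inl hb
    right
    have hlt : B < X ⊔ B := by
      refine lt_of_le_of_ne le_sup_right fun h => hb (eq_bot_iff.mpr fun x hx => ?_)
      exact Subgroup.mem_bot.mpr (Subgroup.disjoint_def.mp hc.disjoint (hX hx)
        (h.ge (Subgroup.mem_sup_left hx)))
    have hinf : B ⊓ X = ⊥ := eq_bot_iff.mpr fun x hx =>
      Subgroup.mem_bot.mpr (Subgroup.disjoint_def.mp hc.disjoint (hX hx.2) hx.1)
    have h1 := CfsgLib.Coprime.card_sup_of_inf_eq_bot hBX hinf
    rw [hBmax _ hlt, Subgroup.card_top, ← hc.card_mul_card] at h1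
    exact eq_of_le_of_card_le hX (Nat.eq_of_mul_eq_mul_right Nat.card_pos h1).le
  have hNab : IsMulCommutative N := by
    rcases subsingleton_or_nontrivial N with h | h
    · exact ⟨⟨fun _ _ => Subsingleton.elim _ _⟩⟩
    obtain ⟨p, hp, hpd⟩ := Nat.exists_prime_and_dvd (Finite.one_lt_card (α := N)).ne'
    have : Fact p.Prime := ⟨hp⟩
    have hBs : Group.IsSolvable B := Group.isSolvable_of_comm hBab.is_comm.comm
    obtain ⟨P, hP⟩ := CfsgLib.Coprime.exists_invariant_sylow hBN hco (Or.inl hBs) p
    have hPN : (P : Subgroup N).map N.subtype = N := by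
      refine (hgrow _ (Subgroup.map_subtype_le _) hP).resolve_left ?_
      rw [Subgroup.map_eq_bot_iff_of_injective _ N.subtype_injective]
      exact P.ne_bot_of_dvd_card hpd
    have hNp : IsPGroup p N := by
      have : IsPGroup p ((P : Subgroup N).map N.subtype) := P.2.map _
      rwa [hPN] at this
    have := hNp.isNilpotent
    have hlt : commutator N < ⊤ := Group.IsSolvable.commutator_lt_top_of_nontrivial N
    rcases hgrow ((commutator N).map N.subtype) (Subgroup.map_subtype_le _)
      (le_top.trans_eq (Subgroup.normalizer_eq_top (H := (commutator N).map N.subtype)).symm) with h' | h'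
    · rw [Subgroup.map_eq_bot_iff_of_injective _ N.subtype_injective] at h'
      refine ⟨⟨fun a b => ?_⟩⟩
      have : ⁅a, b⁆ ∈ commutator N :=
        Subgroup.commutator_mem_commutator (Subgroup.mem_top a) (Subgroup.mem_top b)
      rw [h', Subgroup.mem_bot, commutatorElement_eq_one_iff_mul_comm] at this
      exact this
    · exact absurd (Subgroup.map_injective N.subtype_injective
        (h'.trans (by rw [← MonoidHom.range_eq_map, Subgroup.range_subtype]))) hlt.ne
  have hquot : commutator (G ⧸ Z) ≤ N := by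
    rw [commutator_def, Subgroup.commutator_le]
    intro x _ y _
    rw [← QuotientGroup.eq_one_iff (N := N)]
    obtain ⟨⟨⟨n, hn⟩, ⟨b, hb⟩⟩, rfl⟩ := hc.2 x
    obtain ⟨⟨⟨n', hn'⟩, ⟨b', hb'⟩⟩, rfl⟩ := hc.2 y
    show QuotientGroup.mk' N ⁅n * b, n' * b'⁆ = 1
    rw [map_commutatorElement, map_mul, map_mul]
    simp only [QuotientGroup.mk'_apply, (QuotientGroup.eq_one_iff n).mpr hn,
      (QuotientGroup.eq_one_iff n').mpr hn', one_mul]
    rw [commutatorElement_eq_one_iff_mul_comm, ← QuotientGroup.mk_mul, ← QuotientGroup.mk_mul,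
      show b * b' = b' * b from congrArg Subtype.val (hBab.is_comm.comm (⟨b, hb⟩ : B) ⟨b', hb'⟩)]
  have h2 : derivedSeries (G ⧸ Z) 2 = ⊥ := by
    rw [derivedSeries_succ, derivedSeries_one, Subgroup.commutator_eq_bot_iff_le_centralizer]
    exact hquot.trans ((Subgroup.le_centralizer_iff_isMulCommutative.mpr hNab).trans
      (Subgroup.centralizer_le hquot))
  rw [← map_derivedSeries_eq hπ, Subgroup.map_eq_bot_iff, hπdef, QuotientGroup.ker_mk'] at h2
  exact h2

end CfsgLib.Solvable
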