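import Cfsg.Agent.Lib.Solvable.Basic
import Cfsg.Agent.Lib.Transfer.Frobenius
import Cfsg.Agent.Lib.Transfer.ClassTwo

/-!
Groups in which `N(A) = C(A)` for every abelian subgroup are abelian.
-/

set_option autoImplicit false

namespace CfsgLib.Solvable

open Subgroup
open scoped Pointwise

universe u

variable {G : Type u} [Group G]

theorem isMulCommutative_of_normalizer_eq_centralizer [Finite G]
    (h : ∀ A : Subgroup G, IsMulCommutative A → normalizer (A : Set G) = centralizer (A : Set G)) :
    IsMulCommutative G := by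
  obtain ⟨n, hn⟩ : ∃ n, Nat.card G = n := ⟨_, rfl⟩
  induction n using Nat.strong_induction_on generalizing G with
  | _ n ih =>
    have hsub : ∀ H : Subgroup G, H ≠ ⊤ → IsMulCommutative H := by
      intro H hH
      refine ih _ (hn ▸ card_subgroup_lt hH) (G := H) (fun A hA => ?_) rfl
      have hA' : IsMulCommutative (A.map H.subtype) := by
        refine ⟨⟨fun a b => ?_⟩⟩
        obtain ⟨a', rfl⟩ := (A.equivMapOfInjective _ H.subtype_injective).surjective a
        obtain ⟨b', rfl⟩ := (A.equivMapOfInjective _ H.subtype_injective).surjective b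
        rw [← map_mul, ← map_mul, hA.is_comm.comm]
      refine le_antisymm (fun x hx => ?_) (Subgroup.centralizer_le_normalizer _)
      have hx' : (x : G) ∈ normalizer ((A.map H.subtype : Subgroup G) : Set G) := by
        rw [← conj_smul_eq_self_iff, ← conj_smul_subtype x A, conj_smul_eq_self_iff.mpr hx]
      rw [h _ hA'] at hx'
      refine Subgroup.mem_centralizer_iff.mpr fun a ha => Subtype.ext ?_
      exact Subgroup.mem_centralizer_iff.mp hx' (a : G) ⟨a, ha, rfl⟩
    have hcentral : ∀ M : Subgroup G, M.Normal → M ≠ ⊤ → M ≤ center G := by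
      intro M hM hne
      have hc := h M (hsub M hne)
      rw [Subgroup.normalizer_eq_top] at hc
      intro m hm
      rw [Subgroup.mem_center_iff]
      intro x
      exact (Subgroup.mem_centralizer_iff.mp (hc ▸ Subgroup.mem_top x) m hm).symm
    rcases subsingleton_or_nontrivial G with hs | hnt
    · exact ⟨⟨fun a b => Subsingleton.elim _ _⟩⟩
    obtain ⟨p, hp, hpd⟩ := Nat.exists_prime_and_dvd (Finite.one_lt_card (α := G)).ne'
    have : Fact p.Prime := ⟨hp⟩
    have mk : ∀ a b : G, ∀ H : Subgroup G, IsMulCommutative H → a ∈ H → b ∈ H → a * b = b * a :=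
      fun a b H hH ha hb => congrArg Subtype.val (hH.is_comm.comm ⟨a, ha⟩ ⟨b, hb⟩)
    obtain ⟨P⟩ := (inferInstance : Nonempty (Sylow p G))
    by_cases hP : (P : Subgroup G) = ⊤
    · have hG : IsPGroup p G := P.2.of_equiv ((MulEquiv.subgroupCongr hP).trans Subgroup.topEquiv)
      by_contra hna
      -- a maximal subgroup is central, so `G / Z(G)` is cyclic
      obtain ⟨M, hM⟩ : ∃ M : Subgroup G, IsCoatom M := by
        obtain ⟨M, hM, -⟩ := (eq_top_or_exists_le_coatom (⊥ : Subgroup G)).resolve_left bot_ne_top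
        exact ⟨M, hM⟩
      have hMc := hcentral M (CfsgLib.Transfer.coatom_index_eq_prime hG hM).1 hM.1
      have hcyc : IsCyclic (G ⧸ center G) := by
        have hd : (center G).index ∣ p :=
          (CfsgLib.Transfer.coatom_index_eq_prime hG hM).2 ▸ Subgroup.index_dvd_of_le hMc
        rcases (Nat.dvd_prime hp).mp hd with h1 | h1 <;> rw [Subgroup.index_eq_card] at h1
        · have := (Nat.card_eq_one_iff_unique.mp h1).1
          exact isCyclic_of_subsingleton
        · exact isCyclic_of_prime_card h1
      exact hna ⟨⟨commutative_of_cyclic_center_quotient (QuotientGroup.mk' (center G))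
        (QuotientGroup.ker_mk' _).le⟩⟩
    · have hPab := hsub _ hP
      obtain ⟨Q, K, hK, hKQ⟩ :=
        CfsgLib.Transfer.hasNormalPComplement_of_normalizer_le_centralizer P (h _ hPab).le
      have hQne : (Q : Subgroup G) ≠ ⊥ := Q.ne_bot_of_dvd_card hpd
      have hKtop : K ≠ ⊤ := by
        rintro rfl
        exact hQne (Subgroup.isComplement'_top_left.mp hKQ)
      have hQtop : (Q : Subgroup G) ≠ ⊤ := by
        intro ht
        obtain ⟨g, hg⟩ := MulAction.exists_smul_eq G Q P
        apply hP
        rw [← hg, Sylow.coe_subgroup_smul, ht]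
        exact Subgroup.conj_smul_eq_self_of_mem (Subgroup.mem_top g)
      have hKc := hcentral K hK hKtop
      have hQab := hsub _ hQtop
      refine ⟨⟨fun a b => ?_⟩⟩
      obtain ⟨⟨⟨k, hk⟩, ⟨q, hq⟩⟩, rfl⟩ := hKQ.2 a
      obtain ⟨⟨⟨k', hk'⟩, ⟨q', hq'⟩⟩, rfl⟩ := hKQ.2 b
      have e1 := Subgroup.mem_center_iff.mp (hKc hk)
      have e2 := Subgroup.mem_center_iff.mp (hKc hk')
      simp only
      rw [mul_assoc, ← mul_assoc q, e2 q, mul_assoc k' q, mk q q' _ hQab hq hq', ← mul_assoc k,
        ← e1 k', mul_assoc k' k, ← mul_assoc k, ← e1 q', mul_assoc q' k, ← mul_assoc k']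

end CfsgLib.Solvable
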