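import Cfsg.Agent.Lib.Block.Orthogonality
import Cfsg.Agent.Lib.BlockB.PrincipalKer
import Cfsg.Agent.Lib.Char.Invariants
import Cfsg.Agent.Lib.Char.Diag
import Cfsg.Agent.Lib.PLength.Series
import Cfsg.Prelude.Def_Local
import Mathlib.RingTheory.Noetherian.Basic
import Mathlib.LinearAlgebra.Matrix.NonsingularInverse

/-!
# `p`-length one and restriction of the principal block to the Sylow normalizer

Group algebra over a field of characteristic `p`: if the sums of a block idempotent over the
cosets of a `p`-subgroup `P` are invariant under a normal subgroup `K`, the `p`-regular elements of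
`K` fix the idempotent; a fixed idempotent lifts to the local ring.
-/

set_option autoImplicit false
set_option linter.unusedSectionVars false

namespace CfsgLib.Solvable.PLengthBlock

open MonoidAlgebra CfsgLib.Block

universe u v

section Alg

variable {k : Type v} [CommRing k] {G : Type u} [Group G]

/-- Left invariance of a submodule of the group algebra. -/
def IsLInv (U : Submodule k (MonoidAlgebra k G)) : Prop :=
  ∀ g : G, ∀ v ∈ U, single g (1 : k) * v ∈ U

theorem single_mul_single_mul (g h : G) (v : MonoidAlgebra k G) :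
    single g (1 : k) * (single h 1 * v) = single (g * h) 1 * v := by
  rw [← mul_assoc, single_mul_single, one_mul]

theorem eq_sum_smul_single [Fintype G] (x : MonoidAlgebra k G) :
    x = ∑ g, x.coeff g • single g (1 : k) := by
  conv_lhs => rw [← MonoidAlgebra.sum_coeff_single x, Finsupp.sum_fintype _ _ (fun _ => by simp)]
  exact Finset.sum_congr rfl fun g _ => by rw [smul_single, smul_eq_mul, mul_one]

/-- Two elements with equal sums on the left cosets of `P` act alike on vectors fixed by `P`
modulo an invariant submodule. -/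
theorem mul_sub_mul_mem [Fintype G] (P : Subgroup G) [Fintype P]
    {U : Submodule k (MonoidAlgebra k G)} (hU : IsLInv U) {w : MonoidAlgebra k G}
    (hw : ∀ u ∈ P, single u (1 : k) * w - w ∈ U) {x x' : MonoidAlgebra k G}
    (hxx : ∀ g : G, ∑ u : P, x.coeff (g * (u : G)) = ∑ u : P, x'.coeff (g * (u : G))) :
    x * w - x' * w ∈ U := by
  classical
  have := Fintype.ofFinite (G ⧸ P)
  set d := x - x' with hd
  have hd0 : ∀ g : G, ∑ u : P, d.coeff (g * (u : G)) = 0 := fun g => by
    simp only [hd, coeff_sub, Finsupp.sub_apply, Finset.sum_sub_distrib, hxx g, sub_self]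
  rw [← sub_mul, ← hd, eq_sum_smul_single d, Finset.sum_mul]
  simp only [smul_mul_assoc]
  have hsplit : ∀ g : G, d.coeff g • (single g (1 : k) * w) =
      d.coeff g • (single g (1 : k) * w - single (QuotientGroup.mk g : G ⧸ P).out 1 * w) +
        d.coeff g • (single (QuotientGroup.mk g : G ⧸ P).out 1 * w) := fun g => by
    rw [smul_sub, sub_add_cancel]
  rw [Finset.sum_congr rfl fun g _ => hsplit g, Finset.sum_add_distrib]
  refine U.add_mem (U.sum_mem fun g _ => U.smul_mem _ ?_) ?_
  · obtain ⟨h, hh⟩ := QuotientGroup.mk_out_eq_mul P g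
    rw [hh]
    have h1 := hU (g * h) _ (hw (h : G)⁻¹ (P.inv_mem h.2))
    rw [mul_sub, single_mul_single_mul, mul_inv_cancel_right] at h1
    exact h1
  · rw [← Finset.sum_fiberwise (Finset.univ : Finset G) (fun g => (QuotientGroup.mk g : G ⧸ P))]
    refine U.sum_mem fun q _ => ?_
    rw [Finset.sum_congr rfl (g := fun g => d.coeff g • (single q.out (1 : k) * w))
      (fun g hg => by rw [(Finset.mem_filter.1 hg).2]), ← Finset.sum_smul]
    have hq : ∑ g with (QuotientGroup.mk g : G ⧸ P) = q, d.coeff g =
        ∑ u : P, d.coeff (q.out * (u : G)) := by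
      refine (Finset.sum_bij (fun (u : P) _ => q.out * (u : G)) ?_ ?_ ?_ ?_).symm
      · intro u _
        rw [Finset.mem_filter]
        exact ⟨Finset.mem_univ _, by rw [QuotientGroup.mk_mul_of_mem _ u.2, QuotientGroup.out_eq']⟩
      · intro u _ u' _ h
        exact Subtype.ext (mul_left_cancel h)
      · intro g hg
        have hm := (Finset.mem_filter.1 hg).2
        rw [← QuotientGroup.out_eq' q, QuotientGroup.eq] at hm
        exact ⟨⟨q.out⁻¹ * g, by simpa using P.inv_mem hm⟩, Finset.mem_univ _, by simp⟩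
      · intro u _; rfl
    rw [hq, hd0, zero_smul]
    exact U.zero_mem

/-- A `p`-group has a nonzero fixed point in a nonzero invariant section of the group algebra. -/
theorem exists_fixed_mod [Finite G] {p : ℕ} [Fact p.Prime] [CharP k p] {P : Subgroup G}
    (hP : IsPGroup p P) {U W : Submodule k (MonoidAlgebra k G)} (hU : IsLInv U) (hW : IsLInv W)
    (hlt : U < W) :
    ∃ w ∈ W, w ∉ U ∧ ∀ u ∈ P, single u (1 : k) * w - w ∈ U := by
  classical
  have := Fintype.ofFinite P
  obtain ⟨w₀, hw₀W, hw₀U⟩ := SetLike.exists_of_lt hlt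
  let cast : ZMod p →+* k := ZMod.castHom (dvd_refl p) k
  let Φ : (P → ZMod p) →+ MonoidAlgebra k G :=
    { toFun := fun c => ∑ u : P, cast (c u) • (single (u : G) (1 : k) * w₀)
      map_zero' := by simp
      map_add' := fun a b => by simp [add_smul, Finset.sum_add_distrib] }
  have hΦW : ∀ c, Φ c ∈ W := fun c => W.sum_mem fun u _ => W.smul_mem _ (hW _ _ hw₀W)
  have hshift : ∀ (u : P) (c : P → ZMod p),
      single (u : G) (1 : k) * Φ c = Φ (fun v => c (u⁻¹ * v)) := by
    intro u c
    simp only [Φ, AddMonoidHom.coe_mk, ZeroHom.coe_mk, Finset.mul_sum, mul_smul_comm,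
      single_mul_single_mul]
    exact Fintype.sum_equiv (Equiv.mulLeft u) _ _ fun v => by simp
  let Ψ : (P → ZMod p) →+ MonoidAlgebra k G ⧸ U := U.mkQ.toAddMonoidHom.comp Φ
  let act : P → (MonoidAlgebra k G ⧸ U) →ₗ[k] (MonoidAlgebra k G ⧸ U) := fun u =>
    U.mapQ U (LinearMap.mulLeft k (single (u : G) (1 : k))) (fun v hv => hU _ v hv)
  have hact : ∀ (u : P) c, act u (Ψ c) = Ψ (fun v => c (u⁻¹ * v)) := by
    intro u c
    change U.mkQ (single (u : G) (1 : k) * Φ c) = U.mkQ (Φ fun v => c (u⁻¹ * v))
    rw [hshift]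
  let V := Ψ.range
  have : Finite V := Finite.of_surjective Ψ.rangeRestrict Ψ.rangeRestrict_surjective
  let _ : MulAction P V :=
    { smul := fun u x => ⟨act u x, by
        obtain ⟨c, hc⟩ := x.2
        exact ⟨_, (hc ▸ hact u c).symm⟩⟩
      one_smul := fun x => Subtype.ext (by
        obtain ⟨c, hc⟩ := x.2
        change act 1 (x : MonoidAlgebra k G ⧸ U) = x
        rw [← hc, hact]
        simp)
      mul_smul := fun u u' x => Subtype.ext (by
        obtain ⟨c, hc⟩ := x.2
        change act (u * u') (x : MonoidAlgebra k G ⧸ U) = act u (act u' x)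
        rw [← hc, hact, hact, hact]
        simp [mul_assoc]) }
  have hpV : ∀ x : V, p • x = 0 := fun x => by
    obtain ⟨c, hc⟩ := x.2
    apply Subtype.ext
    rw [AddSubmonoidClass.coe_nsmul, ← hc, ← map_nsmul, ZeroMemClass.coe_zero]
    rw [show p • c = 0 from funext fun _ => by simp, map_zero]
  let c₀ : P → ZMod p := fun v => if v = 1 then 1 else 0
  have hc₀ : Φ c₀ = w₀ := by
    simp only [Φ, AddMonoidHom.coe_mk, ZeroHom.coe_mk, c₀, apply_ite cast, map_one, map_zero,
      ite_smul, one_smul, zero_smul, Finset.sum_ite_eq', Finset.mem_univ, if_true,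
      OneMemClass.coe_one, ← one_def, one_mul]
  have hne : (⟨Ψ c₀, c₀, rfl⟩ : V) ≠ 0 := fun h => hw₀U (by
    have h1 : U.mkQ (Φ c₀) = 0 := congrArg Subtype.val h
    rwa [hc₀, Submodule.mkQ_apply, Submodule.Quotient.mk_eq_zero] at h1)
  have hdvd : p ∣ Nat.card V :=
    (addOrderOf_eq_prime (hpV _) hne).symm.dvd.trans (addOrderOf_dvd_natCard _)
  have hfix := (hP.card_modEq_card_fixedPoints V).symm.trans (Nat.modEq_zero_iff_dvd.2 hdvd)
  rw [Nat.modEq_zero_iff_dvd] at hfix
  have hzero : (0 : V) ∈ MulAction.fixedPoints P V := fun u => Subtype.ext (map_zero (act u))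
  obtain ⟨⟨x, hx⟩, hx0⟩ : ∃ x : MulAction.fixedPoints P V, x ≠ ⟨0, hzero⟩ := by
    have hpos : 0 < Nat.card (MulAction.fixedPoints P V) :=
      Nat.card_pos_iff.2 ⟨⟨⟨0, hzero⟩⟩, inferInstance⟩
    have : 1 < Nat.card (MulAction.fixedPoints P V) :=
      lt_of_lt_of_le (Fact.out (p := p.Prime)).one_lt (Nat.le_of_dvd hpos hfix)
    have := Finite.one_lt_card_iff_nontrivial.1 this
    exact exists_ne _
  obtain ⟨c, hc⟩ := x.2
  refine ⟨Φ c, hΦW c, fun hcU => hx0 (Subtype.ext (Subtype.ext ?_)), fun u hu => ?_⟩
  · change (x : MonoidAlgebra k G ⧸ U) = 0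
    rw [← hc]
    exact (Submodule.Quotient.mk_eq_zero U).2 hcU
  · have h1 : act ⟨u, hu⟩ (x : MonoidAlgebra k G ⧸ U) = x := congrArg Subtype.val (hx ⟨u, hu⟩)
    rw [← hc] at h1
    exact (Submodule.Quotient.eq U).1 h1

/-- If the coset sums of a central idempotent are invariant under the normal subgroup `K`, then the
`p`-regular elements of `K` fix it. -/
theorem regular_mul_eq {k : Type v} [Field k] [Fintype G] {p : ℕ} [Fact p.Prime] [CharP k p]
    {P : Subgroup G} [Fintype P] (hP : IsPGroup p P) (K : Subgroup G) [hK : K.Normal]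
    {e : MonoidAlgebra k G} (hec : IsClassCoeff e) (hee : e * e = e)
    (hsum : ∀ x ∈ K, ∀ g : G,
      ∑ u : P, e.coeff (x * g * (u : G)) = ∑ u : P, e.coeff (g * (u : G))) :
    ∀ y ∈ K, ¬ p ∣ orderOf y → single y (1 : k) * e = e := by
  classical
  have hcomm : ∀ b : MonoidAlgebra k G, b * e = e * b := fun b =>
    Subalgebra.mem_center_iff.1 (isClassCoeff_iff_mem_center.1 hec) b
  let W : Submodule k (MonoidAlgebra k G) :=
    { carrier := {w | e * w = w}
      add_mem' := fun {a b} (ha : e * a = a) (hb : e * b = b) => by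
        change e * (a + b) = a + b
        rw [mul_add, ha, hb]
      zero_mem' := mul_zero _
      smul_mem' := fun c a (ha : e * a = a) => by
        change e * (c • a) = c • a
        rw [mul_smul_comm, ha] }
  have hWinv : IsLInv W := fun g v (hv : e * v = v) => by
    change e * (single g 1 * v) = _
    rw [← mul_assoc, ← hcomm, mul_assoc, hv]
  have : Module.Finite k (MonoidAlgebra k G) :=
    Module.Finite.of_basis (MonoidAlgebra.basis G k)
  obtain ⟨U, ⟨hUinv, hUW, hUfix⟩, hUmax⟩ := set_has_maximal_iff_noetherian.2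
    (inferInstance : IsNoetherian k (MonoidAlgebra k G))
    {U | IsLInv U ∧ U ≤ W ∧ ∀ y ∈ K, ¬ p ∣ orderOf y → ∀ w ∈ U, single y (1 : k) * w = w}
    ⟨⊥, fun g v hv => by simp [(Submodule.mem_bot k).1 hv], bot_le,
      fun y _ _ w hw => by simp [(Submodule.mem_bot k).1 hw]⟩
  suffices hUeq : U = W by
    intro y hy hyp
    exact hUfix y hy hyp e (hUeq ▸ (hee : e ∈ W))
  by_contra hne
  obtain ⟨w, hwW, hwU, hwfix⟩ := exists_fixed_mod hP hUinv hWinv (lt_of_le_of_ne hUW hne)
  let U' : Submodule k (MonoidAlgebra k G) :=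
    { carrier := {v | v ∈ W ∧ ∀ x ∈ K, single x (1 : k) * v - v ∈ U}
      add_mem' := fun {a b} ha hb => ⟨W.add_mem ha.1 hb.1, fun x hx => by
        rw [mul_add, add_sub_add_comm]
        exact U.add_mem (ha.2 x hx) (hb.2 x hx)⟩
      zero_mem' := ⟨W.zero_mem, fun x _ => by simp⟩
      smul_mem' := fun c a ha => ⟨W.smul_mem c ha.1, fun x hx => by
        rw [mul_smul_comm, ← smul_sub]
        exact U.smul_mem c (ha.2 x hx)⟩ }
  have hU'W : U' ≤ W := fun v hv => hv.1
  have hle : U ≤ U' := fun v hv =>
    ⟨hUW hv, fun x _ => U.sub_mem (hUinv x v hv) hv⟩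
  have hwU' : w ∈ U' := by
    refine ⟨hwW, fun x hx => ?_⟩
    have h := mul_sub_mul_mem P hUinv hwfix (x := single x (1 : k) * e) (x' := e) fun g => by
      simp only [coeff_single_mul_apply, one_mul, ← mul_assoc]
      exact hsum x⁻¹ (K.inv_mem hx) g
    rwa [mul_assoc, show e * w = w from hwW] at h
  have hU'inv : IsLInv U' := fun g v hv => by
    refine ⟨hWinv g v hv.1, fun x hx => ?_⟩
    have h := hUinv g _ (hv.2 (g⁻¹ * x * g) (by simpa using hK.conj_mem x hx g⁻¹))
    rw [mul_sub, single_mul_single_mul, ← mul_assoc, mul_inv_cancel_left] at h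
    rwa [single_mul_single_mul]
  refine hUmax U' ⟨hU'inv, hU'W, fun y hy hyp v hv => ?_⟩
    (lt_of_le_of_ne hle fun h => hwU (h ▸ hwU'))
  set d := single y (1 : k) * v - v with hd
  have hdy : single y (1 : k) * d = d := hUfix y hy hyp d (hv.2 y hy)
  have hpow : ∀ m : ℕ, single (y ^ m) (1 : k) * v = v + m • d := by
    intro m
    induction m with
    | zero => simp [← one_def]
    | succ m ih =>
      rw [pow_succ', ← single_mul_single_mul, ih, mul_add, mul_smul_comm, hdy, succ_nsmul, hd]
      abel
  have h := hpow (orderOf y)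
  rw [pow_orderOf_eq_one, ← one_def, one_mul, left_eq_add, ← Nat.cast_smul_eq_nsmul k,
    smul_eq_zero] at h
  have hd0 : d = 0 := h.resolve_left fun h0 => hyp ((CharP.cast_eq_zero_iff k p _).1 h0)
  exact sub_eq_zero.1 hd0

/-- A fixed idempotent lifts: an element of finite order invertible modulo the residue map that
fixes the reduction of a commuting idempotent fixes the idempotent. -/
theorem lift_mul_eq [Fintype G] [IsDomain k] {κ : Type*} [Field κ] (f : k →+* κ)
    {e y : MonoidAlgebra k G} (hee : e * e = e) (hye : y * e = e * y) {m : ℕ} (hym : y ^ m = 1)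
    (hm : (m : κ) ≠ 0) (hred : mapRingHom G f (y * e) = mapRingHom G f e) : y * e = e := by
  classical
  set q := ∑ j ∈ Finset.range m, y ^ j
  set U := q * e + (m : MonoidAlgebra k G) * (1 - e)
  set z := y * e - e with hz
  have hez : e * z = z := by rw [hz, mul_sub, ← mul_assoc, ← hye, mul_assoc, hee]
  have hqz : q * z = 0 := by
    have h1 : z = (y - 1) * e := by rw [hz, sub_mul, one_mul]
    rw [h1, ← mul_assoc, geom_sum_mul, hym, sub_self, zero_mul]
  have hUz : U * z = 0 := by
    rw [add_mul, mul_assoc q, hez, hqz, mul_assoc, sub_mul, one_mul, hez, sub_self, mul_zero,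
      add_zero]
  have hfU : mapRingHom G f U = (m : MonoidAlgebra κ G) := by
    have hpe : ∀ j : ℕ, mapRingHom G f (y ^ j * e) = mapRingHom G f e := by
      intro j
      induction j with
      | zero => rw [pow_zero, one_mul]
      | succ j ih => rw [pow_succ, mul_assoc, map_mul, hred, ← map_mul, ih]
    simp only [U, q, Finset.sum_mul, map_add, map_sum, hpe, Finset.sum_const, Finset.card_range,
      nsmul_eq_mul, map_mul, map_natCast, map_sub, map_one]
    rw [mul_sub, mul_one]
    abel
  let L : Matrix G G k := Matrix.of fun g x => U.coeff (g * x⁻¹)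
  have hL : L.mulVec (fun x => z.coeff x) = 0 := by
    funext g
    rw [Pi.zero_apply, ← Finsupp.zero_apply (a := g) (M := k), ← coeff_zero, ← hUz, coeff_mul_eq]
    simp only [Matrix.mulVec, dotProduct, L, Matrix.of_apply]
    refine Fintype.sum_equiv ((Equiv.inv G).trans (Equiv.mulLeft g)) _ _ fun x => ?_
    simp [mul_assoc]
  have hmap : L.map f = Matrix.diagonal fun _ => (m : κ) := by
    ext g x
    simp only [L, Matrix.map_apply, Matrix.of_apply]
    rw [← coeff_mapRingHom, hfU, natCast_def, coeff_single,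
      Matrix.diagonal_apply, Finsupp.single_apply]
    simp only [eq_comm (a := (1 : G)), mul_inv_eq_one]
  have hdet : L.det ≠ 0 := fun h0 => by
    have h1 := RingHom.map_det f L
    rw [RingHom.mapMatrix_apply, hmap, h0, map_zero, Matrix.det_diagonal, Finset.prod_const] at h1
    exact hm (pow_eq_zero_iff'.1 h1.symm).1
  have h0 := Matrix.eq_zero_of_mulVec_eq_zero hdet hL
  refine sub_eq_zero.1 ?_
  ext g
  exact (congrFun h0 g).trans (by simp)

end Alg

section Group

open Cfsg
open scoped ComplexConjugate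

variable {G : Type u} [Group G] [Finite G]

/-- For an irreducible character restricting irreducibly to the normalizer of `P`, the sums over
the cosets of `P` are invariant under the normal closure of `P`. -/
theorem sum_coset_char_eq (P : Subgroup G) [Fintype P] {χ : G → ℂ} (hχ : IsIrrCharacter G χ)
    (hN : IsIrrCharacter ↥(Subgroup.normalizer (P : Set G))
      (fun n : ↥(Subgroup.normalizer (P : Set G)) => χ n))
    {x : G} (hx : x ∈ Subgroup.normalClosure (P : Set G)) (g : G) :
    ∑ u : P, χ (x * g * (u : G)) = ∑ u : P, χ (g * (u : G)) := by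
  classical
  have := Fintype.ofFinite G
  obtain ⟨n, ρ, hρ, rfl⟩ := hχ
  obtain ⟨m, σ, hσ, hχσ⟩ := hN
  by_cases hT : ∑ u : P, ρ (u : G) = 0
  · have h0 : ∀ g : G, ∑ u : P, ρ.character (g * (u : G)) = 0 := fun g => by
      simp only [Representation.character, map_mul, ← map_sum, ← Finset.mul_sum, hT, mul_zero,
        map_zero]
    rw [h0, h0]
  let ι : P →* ↥(Subgroup.normalizer (P : Set G)) :=
    Subgroup.inclusion (Subgroup.le_normalizer (H := P))
  have : Invertible (Nat.card P : ℂ) := invertibleOfNonzero CfsgLib.Char.natCard_ne_zero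
  have hfr : (Module.finrank ℂ (Representation.invariants (σ.comp ι : Representation ℂ P (Fin m → ℂ))) : ℂ) =
      (Module.finrank ℂ (Representation.invariants (ρ.comp P.subtype : Representation ℂ P (Fin n → ℂ))) : ℂ) := by
    rw [← Representation.card_inv_mul_sum_char_eq_finrank,
      ← Representation.card_inv_mul_sum_char_eq_finrank]
    congr 1
    exact Finset.sum_congr rfl fun u _ => congrFun hχσ (ι u)
  have hρne : Representation.invariants (ρ.comp P.subtype : Representation ℂ P (Fin n → ℂ)) ≠ ⊥ := by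
    obtain ⟨v, hv⟩ : ∃ v, (∑ u : P, ρ (u : G)) v ≠ 0 := by
      by_contra h
      push Not at h
      exact hT (LinearMap.ext h)
    refine fun hbot => hv ((Submodule.mem_bot ℂ).1 (hbot ▸ fun w => ?_))
    change ρ (w : G) ((∑ u : P, ρ (u : G)) v) = _
    simp only [LinearMap.sum_apply, map_sum, ← Module.End.mul_apply, ← map_mul]
    exact Fintype.sum_equiv (Equiv.mulLeft w) _ _ fun u => by simp
  let Wσ : Subrepresentation σ :=
    ⟨Representation.invariants (σ.comp ι : Representation ℂ P (Fin m → ℂ)), fun a v hv u => by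
      have hu' : (a : G)⁻¹ * u * a ∈ P := by
        have := (Subgroup.mem_normalizer_iff.1 (Subgroup.inv_mem _ a.2) (u : G)).1 u.2
        simpa using this
      have he : ι u * a = a * ι ⟨_, hu'⟩ := Subtype.ext (by simp [ι, mul_assoc])
      change σ (ι u) (σ a v) = σ a v
      rw [← Module.End.mul_apply, ← map_mul, he, map_mul, Module.End.mul_apply]
      exact congrArg (σ a) (hv ⟨_, hu'⟩)⟩
  have hWtop : Representation.invariants (σ.comp ι : Representation ℂ P (Fin m → ℂ)) = ⊤ := by
    rcases IsSimpleOrder.eq_bot_or_eq_top Wσ with h | h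
    · exfalso
      have h' : Representation.invariants (σ.comp ι : Representation ℂ P (Fin m → ℂ)) = ⊥ :=
        congrArg Subrepresentation.toSubmodule h
      rw [h', finrank_bot, Nat.cast_zero] at hfr
      exact hρne (Submodule.finrank_eq_zero.1 (Nat.cast_eq_zero.1 hfr.symm))
    · exact congrArg Subrepresentation.toSubmodule h
  have hker : Subgroup.normalClosure (P : Set G) ≤ MonoidHom.ker ρ := by
    refine Subgroup.normalClosure_le_normal fun u hu => ?_
    have hσu : σ (ι ⟨u, hu⟩) = LinearMap.id :=
      LinearMap.ext fun v => (hWtop ▸ Submodule.mem_top :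
        v ∈ Representation.invariants (σ.comp ι : Representation ℂ P (Fin m → ℂ))) ⟨u, hu⟩
    have h1 : ρ.character u = ρ.character 1 := by
      have e1 := congrFun hχσ (ι ⟨u, hu⟩)
      have e2 := congrFun hχσ 1
      simp only [OneMemClass.coe_one] at e2
      calc ρ.character u = σ.character (ι ⟨u, hu⟩) := e1.symm
        _ = σ.character 1 := by simp [Representation.character, hσu, map_one, Module.End.one_eq_id]
        _ = ρ.character 1 := e2
    rw [Representation.char_one] at h1
    exact (CfsgLib.Char.char_eq_finrank_iff ρ u).1 h1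
  refine Finset.sum_congr rfl fun u _ => ?_
  rw [mul_assoc]
  simp only [Representation.character, map_mul ρ x, MonoidHom.mem_ker.1 (hker hx), one_mul]

/-- The coset sums of the block idempotent modulo `M` are invariant under the normal closure of
`P`, when every character of the block restricts irreducibly to the normalizer of `P`. -/
theorem sum_coset_blkIdem_eq {p : ℕ} {M : Ideal AlgInt} [M.IsPrime] (hM : IsPModular p M)
    {B : Set (IrrCharacter G)} (hB : IsPBlock M B) (P : Subgroup G) [Fintype P]
    (hres : ∀ χ ∈ B, IsIrrCharacter ↥(Subgroup.normalizer (P : Set G))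
      (fun n : ↥(Subgroup.normalizer (P : Set G)) => (χ : G → ℂ) n))
    {x : G} (hx : x ∈ Subgroup.normalClosure (P : Set G)) (g : G) :
    ∑ u : P, (blkIdem M B : MonoidAlgebra (kres M) G).coeff (x * g * (u : G)) =
      ∑ u : P, (blkIdem M B : MonoidAlgebra (kres M) G).coeff (g * (u : G)) := by
  classical
  have := Fintype.ofFinite (IrrCharacter G)
  simp only [coeff_blkIdem]
  rw [← redC_sum _ _ (fun u _ => blockCoeff_memLocalRing hM hB _),
    ← redC_sum _ _ (fun u _ => blockCoeff_memLocalRing hM hB _)]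
  congr 1
  simp only [blockCoeff_eq_sum B]
  conv_lhs => rw [Finset.sum_comm]
  conv_rhs => rw [Finset.sum_comm]
  refine Finset.sum_congr rfl fun χ _ => ?_
  by_cases hχ : χ ∈ B
  · simp only [if_pos hχ, idemC, coeff_mkGA, ← Finset.mul_sum, ← map_sum,
      sum_coset_char_eq P χ.2 (hres χ hχ) hx g]
  · simp [if_neg hχ]

theorem blockCoeff_one_ne_zero {B : Set (IrrCharacter G)} {χ : IrrCharacter G} (hχ : χ ∈ B) :
    blockCoeff B (1 : G) ≠ 0 := by
  classical
  have := Fintype.ofFinite G
  have := Fintype.ofFinite (IrrCharacter G)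
  have h : blockCoeff B (1 : G) = (Nat.card G : ℂ)⁻¹ *
      ((∑ ψ ∈ Finset.univ.filter (fun ψ => ψ ∈ B), charDegree (ψ : G → ℂ) ^ 2 : ℕ) : ℂ) := by
    rw [blockCoeff, finsum_mem_eq_finite_toFinset_sum _ (Set.toFinite _), Nat.cast_sum]
    congr 1
    refine Finset.sum_congr (by ext; simp) fun ψ _ => ?_
    rw [← CfsgLib.BlockB.irr_degree_cast ψ, Complex.conj_natCast, Nat.cast_pow, sq]
  rw [h]
  refine mul_ne_zero (inv_ne_zero CfsgLib.Char.natCard_ne_zero) (Nat.cast_ne_zero.2 ?_)
  rw [Ne, Finset.sum_eq_zero_iff]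
  intro h0
  exact CfsgLib.BlockB.irr_degree_ne_zero χ
    (pow_eq_zero_iff'.1 (h0 χ (Finset.mem_filter.2 ⟨Finset.mem_univ _, hχ⟩))).1

/-- The elements fixing the principal block idempotent form a normal `p'`-subgroup containing every
`p`-regular element of the normal closure of `P`. -/
theorem exists_normal_coprime {p : ℕ} [Fact p.Prime] {M : Ideal AlgInt} (hM : IsPModular p M)
    (P : Sylow p G)
    (hres : ∀ χ ∈ principalBlock M G,
      IsIrrCharacter ↥(Subgroup.normalizer ((P : Subgroup G) : Set G))
        (fun n : ↥(Subgroup.normalizer ((P : Subgroup G) : Set G)) => (χ : G → ℂ) n)) :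
    ∃ L : Subgroup G, L.Normal ∧ (Nat.card L).Coprime p ∧
      ∀ y ∈ Subgroup.normalClosure ((P : Subgroup G) : Set G), ¬ p ∣ orderOf y → y ∈ L := by
  classical
  have := isPrime_of_pmodular hM
  have := charP_kres hM
  have := Fintype.ofFinite G
  have := Fintype.ofFinite (P : Subgroup G)
  set B := principalBlock M G
  have hB : IsPBlock M B := isPBlock_principalBlock
  set R := lring M
  let eR : MonoidAlgebra R G := mkGA fun g => ⟨blockCoeff B g, blockCoeff_memLocalRing hM hB g⟩
  have hcast : mapRingHom G R.subtype eR = blockSum B := by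
    ext g; simp [eR, blockSum, R]
  have hredR : mapRingHom G (red M) eR = (blkIdem M B : MonoidAlgebra (kres M) G) := by
    ext g
    simp only [coeff_mapRingHom, eR, coeff_mkGA, coeff_blkIdem]
    exact (redC_eq _).symm
  have hinj : Function.Injective (mapRingHom G R.subtype) := by
    intro a b h
    ext g
    have := congrArg (fun c => c.coeff g) h
    simpa using this
  have hee : eR * eR = eR := hinj (by rw [map_mul, hcast, blockSum_mul, Set.inter_self])
  have hecl : IsClassCoeff eR := fun g h => Subtype.ext (by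
    simpa [eR, blockSum] using blockSum_isClassCoeff B g h)
  have hcomm : ∀ b : MonoidAlgebra R G, b * eR = eR * b := fun b =>
    Subalgebra.mem_center_iff.1 (isClassCoeff_iff_mem_center.1 hecl) b
  let L : Subgroup G :=
    { carrier := {g | single g (1 : R) * eR = eR}
      mul_mem' := fun {a b} (ha : _ = _) (hb : _ = _) => by
        change single (a * b) (1 : R) * eR = eR
        rw [← single_mul_single_mul, hb, ha]
      one_mem' := by
        change single (1 : G) (1 : R) * eR = eR
        rw [← one_def, one_mul]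
      inv_mem' := fun {a} (ha : _ = _) => by
        change single a⁻¹ (1 : R) * eR = eR
        conv_lhs => rw [← ha]
        rw [single_mul_single_mul, inv_mul_cancel, ← one_def, one_mul] }
  refine ⟨L, ⟨fun a (ha : _ = _) g => ?_⟩, ?_, fun y hy hyp => ?_⟩
  · change single (g * a * g⁻¹) (1 : R) * eR = eR
    rw [← single_mul_single_mul, hcomm, ← single_mul_single_mul, ← mul_assoc (single a 1), ha,
      ← hcomm, single_mul_single_mul, mul_inv_cancel, ← one_def, one_mul]
  · refine Nat.coprime_comm.1 ((Fact.out (p := p.Prime)).coprime_iff_not_dvd.2 fun hdvd => ?_)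
    obtain ⟨⟨x, hx⟩, hxp⟩ := exists_prime_orderOf_dvd_card' p hdvd
    rw [Subgroup.orderOf_mk] at hxp
    have h1 := congrArg (fun c => ((c.coeff x : R) : ℂ)) (show single x (1 : R) * eR = eR from hx)
    simp only [coeff_single_mul_apply, one_mul, inv_mul_cancel, eR, coeff_mkGA] at h1
    rw [blockCoeff_eq_zero_of_singular hM hB (y := x) (by rw [hxp])] at h1
    exact blockCoeff_one_ne_zero (B := B) one_mem_principalBlock h1
  · change single y (1 : R) * eR = eR
    refine lift_mul_eq (red M) hee (hcomm _) (m := orderOf y)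
      (by rw [single_pow, pow_orderOf_eq_one, one_pow, one_def])
      (fun h => hyp ((CharP.cast_eq_zero_iff (kres M) p _).1 h)) ?_
    rw [map_mul, mapRingHom_single, map_one, hredR]
    exact regular_mul_eq P.isPGroup' _
      (isClassCoeff_center (blkIdem M B))
      (by rw [← MulMemClass.coe_mul, blkIdem_idem hM hB])
      (fun x hx g => sum_coset_blkIdem_eq hM hB (P : Subgroup G) hres hx g) y hy hyp

/-- If every principal block character is irreducible on the Sylow normalizer, the `p`-length is at
most one. -/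
theorem pLengthLE_one_of_irreducible {p : ℕ} [Fact p.Prime] {M : Ideal AlgInt}
    (hM : IsPModular p M) (P : Sylow p G)
    (hres : ∀ χ ∈ principalBlock M G,
      IsIrrCharacter ↥(Subgroup.normalizer ((P : Subgroup G) : Set G))
        (fun n : ↥(Subgroup.normalizer ((P : Subgroup G) : Set G)) => (χ : G → ℂ) n)) :
    PLengthLE p 1 G := by
  obtain ⟨L, hL, hLp, hreg⟩ := exists_normal_coprime hM P hres
  have hp : p.Prime := Fact.out
  set K := Subgroup.normalClosure ((P : Subgroup G) : Set G)
  rw [CfsgLib.PLength.pLengthLE_iff]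
  let H : ℕ → Subgroup G
    | 0 => ⊥
    | 1 => L
    | 2 => L ⊔ K
    | _ + 3 => ⊤
  refine ⟨H, ⟨rfl, rfl, ?_, monotone_nat_of_le_succ ?_, ?_⟩⟩
  · intro i
    match i with
    | 0 => exact (inferInstance : (⊥ : Subgroup G).Normal)
    | 1 => exact hL
    | 2 => exact Subgroup.sup_normal L K
    | _ + 3 => exact (inferInstance : (⊤ : Subgroup G).Normal)
  · intro i
    match i with
    | 0 => exact bot_le
    | 1 => exact le_sup_left
    | _ + 2 => exact le_top
  intro i
  match i with
  | 0 =>
    rw [PLength.stepType_even_iff hp (by decide)]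
    change ((⊥ : Subgroup G).relIndex L).Coprime p
    rwa [Subgroup.relIndex_bot_left]
  | 1 =>
    refine (PLength.stepType_odd_iff hp (by decide) Subgroup.index_ne_zero_of_finite).2 ?_
    change ∃ k, L.relIndex (L ⊔ K) = p ^ k
    rw [sup_comm, Subgroup.relIndex_sup_right,
      show L.relIndex K = Nat.card (K.map (QuotientGroup.mk' L)) by
        rw [← Subgroup.relIndex_ker, QuotientGroup.ker_mk']]
    refine IsPGroup.iff_card.1 ?_
    rintro ⟨_, x, hx, rfl⟩
    refine ⟨(orderOf x).factorization p, Subtype.ext ?_⟩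
    simp only [SubmonoidClass.coe_pow, ← map_pow, OneMemClass.coe_one]
    refine (QuotientGroup.eq_one_iff _).2 (hreg _ (K.pow_mem hx _) ?_)
    have h0 : (orderOf x) ≠ 0 := (orderOf_pos x).ne'
    rw [orderOf_pow' x (pow_ne_zero _ hp.ne_zero),
      Nat.gcd_eq_right (Nat.ordProj_dvd (orderOf x) p)]
    exact Nat.not_dvd_ordCompl hp h0
  | 2 =>
    rw [PLength.stepType_even_iff hp (by decide)]
    change ((L ⊔ K).relIndex ⊤).Coprime p
    rw [Subgroup.relIndex_top_right]
    refine Nat.coprime_comm.1 (hp.coprime_iff_not_dvd.2 fun h => P.not_dvd_index (h.trans ?_))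
    exact Subgroup.index_dvd_of_le (le_trans Subgroup.le_normalClosure le_sup_right)
  | n + 3 =>
    change CfsgLib.PLength.StepType p (n + 3) ((⊤ : Subgroup G).relIndex ⊤)
    rw [Subgroup.relIndex_self]
    exact PLength.stepType_one _ _

/-- In a group of `p`-length at most one, the principal block characters are irreducible on the
Sylow normalizer. -/
theorem irreducible_of_pLengthLE_one {p : ℕ} [Fact p.Prime] {M : Ideal AlgInt}
    (hM : IsPModular p M) (P : Sylow p G) (h : PLengthLE p 1 G) {χ : IrrCharacter G}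
    (hχ : χ ∈ principalBlock M G) :
    IsIrrCharacter ↥(Subgroup.normalizer ((P : Subgroup G) : Set G))
      (fun n : ↥(Subgroup.normalizer ((P : Subgroup G) : Set G)) => (χ : G → ℂ) n) := by
  have hp : p.Prime := Fact.out
  obtain ⟨H, hH⟩ := CfsgLib.PLength.pLengthLE_iff.1 h
  have := hH.normal 1
  have := hH.normal 2
  have h3 : H 3 = ⊤ := hH.last
  have h01 := (PLength.stepType_even_iff hp (by decide)).1 (hH.step 0)
  rw [hH.zero, zero_add, Subgroup.relIndex_bot_left] at h01
  obtain ⟨a, ha⟩ := (PLength.stepType_odd_iff hp (by decide) Subgroup.index_ne_zero_of_finite).1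
    (hH.step 1)
  have h23 := (PLength.stepType_even_iff hp (by decide)).1 (hH.step 2)
  rw [h3, Subgroup.relIndex_top_right] at h23
  obtain ⟨b, hb⟩ := IsPGroup.iff_card.1 P.isPGroup'
  have hP2 : (P : Subgroup G) ≤ H 2 := Subgroup.relIndex_eq_one.1
    (Nat.eq_one_of_dvd_coprimes (h23.pow_right b) (Subgroup.relIndex_dvd_index_of_normal _ _)
      (hb ▸ Subgroup.relIndex_dvd_card _ _))
  have hPi : (Nat.Coprime p (P : Subgroup G).index) := hp.coprime_iff_not_dvd.2 P.not_dvd_index
  have hH2 : H 2 ≤ H 1 ⊔ (P : Subgroup G) := Subgroup.relIndex_eq_one.1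
    (Nat.eq_one_of_dvd_coprimes (hPi.pow_left a)
      (ha ▸ Subgroup.relIndex_dvd_of_le_left _ le_sup_left)
      ((Subgroup.relIndex_dvd_of_le_left _ le_sup_right).trans
        ⟨(H 2).index, (Subgroup.relIndex_mul_index hP2).symm⟩))
  have htop : Subgroup.normalizer ((P : Subgroup G) : Set G) ⊔ H 1 = ⊤ := by
    have h1 : Subgroup.normalizer ((P : Subgroup G) : Set G) ⊔ H 2 = ⊤ :=
      Sylow.normalizer_sup_eq_top' P hP2
    rw [eq_top_iff, ← h1]
    exact sup_le le_sup_left (hH2.trans (sup_le le_sup_right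
      (Subgroup.le_normalizer.trans le_sup_left)))
  have hker := CfsgLib.BlockB.normal_le_ker_principal hM (H 1)
    (hp.coprime_iff_not_dvd.1 h01.symm) hχ
  obtain ⟨n, ρ, hρ, hχρ⟩ := χ.2
  set N := Subgroup.normalizer ((P : Subgroup G) : Set G)
  have hex : ∀ g : G, ∃ a : N, ρ (a : G) = ρ g := fun g => by
    obtain ⟨a, ha, l, hl, rfl⟩ := Subgroup.mem_sup_of_normal_right.1
      (htop ▸ Subgroup.mem_top g : g ∈ N ⊔ H 1)
    refine ⟨⟨a, ha⟩, ?_⟩
    have h1 := hker l hl
    rw [← hχρ, Representation.char_one] at h1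
    rw [map_mul, (CfsgLib.Char.char_eq_finrank_iff ρ l).1 h1]
    rfl
  let e : Subrepresentation ρ ≃o Subrepresentation (ρ.comp N.subtype : Representation ℂ N (Fin n → ℂ)) :=
    { toFun := fun p => ⟨p.toSubmodule, fun a => p.apply_mem_toSubmodule (a : G)⟩
      invFun := fun q => ⟨q.toSubmodule, fun g v hv => by
        obtain ⟨a, ha⟩ := hex g
        rw [← ha]
        exact q.apply_mem_toSubmodule a hv⟩
      left_inv := fun p => rfl
      right_inv := fun q => rfl
      map_rel_iff' := Iff.rfl }
  have : Representation.IsIrreducible (ρ.comp N.subtype : Representation ℂ N (Fin n → ℂ)) :=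
    (OrderIso.isSimpleOrder_iff e).mp hρ
  rw [← hχρ]
  exact CfsgLib.Char.isIrrCharacter_of_rep
    (ρ.comp N.subtype : Representation ℂ N (Fin n → ℂ))

end Group

end CfsgLib.Solvable.PLengthBlock
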