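import Cfsg.Agent.Lib.Solvable.Zipper
import Cfsg.Agent.Lib.Invol.BaerSuzuki

/-!
Conjugation-closed families of subnormal subgroups.
-/

set_option autoImplicit false

namespace CfsgLib.Solvable

open Subgroup
open scoped Pointwise

variable {G : Type*} [Group G] [Finite G]

theorem isSubnormal_sSup (S : Set (Subgroup G)) (hS : ∀ U ∈ S, U.IsSubnormal) :
    (sSup S).IsSubnormal := by
  classical
  haveI : Finite (Subgroup G) := Finite.of_injective _ SetLike.coe_injective
  induction S, S.toFinite using Set.Finite.induction_on with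
  | empty => rw [sSup_empty]; exact Subgroup.IsSubnormal.bot
  | @insert a s _ _ ih =>
    rw [sSup_insert]
    exact CfsgLib.PLocal.isSubnormal_sup (hS a (Set.mem_insert _ _))
      (ih fun U hU => hS U (Set.mem_insert_of_mem a hU))

/-- A proper subfamily is normalised by a member outside it. -/
theorem exists_normalizing_of_subnormal_family (S S₀ : Set (Subgroup G))
    (hS : ∀ U ∈ S, U.IsSubnormal) (hconj : ∀ U ∈ S, ∀ g : G, MulAut.conj g • U ∈ S) (h₀ : S₀ ⊂ S) :
    ∃ X ∈ S, X ∉ S₀ ∧ X ≤ normalizer ((sSup S₀ : Subgroup G) : Set G) := by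
  by_cases hin : ∃ X ∈ S, X ∉ S₀ ∧ X ≤ sSup S₀
  · obtain ⟨X, h1, h2, h3⟩ := hin
    exact ⟨X, h1, h2, h3.trans Subgroup.le_normalizer⟩
  push Not at hin
  obtain ⟨Y, hY, hY0⟩ := Set.exists_of_ssubset h₀
  set Q := sSup S₀ with hQ
  by_cases hn : Q.Normal
  · refine ⟨Y, hY, hY0, ?_⟩
    rw [Subgroup.normalizer_eq_top_iff.mpr hn]
    exact le_top
  obtain ⟨c, hc, hcn⟩ := exists_conj_le_normalizer_of_isSubnormal
    (isSubnormal_sSup S₀ fun U hU => hS U (h₀.1 hU)) hn
  by_contra hcon
  push Not at hcon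
  refine hc (eq_of_le_of_card_le ?_ (by rw [card_conj_smul]))
  rw [conj_smul_eq_map, sSup_eq_iSup, Subgroup.map_iSup]
  refine iSup_le fun U => ?_
  rw [Subgroup.map_iSup]
  refine iSup_le fun hU => ?_
  rw [← conj_smul_eq_map]
  by_contra hle
  refine hcon _ (hconj U (h₀.1 hU) c) (fun h => hle ?_) ((conj_smul_mono c (le_sSup hU)).trans hcn)
  exact (le_sSup h).trans_eq (by rw [sSup_eq_iSup])

/-- Wielandt's criterion for a unique maximal member. -/
theorem exists_greatest_of_subnormal_conj (A : Subgroup G) (U : Set (Subgroup G)) (hU : U.Nonempty)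
    (S : Subgroup G → Set (Subgroup G))
    (hS : ∀ V B : Subgroup G, B ∈ S V ↔
      (∃ g : G, B = MulAut.conj g • A) ∧ B ≤ V ∧ (B.subgroupOf V).IsSubnormal)
    (h2 : ∀ V ∈ U, ∀ W ∈ U, ∀ B ∈ S W, B ≤ V → B ∈ S V)
    (h3 : ∀ V ∈ U, ∀ W ∈ U, ∃ X ∈ U,
      normalizer ((sSup (S V ∩ S W) : Subgroup G) : Set G) ≤ X) :
    ∃ M ∈ U, ∀ V ∈ U, V ≤ M := by
  classical
  haveI : Finite (Subgroup G) := Finite.of_injective _ SetLike.coe_injective
  have hmax : ∀ V ∈ U, ∃ M ∈ U, V ≤ M ∧ ∀ W ∈ U, M ≤ W → W = M := fun V hV => by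
    obtain ⟨M, hVM, hM⟩ := Finite.exists_le_maximal (p := fun W : Subgroup G => W ∈ U) hV
    exact ⟨M, hM.prop, hVM, fun W hW hMW => le_antisymm (hM.le_of_ge hW hMW) hMW⟩
  obtain ⟨V₀, hV₀⟩ := hU
  obtain ⟨M, hM, -, hMmax⟩ := hmax V₀ hV₀
  suffices key : ∀ n : ℕ, ∀ V W : Subgroup G, V ∈ U → W ∈ U → (∀ X ∈ U, V ≤ X → X = V) →
      (∀ X ∈ U, W ≤ X → X = W) → Nat.card (Subgroup G) ≤ n + (S V ∩ S W).ncard → V = W by
    refine ⟨M, hM, fun V hV => ?_⟩
    obtain ⟨W, hW, hVW, hWmax⟩ := hmax V hV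
    exact hVW.trans (key _ W M hW hM hWmax hMmax (Nat.le_add_right _ _)).le
  intro n
  induction n using Nat.strong_induction_on with
  | _ n ih =>
    intro V W hV hW hVmax hWmax hn
    obtain ⟨X, hX, hNX⟩ := h3 V hV W hW
    obtain ⟨T, hT, hXT, hTmax⟩ := hmax X hX
    set D := S V ∩ S W with hD
    -- one step: either `T = V`, or the intersection grows
    have step : ∀ V : Subgroup G, V ∈ U → (∀ X ∈ U, V ≤ X → X = V) → D ⊆ S V → V = T := by
      intro V hV hVmax hDV
      have hDT : D ⊆ S T := fun B hB => h2 T hT V hV B (hDV hB)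
        ((le_sSup hB).trans (Subgroup.le_normalizer.trans (hNX.trans hXT)))
      by_cases hne : D = S V
      · refine (hVmax T hT ?_).symm
        refine le_trans (fun v hv => ?_) (hNX.trans hXT)
        rw [← conj_smul_eq_self_iff, hne]
        refine eq_of_le_of_card_le ?_ (by rw [card_conj_smul])
        rw [conj_smul_eq_map, sSup_eq_iSup, Subgroup.map_iSup]
        refine iSup_le fun B => ?_
        rw [Subgroup.map_iSup]
        refine iSup_le fun hB => ?_
        rw [← conj_smul_eq_map]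
        obtain ⟨⟨g, rfl⟩, hBV, hBs⟩ := (hS _ _).mp hB
        refine le_iSup₂_of_le (MulAut.conj v • MulAut.conj g • A) ((hS _ _).mpr ⟨?_, ?_, ?_⟩) le_rfl
        · exact ⟨v * g, conj_smul_conj_smul v g A⟩
        · exact (conj_smul_mono v hBV).trans (Subgroup.conj_smul_eq_self_of_mem hv).le
        · refine conj_smul_subgroupOf_isSubnormal ?_
          rwa [Subgroup.conj_smul_eq_self_of_mem (inv_mem hv)]
      · -- a member outside `D` normalising `sSup D`
        set S' := (fun B : Subgroup G => B.subgroupOf V) '' S V with hS'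
        set D' := (fun B : Subgroup G => B.subgroupOf V) '' D with hD'
        have hle : ∀ B ∈ S V, B ≤ V := fun B hB => ((hS V B).mp hB).2.1
        have hinj : Set.InjOn (fun B : Subgroup G => B.subgroupOf V) (S V) := fun B hB C hC h => by
          rw [← Subgroup.map_subgroupOf_eq_of_le (hle B hB), ← Subgroup.map_subgroupOf_eq_of_le (hle C hC)]
          exact congrArg _ h
        obtain ⟨Y', hY', hY'D, hY'N⟩ := exists_normalizing_of_subnormal_family S' D'
          (by rintro _ ⟨B, hB, rfl⟩; exact ((hS V B).mp hB).2.2)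
          (by
            rintro _ ⟨B, hB, rfl⟩ v
            obtain ⟨⟨g, rfl⟩, hBV, hBs⟩ := (hS _ _).mp hB
            refine ⟨MulAut.conj (v : G) • MulAut.conj g • A, (hS _ _).mpr ⟨⟨v * g, conj_smul_conj_smul _ g A⟩,
              (conj_smul_mono _ hBV).trans (Subgroup.conj_smul_eq_self_of_mem v.2).le, ?_⟩, ?_⟩
            · refine conj_smul_subgroupOf_isSubnormal ?_
              rwa [Subgroup.conj_smul_eq_self_of_mem (inv_mem v.2)]
            · refine Subgroup.map_injective V.subtype_injective ?_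
              rw [conj_smul_subtype, Subgroup.map_subgroupOf_eq_of_le hBV]
              exact Subgroup.map_subgroupOf_eq_of_le
                ((conj_smul_mono _ hBV).trans (Subgroup.conj_smul_eq_self_of_mem v.2).le))
          (by
            refine (Set.image_mono hDV).ssubset_of_ne fun h => hne ?_
            exact (hinj.image_eq_image_iff hDV subset_rfl).mp h)
        obtain ⟨Y, hY, rfl⟩ := hY'
        have hYD : Y ∉ D := fun h => hY'D ⟨Y, h, rfl⟩
        have hsupD : sSup D' = (sSup D).subgroupOf V := by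
          refine Subgroup.map_injective V.subtype_injective ?_
          rw [Subgroup.map_subgroupOf_eq_of_le (sSup_le fun B hB => hle B (hDV hB)), hD', sSup_image,
            Subgroup.map_iSup]
          simp only [Subgroup.map_iSup]
          rw [sSup_eq_iSup]
          exact iSup_congr fun B => iSup_congr fun hB => Subgroup.map_subgroupOf_eq_of_le (hle B (hDV hB))
        have hYN : Y ≤ normalizer ((sSup D : Subgroup G) : Set G) := by
          intro y hy
          have h := hY'N (show (⟨y, hle Y hY hy⟩ : V) ∈ Y.subgroupOf V from hy)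
          rw [hsupD, ← Subgroup.subgroupOf_normalizer_eq (sSup_le fun B hB => hle B (hDV hB))] at h
          exact h
        have hgrow : D.ncard < (S V ∩ S T).ncard := by
          have hsub : D ⊆ S V ∩ S T := fun B hB => ⟨hDV hB, hDT hB⟩
          refine Set.ncard_lt_ncard ((Set.ssubset_iff_of_subset hsub).mpr
            (⟨Y, ⟨hY, h2 T hT V hV Y hY (hYN.trans (hNX.trans hXT))⟩, hYD⟩ : ∃ x, x ∈ S V ∩ S T ∧ x ∉ D)) (Set.toFinite _)
        have hcard : (S V ∩ S T).ncard ≤ Nat.card (Subgroup G) := by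
          rw [← Set.ncard_univ]; exact Set.ncard_le_ncard (Set.subset_univ _) (Set.toFinite _)
        exact ih (Nat.card (Subgroup G) - (S V ∩ S T).ncard) (by omega) V T hV hT hVmax hTmax
          (by omega)
    exact (step V hV hVmax Set.inter_subset_left).trans (step W hW hWmax Set.inter_subset_right).symm

/-- Orbits generating `p`-groups: some Sylow subgroup whose members' join is normalised by `Y`. -/
theorem exists_sylow_normalizing_weak_closure {p : ℕ} [Fact p.Prime] (Z Y : Subgroup G)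
    (h : ∀ g : G, IsPGroup p ↥(⨆ y ∈ Y, MulAut.conj (y * g) • Z)) :
    ∃ P : Sylow p G, Y ≤ normalizer ((⨆ g ∈ {g : G | MulAut.conj g • Z ≤ (P : Subgroup G)},
      MulAut.conj g • Z : Subgroup G) : Set G) := by
  classical
  haveI : Finite (Subgroup G) := Finite.of_injective _ SetLike.coe_injective
  set D : Set (Subgroup G) := Set.range fun g : G => MulAut.conj g • Z with hD
  let good : Subgroup G → Prop := fun R =>
    IsPGroup p R ∧ Y ≤ normalizer (R : Set G) ∧ R = sSup {A ∈ D | A ≤ R}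
  have hbot : good ⊥ := ⟨IsPGroup.of_bot, by rw [Subgroup.normalizer_eq_top]; exact le_top,
    (le_bot_iff.mp (sSup_le fun A hA => hA.2)).symm⟩
  obtain ⟨R, -, hR⟩ := Finite.exists_le_maximal (p := good) hbot
  obtain ⟨hRp, hRY, hRsup⟩ := hR.prop
  obtain ⟨P, hP⟩ := hRp.exists_le_sylow
  refine ⟨P, ?_⟩
  suffices hall : ∀ A ∈ D, A ≤ (P : Subgroup G) → A ≤ R by
    have e : (⨆ g ∈ {g : G | MulAut.conj g • Z ≤ (P : Subgroup G)}, MulAut.conj g • Z : Subgroup G) = R := by
      refine le_antisymm (iSup₂_le fun g hg => hall _ ⟨g, rfl⟩ hg) ?_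
      conv_lhs => rw [hRsup]
      refine sSup_le ?_
      rintro _ ⟨⟨g, rfl⟩, hle⟩
      exact le_iSup₂_of_le g (show MulAut.conj g • Z ≤ (P : Subgroup G) from hle.trans hP) le_rfl
    rwa [e]
  by_contra hcon
  push Not at hcon
  have hRP : R = sSup {A ∈ D | A ≤ R ∧ A ≤ (P : Subgroup G)} := by
    conv_lhs => rw [hRsup]
    congr 1
    ext A
    exact ⟨fun h => ⟨h.1, h.2, h.2.trans hP⟩, fun h => ⟨h.1, h.2.1⟩⟩
  obtain ⟨X, hX, -, hXR, hXN⟩ := CfsgLib.Invol.exists_normalizing_member (p := p) (D := D)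
    (by
      rintro _ ⟨g, rfl⟩ x
      exact ⟨x * g, (conj_smul_conj_smul x g Z).symm.trans (conj_smul_eq_map _ _)⟩)
    P.2 hRP hcon
  obtain ⟨g, rfl⟩ := hX
  set O : Subgroup G := ⨆ y ∈ Y, MulAut.conj (y * g) • Z with hO
  have hON : O ≤ normalizer (R : Set G) := iSup₂_le fun y hy => by
    rw [← conj_smul_conj_smul]
    exact (conj_smul_mono y hXN).trans (Subgroup.conj_smul_eq_self_of_mem (hRY hy)).le
  have hXO : MulAut.conj g • Z ≤ O :=
    le_iSup₂_of_le (1 : G) Y.one_mem (by rw [one_mul])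
  refine hXR (hXO.trans (le_sup_right.trans
    (hR.le_of_ge (y := R ⊔ O) ⟨?_, ?_, ?_⟩ le_sup_left)))
  · rw [sup_comm]
    exact (h g).to_sup_of_normal_right' hRp hON
  · intro y hy
    rw [← conj_smul_eq_self_iff, Subgroup.smul_sup, conj_smul_eq_self_iff.mpr (hRY hy)]
    congr 1
    refine eq_of_le_of_card_le ?_ (by rw [card_conj_smul])
    rw [conj_smul_eq_map, hO, Subgroup.map_iSup]
    refine iSup_le fun z => ?_
    rw [Subgroup.map_iSup]
    refine iSup_le fun hz => ?_
    rw [← conj_smul_eq_map, conj_smul_conj_smul, ← mul_assoc]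
    exact le_iSup₂_of_le (y * z) (Y.mul_mem hy hz) le_rfl
  · refine le_antisymm (sup_le ?_ (iSup₂_le fun y hy => le_sSup ⟨⟨y * g, rfl⟩, ?_⟩)) (sSup_le fun A hA => hA.2)
    · conv_lhs => rw [hRsup]
      exact sSup_le_sSup fun A hA => ⟨hA.1, hA.2.trans le_sup_left⟩
    · exact (le_iSup₂ (f := fun y (_ : y ∈ Y) => MulAut.conj (y * g) • Z) y hy).trans le_sup_right

end CfsgLib.Solvable
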