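import Cfsg.Agent.Lib.Solvable.Supersolvable
import Cfsg.Agent.Lib.Solvable.Basic
import Cfsg.Agent.Lib.StructB.SuperTower
import Cfsg.Agent.Lib.Transfer.HallComplement

/-!
# Supersolvable Hall subgroups of the same order are conjugate
-/

namespace CfsgLib.Solvable

open Subgroup
open scoped Pointwise

universe u

/-- A nontrivial supersolvable group has a normal Sylow subgroup for its largest prime. -/
theorem exists_normal_sylow_of_isSupersolvable {H : Type u} [Group H] [Finite H] {p : ℕ}
    [hp : Fact p.Prime] (h : Cfsg.IsSupersolvable H)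
    (hmax : ∀ r : ℕ, r.Prime → r ∣ Nat.card H → r ≤ p) :
    ∃ T : Sylow p H, (T : Subgroup H).Normal := by
  obtain ⟨N, hN, hge, hidx⟩ := CfsgLib.StructB.exists_tower_of_supersolvable h p
  have hNp : IsPGroup p N := IsPGroup.of_card
    (Nat.eq_prime_pow_of_unique_prime_dvd Nat.card_pos.ne' fun {r} hr hrN =>
      le_antisymm (hmax r hr (hrN.trans N.card_subgroup_dvd_card)) (hge r hr hrN))
  refine ⟨hNp.toSylow fun hd => lt_irrefl p (hidx p hp.out hd), ?_⟩
  exact hN

theorem supersolvable_hall_conj_aux : ∀ (n : ℕ) {G : Type u} [Group G] [Finite G]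
    (H K : Subgroup G), Nat.card H ≤ n → Cfsg.IsSupersolvable H → Cfsg.IsSupersolvable K →
    Nat.card H = Nat.card K → (Nat.card H).Coprime H.index →
    ∃ x : G, MulAut.conj x • H = K := by
  intro n
  induction n with
  | zero => intro G _ _ H K hn; exact absurd hn (Nat.card_pos (α := H)).not_ge
  | succ n ih =>
    intro G _ _ H K hn hH hK hcard hHall
    by_cases h1 : Nat.card H = 1
    · refine ⟨1, ?_⟩
      have e1 : H = ⊥ := card_eq_one.1 h1
      have e2 : K = ⊥ := card_eq_one.1 (hcard ▸ h1)
      rw [conj_one_smul, e1, e2]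
    obtain ⟨p, hp, hmax⟩ := Finset.exists_max_image (Nat.card H).primeFactors id
      (Nat.nonempty_primeFactors.2 (by have := Nat.card_pos (α := H); omega))
    rw [Nat.mem_primeFactors] at hp
    have := Fact.mk hp.1
    have hmax' : ∀ r : ℕ, r.Prime → r ∣ Nat.card H → r ≤ p := fun r hr hrH =>
      hmax r (Nat.mem_primeFactors.2 ⟨hr, hrH, hp.2.2⟩)
    have hKidx : K.index = H.index := by
      refine Nat.eq_of_mul_eq_mul_left (Nat.card_pos (α := K)) ?_
      rw [K.card_mul_index, ← hcard, H.card_mul_index]
    obtain ⟨S, hS⟩ := exists_normal_sylow_of_isSupersolvable hH hmax'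
    obtain ⟨T, hT⟩ := exists_normal_sylow_of_isSupersolvable hK (hcard ▸ hmax')
    obtain ⟨P, hP⟩ := CfsgLib.Transfer.exists_sylow_eq_map_subtype H hHall hp.2.1 S
    obtain ⟨Q, hQ⟩ := CfsgLib.Transfer.exists_sylow_eq_map_subtype K (hKidx ▸ hcard ▸ hHall)
      (hcard ▸ hp.2.1) T
    obtain ⟨g, hg⟩ := MulAction.exists_smul_eq G P Q
    set N := normalizer ((Q : Subgroup G) : Set G) with hN
    have hKN : K ≤ N := by
      have := le_normalizer_map (H := (T : Subgroup K)) K.subtype
      rw [normalizer_eq_top_iff.2 hT, ← MonoidHom.range_eq_map, range_subtype, ← hQ] at this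
      exact this
    have hHN : MulAut.conj g • H ≤ N := by
      have h2 := le_normalizer_map (H := (S : Subgroup H)) H.subtype
      rw [normalizer_eq_top_iff.2 hS, ← MonoidHom.range_eq_map, range_subtype, ← hP] at h2
      intro x hx
      obtain ⟨y, hy, rfl⟩ := hx
      have h3 := mem_map_of_mem (MulAut.conj g).toMonoidHom (h2 hy)
      rw [map_equiv_normalizer_eq] at h3
      rw [hN, ← hg, Sylow.coe_subgroup_smul]
      exact h3
    set M := (Q : Subgroup G).subgroupOf N with hM
    have : M.Normal := normal_subgroupOf_iff le_normalizer |>.2 fun a b ha hb =>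
      (mem_normalizer_iff.1 hb a).1 ha
    set π := QuotientGroup.mk' M with hπ
    set H₁ := (MulAut.conj g • H).subgroupOf N with hH₁
    set K₁ := K.subgroupOf N with hK₁
    have hMK : M ≤ K₁ := comap_mono (hQ ▸ map_subtype_le _)
    have hMH : M ≤ H₁ := by
      refine comap_mono ?_
      rw [← hg, Sylow.coe_subgroup_smul, hP]
      exact conj_smul_mono g (map_subtype_le _)
    have hc1 : Nat.card H₁ = Nat.card H := by
      rw [hH₁, Nat.card_congr (subgroupOfEquivOfLe hHN).toEquiv, card_conj_smul]
    have hc2 : Nat.card K₁ = Nat.card H := by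
      rw [hK₁, Nat.card_congr (subgroupOfEquivOfLe hKN).toEquiv, hcard]
    have hM1 : 1 < Nat.card M := by
      rw [hM, Nat.card_congr (subgroupOfEquivOfLe le_normalizer).toEquiv]
      exact Finite.one_lt_card_iff_nontrivial.2 ((nontrivial_iff_ne_bot _).2
        (Q.ne_bot_of_dvd_card ((hcard ▸ hp.2.1).trans K.card_subgroup_dvd_card)))
    have hlt : Nat.card (H₁.map π) ≤ n := by
      have := card_map_mk'_eq M hMH
      have := Nat.card_pos (α := H₁.map π)
      rw [hπ]
      nlinarith
    have hss1 : Cfsg.IsSupersolvable H₁ := by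
      refine isSupersolvable_of_surjective
        (((subgroupOfEquivOfLe hHN).symm.toMonoidHom).comp
          (H.equivMapOfInjective (MulAut.conj g).toMonoidHom (MulEquiv.injective _)).toMonoidHom)
        ?_ hH
      exact (subgroupOfEquivOfLe hHN).symm.surjective.comp
        (H.equivMapOfInjective _ (MulEquiv.injective _)).surjective
    have hss2 : Cfsg.IsSupersolvable K₁ :=
      isSupersolvable_of_surjective (subgroupOfEquivOfLe hKN).symm.toMonoidHom
        (MulEquiv.surjective _) hK
    obtain ⟨x, hx⟩ := ih (H₁.map π) (K₁.map π) hlt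
      (isSupersolvable_of_surjective _ (π.subgroupMap_surjective H₁) hss1)
      (isSupersolvable_of_surjective _ (π.subgroupMap_surjective K₁) hss2)
      (Nat.eq_of_mul_eq_mul_right (Nat.card_pos (α := M))
        (by rw [hπ, card_map_mk'_eq M hMH, card_map_mk'_eq M hMK, hc1, hc2]))
      (by
        refine (hHall.coprime_dvd_left ?_).coprime_dvd_right ?_
        · exact hc1 ▸ card_map_mk'_dvd M H₁
        · rw [index_map_eq _ (QuotientGroup.mk'_surjective M)
            (by rwa [QuotientGroup.ker_mk'])]
          rw [← index_conj_smul g H]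
          exact relIndex_dvd_index_of_le hHN)
    obtain ⟨x, rfl⟩ := QuotientGroup.mk'_surjective M x
    rw [← map_conj_smul] at hx
    refine ⟨(x : G) * g, ?_⟩
    have hxM : M ≤ MulAut.conj x • H₁ := by
      rw [← Subgroup.Normal.conj_smul_eq_self x M]
      exact conj_smul_mono x hMH
    have h2 : MulAut.conj x • H₁ = K₁ := by
      have := congrArg (Subgroup.comap π) hx
      rwa [hπ, Subgroup.comap_map_eq, Subgroup.comap_map_eq, QuotientGroup.ker_mk',
        sup_eq_left.2 hMK, sup_eq_left.2 hxM] at this
    rw [← conj_smul_conj_smul]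
    have := congrArg (Subgroup.map N.subtype) h2
    rwa [conj_smul_subtype, hH₁, hK₁, map_subgroupOf_eq_of_le hHN,
      map_subgroupOf_eq_of_le hKN] at this

end CfsgLib.Solvable
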