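import Cfsg.Agent.Lib.Solvable.HallSystem
import Cfsg.Agent.Lib.Solvable.Wielandt
import Cfsg.Agent.Lib.Solvable.Permute

/-!
Sylow bases.
-/

set_option autoImplicit false

namespace CfsgLib.Solvable

open Subgroup
open scoped Pointwise

variable {G : Type*} [Group G]

theorem map_primeSet (G : Type*) [Group G] [Finite G] :
    (primeSet G).map ⟨fun p : Nat.Primes => (p : ℕ), Nat.Primes.coe_nat_injective⟩ = (Nat.card G).primeFactors := by
  ext x
  simp only [Finset.mem_map, Function.Embedding.coeFn_mk, Nat.mem_primeFactors]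
  constructor
  · rintro ⟨p, hp, rfl⟩
    exact ⟨p.2, mem_primeSet.mp hp, Nat.card_pos.ne'⟩
  · rintro ⟨hx, hd, -⟩
    exact ⟨⟨x, hx⟩, mem_primeSet.mpr hd, rfl⟩

theorem prod_primeSet (G : Type*) [Group G] [Finite G] :
    ∏ p ∈ primeSet G, (p : ℕ) ^ (Nat.card G).factorization (p : ℕ) = Nat.card G := by
  have h := Nat.prod_factorization_pow_eq_self (Nat.card_pos (α := G)).ne'
  rw [Finsupp.prod, Nat.support_factorization, ← map_primeSet G, Finset.prod_map] at h
  exact h

theorem factorization_eq_zero_of_notMem_primeSet [Finite G] {p : Nat.Primes} (hp : p ∉ primeSet G) :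
    (Nat.card G).factorization (p : ℕ) = 0 :=
  Nat.factorization_eq_zero_of_not_dvd fun h => hp (mem_primeSet.mpr h)

theorem prod_erase_primeSet (G : Type*) [Group G] [Finite G] (p : Nat.Primes) :
    ((p : ℕ) ^ (Nat.card G).factorization (p : ℕ)) *
      ∏ q ∈ (primeSet G).erase p, (q : ℕ) ^ (Nat.card G).factorization (q : ℕ) = Nat.card G := by
  by_cases hp : p ∈ primeSet G
  · rw [Finset.mul_prod_erase _ (fun q : Nat.Primes => (q : ℕ) ^ (Nat.card G).factorization (q : ℕ)) hp,
      prod_primeSet]
  · rw [Finset.erase_eq_of_notMem hp, prod_primeSet, factorization_eq_zero_of_notMem_primeSet hp,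
      pow_zero, one_mul]

theorem exists_sylowBasis [Finite G] [Group.IsSolvable G] :
    ∃ S : (p : Nat.Primes) → Sylow (p : ℕ) G,
      ∀ p q : Nat.Primes, (S p : Set G) * (S q : Set G) = (S q : Set G) * (S p : Set G) := by
  classical
  obtain ⟨K, hK⟩ := exists_complementSystem (G := G)
  have hcard : ∀ p, Nat.card (((primeSet G).erase p).inf K : Subgroup G)
      = (p : ℕ) ^ (Nat.card G).factorization (p : ℕ) := by
    intro p
    have h1 := (((primeSet G).erase p).inf K).card_mul_index
    rw [index_finset_inf hK, Finset.prod_congr rfl fun q _ => hK q] at h1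
    exact Nat.eq_of_mul_eq_mul_right
      (Finset.prod_pos fun q _ => pow_pos q.2.pos _) (h1.trans (prod_erase_primeSet G p).symm)
  have (p : Nat.Primes) : Fact (p : ℕ).Prime := ⟨p.2⟩
  refine ⟨fun p => Sylow.ofCard _ (hcard p), fun p q => ?_⟩
  simp only [← Sylow.coe_coe, Sylow.coe_ofCard]
  by_cases hpq : p = q
  · rw [hpq]
  set H := ((primeSet G).erase p).inf K with hH
  set L := ((primeSet G).erase q).inf K with hL
  set X := (((primeSet G).erase p).erase q).inf K with hX
  have hHX : H ≤ X := Finset.inf_mono (Finset.erase_subset _ _)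
  have hLX : L ≤ X := by
    rw [hX, Finset.erase_right_comm]
    exact Finset.inf_mono (Finset.erase_subset _ _)
  have hXc : Nat.card X = Nat.card H * Nat.card L := by
    have h1 := X.card_mul_index
    have h2 : X.index * ((p : ℕ) ^ (Nat.card G).factorization (p : ℕ) *
        (q : ℕ) ^ (Nat.card G).factorization (q : ℕ)) = Nat.card G := by
      rw [hX, index_finset_inf hK, Finset.prod_congr rfl fun r _ => hK r]
      set f := fun r : Nat.Primes => (r : ℕ) ^ (Nat.card G).factorization (r : ℕ) with hf
      have e2 : f q * ∏ r ∈ ((primeSet G).erase p).erase q, f r = ∏ r ∈ (primeSet G).erase p, f r := by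
        by_cases hq : q ∈ (primeSet G).erase p
        · exact Finset.mul_prod_erase _ f hq
        · rw [Finset.erase_eq_of_notMem hq]
          have hq0 : q ∉ primeSet G := fun h => hq (Finset.mem_erase.mpr ⟨fun he => hpq he.symm, h⟩)
          rw [show f q = 1 by rw [hf]; simp [factorization_eq_zero_of_notMem_primeSet hq0], one_mul]
      refine Eq.trans ?_ (prod_erase_primeSet G p)
      show _ = f p * ∏ r ∈ (primeSet G).erase p, f r
      rw [← e2]
      simp only [hf]
      ring
    rw [hcard, hcard]
    refine Nat.eq_of_mul_eq_mul_right (Nat.pos_of_ne_zero (index_ne_zero_of_finite (H := X))) ?_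
    rw [h1, mul_comm, h2]
  have hco : (Nat.card H).Coprime (Nat.card L) := by
    rw [hcard, hcard]
    exact Nat.Coprime.pow _ _ ((Nat.coprime_primes p.2 q.2).mpr fun he => hpq (Subtype.ext he))
  have key : ∀ A B : Subgroup G, A ≤ X → B ≤ X → (Nat.card A).Coprime (Nat.card B) →
      Nat.card X = Nat.card A * Nat.card B → (A : Set G) * (B : Set G) = X := by
    intro A B hA hB hc hX2
    refine Set.eq_of_subset_of_ncard_le (Subgroup.mul_subset hA hB) ?_
    have h3 := card_mul_set_mul_card_inf A B
    rw [disjoint_iff.mp (Subgroup.disjoint_of_coprime_natCard hc), Subgroup.card_bot, mul_one,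
      Nat.card_coe_set_eq] at h3
    rw [h3, ← hX2, ← Nat.card_coe_set_eq]
    rfl
  rw [key H L hHX hLX hco hXc, key L H hLX hHX hco.symm (hXc.trans (mul_comm _ _))]

theorem isSolvable_of_sylowBasis [Finite G] (S : (p : Nat.Primes) → Sylow (p : ℕ) G)
    (hS : ∀ p q : Nat.Primes, (S p : Set G) * (S q : Set G) = (S q : Set G) * (S p : Set G)) :
    Group.IsSolvable G := by
  classical
  have (p : Nat.Primes) : Fact (p : ℕ).Prime := ⟨p.2⟩
  have hcop : ∀ i j : Nat.Primes, i ≠ j →
      (Nat.card (S i : Subgroup G)).Coprime (Nat.card (S j : Subgroup G)) := fun i j hij => by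
    rw [(S i).card_eq_multiplicity, (S j).card_eq_multiplicity]
    exact Nat.Coprime.pow _ _ ((Nat.coprime_primes i.2 j.2).mpr fun he => hij (Subtype.ext he))
  refine isSolvable_of_complements fun p hp => ?_
  refine ⟨((primeSet G).erase ⟨p, hp⟩).sup fun q => (S q : Subgroup G), ?_⟩
  have h := (card_sup_of_pairwise_permute (fun q => (S q : Subgroup G)) hS hcop
    ((primeSet G).erase ⟨p, hp⟩)).1
  rw [Finset.prod_congr rfl fun q _ => (S q).card_eq_multiplicity] at h
  refine index_dvd_of_card_eq ?_ h
  rw [mul_comm]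
  exact (prod_erase_primeSet G ⟨p, hp⟩).symm

end CfsgLib.Solvable
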