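import Cfsg.Agent.Lib.Transfer.HallComplement

/-!
# Subgroups equal to the normalizers of all their Sylow subgroups
-/

namespace CfsgLib.Solvable

open Subgroup

variable {G : Type*} [Group G] [Finite G] {H : Subgroup G}

/-- A Sylow subgroup of `H` whose normalizer lies in `H` is a Sylow subgroup of `G`. -/
theorem exists_sylow_eq_map_of_normalizer_le {p : ℕ} [Fact p.Prime] (T : Sylow p H)
    (h : normalizer (((T : Subgroup H).map H.subtype : Subgroup G) : Set G) ≤ H) :
    ∃ P : Sylow p G, (P : Subgroup G) = (T : Subgroup H).map H.subtype := by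
  obtain ⟨P, hP⟩ := (T.2.map H.subtype).exists_le_sylow
  refine ⟨P, ?_⟩
  by_contra hne
  obtain ⟨x, hxP, hxN, hx⟩ := CfsgLib.Transfer.exists_mem_normalizer_not_mem P.2
    (lt_of_le_of_ne hP (Ne.symm hne))
  have hle : (T : Subgroup H) ≤ (P : Subgroup G).comap H.subtype := map_le_iff_le_comap.1 hP
  have heq := T.3 (P.2.comap_of_injective _ H.subtype_injective) hle
  refine hx ⟨⟨x, h hxN⟩, ?_, rfl⟩
  rw [← heq]
  exact hxP

/-- A subgroup, not a Sylow subgroup, equal to the normalizer in `G` of each of its Sylow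
subgroups has a normal complement. -/
theorem exists_normal_complement_of_sylow_normalizers_eq
    (hnot : ∀ p : ℕ, p.Prime → ∀ P : Sylow p G, (P : Subgroup G) ≠ H)
    (hnorm : ∀ p : ℕ, p.Prime → p ∣ Nat.card H → ∀ P : Sylow p H,
      normalizer (((P : Subgroup H).map H.subtype : Subgroup G) : Set G) = H) :
    ∃ N : Subgroup G, N.Normal ∧ N.IsComplement' H := by
  have hnormal : ∀ p : ℕ, ∀ _ : Fact p.Prime, ∀ T : Sylow p H, (T : Subgroup H).Normal := by
    intro p hp T
    by_cases hpH : p ∣ Nat.card H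
    · refine ⟨fun t ht a => ?_⟩
      have ha := (hnorm p hp.out hpH T).symm.le a.2
      obtain ⟨s, hs, e⟩ := (mem_normalizer_iff.1 ha t).1 (mem_map_of_mem _ ht)
      have : s = a * t * a⁻¹ := Subtype.ext e
      exact this ▸ hs
    · have : (T : Subgroup H) = ⊥ := by
        refine eq_bot_of_card_eq _ ?_
        rw [T.card_eq_multiplicity, Nat.factorization_eq_zero_of_not_dvd hpH, pow_zero]
      rw [this]; infer_instance
  have hnil : Group.IsNilpotent H := (Group.isNilpotent_of_finite_tfae.out 0 3).2 hnormal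
  have hsylow : ∀ p : ℕ, ∀ _ : Fact p.Prime, p ∣ Nat.card H → ∀ T : Sylow p H,
      ∃ P : Sylow p G, (P : Subgroup G) = (T : Subgroup H).map H.subtype :=
    fun p hp hpH T => exists_sylow_eq_map_of_normalizer_le T (hnorm p hp.out hpH T).le
  have hHall : (Nat.card H).Coprime H.index := by
    refine Nat.coprime_of_dvd fun q hq hqH hqi => ?_
    have := Fact.mk hq
    obtain ⟨P, hP⟩ := hsylow q this hqH default
    have h1 : Nat.card P ∣ Nat.card H := card_dvd_of_le (hP ▸ map_subtype_le _)
    refine P.not_dvd_index (hqi.trans ?_)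
    rw [← relIndex_mul_index (show (P : Subgroup G) ≤ H from hP ▸ map_subtype_le _)]
    exact dvd_mul_left _ _
  refine CfsgLib.Transfer.exists_normal_complement_of_forall H hHall fun p hp hpH => ?_
  have := Fact.mk hp
  let T : Sylow p H := default
  obtain ⟨P, hP⟩ := hsylow p this hpH T
  obtain ⟨q, hq, hqH, hqp⟩ : ∃ q, q.Prime ∧ q ∣ Nat.card H ∧ q ≠ p := by
    by_contra hall
    push Not at hall
    refine hnot p hp P ?_
    rw [hP]
    have hpH' : IsPGroup p H := IsPGroup.of_card
      (Nat.eq_prime_pow_of_unique_prime_dvd Nat.card_pos.ne' fun {q} hq hqH => hall q hq hqH)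
    rw [T.3 (hpH'.to_subgroup ⊤) le_top |>.symm, ← MonoidHom.range_eq_map, range_subtype]
  have := Fact.mk hq
  let U : Sylow q H := default
  obtain ⟨Q, hQ⟩ := hsylow q this hqH U
  have hQN : normalizer ((Q : Subgroup G) : Set G) = H := by rw [hQ]; exact hnorm q hq hqH U
  have hcomm : ∀ a b : H, a ∈ T → (orderOf b).Coprime p → b * a = a * b := fun a b ha hb => by
    obtain ⟨k, hk⟩ := (IsPGroup.iff_orderOf.1 T.2) ⟨a, ha⟩
    rw [Subgroup.orderOf_mk] at hk
    exact (OddLocal.commute_of_coprime_of_isNilpotent ‹_› (x := b) (y := a)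
      (by rw [hk]; exact hb.pow_right k)).eq
  have hQc : ∀ z ∈ (P : Subgroup G), (Q : Subgroup G) ≤ centralizer {z} := by
    intro z hz b hb
    rw [hP] at hz
    rw [hQ] at hb
    obtain ⟨a, ha, rfl⟩ := hz
    obtain ⟨b, hb', rfl⟩ := hb
    refine mem_centralizer_singleton_iff.2 ?_
    obtain ⟨k, hk⟩ := (IsPGroup.iff_orderOf.1 U.2) ⟨b, hb'⟩
    rw [Subgroup.orderOf_mk] at hk
    exact congrArg Subtype.val (hcomm a b ha
      (hk ▸ ((Nat.coprime_primes hq hp).2 hqp).pow_left k))
  refine CfsgLib.Transfer.hasNormalPComplement_of_controls_fusion P fun x hx y hy hxy => ?_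
  obtain ⟨g, hg⟩ := hxy
  -- `gQg⁻¹` and `Q` are Sylow subgroups of the centralizer of `y`
  have hgQ : ((g • Q : Sylow q G) : Subgroup G) ≤ centralizer {y} := by
    intro b hb
    have hb' := CfsgLib.Transfer.sylow_smul_mem_iff.1 hb
    have h1 := mem_centralizer_singleton_iff.1 (hQc x hx hb')
    refine mem_centralizer_singleton_iff.2 ?_
    rw [← hg]
    calc b * (g * x * g⁻¹) = g * ((g⁻¹ * b * g) * x) * g⁻¹ := by group
      _ = g * (x * (g⁻¹ * b * g)) * g⁻¹ := by rw [h1]
      _ = _ := by group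
  obtain ⟨c, hc⟩ := MulAction.exists_smul_eq (centralizer ({y} : Set G))
    ((g • Q).subtype hgQ) (Q.subtype (hQc y hy))
  rw [Sylow.smul_subtype hgQ] at hc
  have hcQ : ((c : G) * g) • Q = Q := by
    rw [mul_smul]; exact Sylow.subtype_injective hc
  have hcg : (c : G) * g ∈ H := by
    rw [← hQN]; exact Sylow.smul_eq_iff_mem_normalizer.1 hcQ
  have hu : ((c : G) * g) * x * ((c : G) * g)⁻¹ = y := by
    have := mem_centralizer_singleton_iff.1 c.2
    calc (c : G) * g * x * ((c : G) * g)⁻¹ = (c * (g * x * g⁻¹)) * (c : G)⁻¹ := by group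
      _ = y := by rw [hg, this]; group
  have hx' : x ∈ (P : Subgroup G) := hx
  rw [hP] at hx'
  obtain ⟨a, ha, rfl⟩ := hx'
  obtain ⟨v, hv, d, hd, hvd⟩ := CfsgLib.Transfer.exists_mem_sylow_mul T
    (C := centralizer ((T : Subgroup H) : Set H))
    (fun b hb => mem_centralizer_iff.2 fun t ht => (hcomm t b ht hb).symm) ⟨_, hcg⟩
  refine ⟨(v : G), by change (v : G) ∈ (P : Subgroup G); rw [hP]; exact mem_map_of_mem _ hv, ?_⟩
  have hu' : (c : G) * g = v * d := congrArg Subtype.val hvd
  have hda : (d : G) * a = a * d := congrArg Subtype.val (mem_centralizer_iff.1 hd a ha).symm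
  rw [← hu, hu']
  change (v : G) * a * (v : G)⁻¹ = v * d * a * ((v : G) * d)⁻¹
  rw [mul_assoc (v : G) d, hda]
  group

end CfsgLib.Solvable
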