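import Cfsg.Agent.Lib.Char.Induce
import Cfsg.Agent.Lib.Char.Linear
import Cfsg.Agent.Lib.Char.Constituent
import Cfsg.Agent.Lib.Clifford.Correspondence

/-!
# Vanishing elements outside a normal abelian subgroup
-/

set_option autoImplicit false
set_option linter.unusedSectionVars false

namespace CfsgLib.Solvable

open Module
open scoped ComplexConjugate _root_.Classical

universe u

variable {G : Type u} [Group G] [Finite G]

/-- Some irreducible character vanishes at `g`. -/
def IsVanishing (g : G) : Prop := ∃ χ : Cfsg.IrrCharacter G, (χ : G → ℂ) g = 0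

/-- A lift of a vanishing element vanishes. -/
theorem IsVanishing.of_map {H : Type u} [Group H] [Finite H] (f : G →* H)
    (hf : Function.Surjective f) {g : G} (h : IsVanishing (f g)) : IsVanishing g := by
  obtain ⟨χ, hχ⟩ := h
  exact ⟨⟨_, Char.isIrrCharacter_comp_surjective χ.2 f hf⟩, hχ⟩

theorem IsVanishing.of_isConj {g g' : G} (hc : IsConj g g') (h : IsVanishing g) :
    IsVanishing g' := by
  obtain ⟨χ, hχ⟩ := h
  exact ⟨χ, by rw [← Char.isClassFunction_isConj (Char.irr_isClassFunction χ.2) hc, hχ]⟩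

/-- If the translates of `e` by `N ≤ V` are conjugate to `e` and no conjugate of the linear
character `lam` of `V` is trivial on `N`, then `e` is a vanishing element. -/
theorem isVanishing_of_coset (V : Subgroup G) [V.Normal] (lam : V →* ℂˣ) (N : Subgroup G)
    (hNV : N ≤ V) {e : G} (hconj : ∀ n ∈ N, IsConj e (e * n))
    (hmove : ∀ g : G, ∃ n ∈ N, ∀ hv : g * n * g⁻¹ ∈ V, lam ⟨g * n * g⁻¹, hv⟩ ≠ 1) :
    IsVanishing e := by
  have := Fintype.ofFinite G
  have := Fintype.ofFinite V
  have := Fintype.ofFinite N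
  set θ : V → ℂ := fun v => (lam v : ℂ) with hθ
  have hθc : Cfsg.IsCharacter V θ := Char.irr_isCharacter (Char.isIrrCharacter_linear lam)
  set Φ := Cfsg.indFun V θ
  have hΦ : Cfsg.IsCharacter G Φ := Char.isCharacter_indFun V hθc
  have hsum : ∑ n : N, Φ n = 0 := by
    simp only [Φ, Char.indFun_def, ← Finset.mul_sum]
    rw [Finset.sum_comm, Finset.sum_eq_zero, mul_zero]
    intro x _
    let f : N →* ℂˣ := lam.comp
      { toFun := fun n => (⟨x⁻¹ * (n : G) * x, by
          simpa using (inferInstance : V.Normal).conj_mem _ (hNV n.2) x⁻¹⟩ : V)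
        map_one' := Subtype.ext (by simp)
        map_mul' := fun m n => Subtype.ext (by
          simp only [Subgroup.coe_mul]
          group) }
    have hext : ∀ n : N, Cfsg.extendByZero V θ (x⁻¹ * (n : G) * x) = (f n : ℂ) := fun n => by
      rw [Char.extendByZero_of_mem]
      rfl
    simp only [hext]
    obtain ⟨m, hm, hm'⟩ := hmove x⁻¹
    have hf : f ⟨m, hm⟩ ≠ 1 := by
      have hv : x⁻¹ * m * x⁻¹⁻¹ ∈ V := (inferInstance : V.Normal).conj_mem _ (hNV hm) _
      have h := hm' hv
      simp only [inv_inv] at h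
      exact h
    have hshift : (f ⟨m, hm⟩ : ℂ) * ∑ n : N, (f n : ℂ) = ∑ n : N, (f n : ℂ) := by
      rw [Finset.mul_sum]
      exact Fintype.sum_equiv (Equiv.mulLeft ⟨m, hm⟩) _ _ fun n => by
        rw [Equiv.coe_mulLeft, map_mul, Units.val_mul]
    by_contra hne
    exact hf (Units.ext (by simpa using (mul_eq_right₀ hne).1 hshift))
  have hΦ1 : Φ 1 ≠ 0 := by
    simp only [Φ, Char.indFun_apply_one, θ, map_one, Units.val_one, mul_one]
    exact_mod_cast V.index_ne_zero_of_finite
  obtain ⟨χ, hχ, hne⟩ := Char.exists_constituent hΦ hΦ1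
  obtain ⟨R, hR, hΦR⟩ := Clifford.exists_add_of_constituent hΦ hχ hne
  have hnat : ∀ {ψ : G → ℂ}, Cfsg.IsCharacter G ψ →
      ∃ k : ℕ, ∑ n : N, ψ n = (Nat.card N : ℂ) * k := by
    intro ψ hψ
    obtain ⟨k, hk⟩ := Char.classInner_isCharacter_nat (Char.isCharacter_restrict hψ N)
      (Char.irr_isCharacter (Char.isIrrCharacter_one (G := N)))
    refine ⟨k, ?_⟩
    rw [Char.classInner_def] at hk
    rw [← hk, ← mul_assoc, mul_inv_cancel₀ Char.natCard_ne_zero, one_mul]
    simp
  have hχ0 : ∑ n : N, χ n = 0 := by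
    obtain ⟨k, hk⟩ := hnat (Char.irr_isCharacter hχ)
    obtain ⟨l, hl⟩ := hnat hR
    rw [hΦR] at hsum
    simp only [Pi.add_apply, Finset.sum_add_distrib, hk, hl] at hsum
    rw [← mul_add, mul_eq_zero] at hsum
    have : k + l = 0 := by exact_mod_cast hsum.resolve_left Char.natCard_ne_zero
    rw [hk, (Nat.add_eq_zero.1 this).1, Nat.cast_zero, mul_zero]
  obtain ⟨d, ρ, hρ, rfl⟩ := id hχ
  refine ⟨⟨ρ.character, hχ⟩, ?_⟩
  set E : Module.End ℂ (Fin d → ℂ) := ∑ n : N, ρ (n : G) with hE
  have hEE : E * E = (Nat.card N : ℂ) • E := by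
    have h1 : ∀ m : N, ρ (m : G) * E = E := fun m => by
      rw [hE, Finset.mul_sum]
      exact Fintype.sum_equiv (Equiv.mulLeft m) _ _ fun n => by
        rw [Equiv.coe_mulLeft, Subgroup.coe_mul, map_mul]
    calc E * E = ∑ m : N, ρ (m : G) * E := Finset.sum_mul _ _ _
      _ = ∑ _m : N, E := Finset.sum_congr rfl fun m _ => h1 m
      _ = _ := by
        rw [Finset.sum_const, Finset.card_univ, Nat.card_eq_fintype_card, ← Nat.cast_smul_eq_nsmul ℂ]
  have hcN : (Nat.card N : ℂ) ≠ 0 := Char.natCard_ne_zero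
  set f : Module.End ℂ (Fin d → ℂ) := (Nat.card N : ℂ)⁻¹ • E with hfdef
  have hff : IsIdempotentElem f := by
    change f * f = f
    rw [hfdef, smul_mul_smul_comm, hEE, smul_smul, mul_assoc, inv_mul_cancel₀ hcN, mul_one]
  have htr := (LinearMap.isProj_range_iff_isIdempotentElem f).2 hff |>.trace
  have htr0 : LinearMap.trace ℂ (Fin d → ℂ) f = 0 := by
    rw [hfdef, map_smul, hE, map_sum]
    change _ • ∑ n : N, ρ.character (n : G) = 0
    rw [hχ0, smul_zero]
  rw [htr0] at htr
  have hr : Module.finrank ℂ (LinearMap.range f) = 0 := by exact_mod_cast htr.symm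
  have hE0 : E = 0 := by
    have hf0 : f = 0 := LinearMap.range_eq_bot.1 (Submodule.finrank_eq_zero.1 hr)
    rw [hfdef, smul_eq_zero] at hf0
    exact hf0.resolve_left (inv_ne_zero hcN)
  have h : (Nat.card N : ℂ) * ρ.character e = 0 := by
    have h1 : ∑ n : N, ρ.character (e * (n : G)) = 0 := by
      change ∑ n : N, LinearMap.trace ℂ (Fin d → ℂ) (ρ (e * (n : G))) = 0
      simp only [map_mul, ← map_sum, ← Finset.mul_sum, ← hE, hE0, mul_zero, map_zero]
    rw [Finset.sum_congr rfl (g := fun _ => ρ.character e) (fun (n : N) _ =>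
      (Char.isClassFunction_isConj (Char.irr_isClassFunction hχ) (hconj n n.2)).symm),
      Finset.sum_const, Finset.card_univ, ← Nat.card_eq_fintype_card, nsmul_eq_mul] at h1
    exact h1
  exact (mul_eq_zero.1 h).resolve_left hcN

variable (V : Subgroup G) [V.Normal] (hab : ∀ a ∈ V, ∀ b ∈ V, a * b = b * a)
include hab

/-- An element whose translates by a nontrivial normal abelian subgroup are conjugate to it
vanishes. -/
theorem isVanishing_of_conj (hV : V ≠ ⊥) {e : G} (hconj : ∀ n ∈ V, IsConj e (e * n)) :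
    IsVanishing e := by
  obtain ⟨⟨w, hwV⟩, hw⟩ := Subgroup.ne_bot_iff_exists_ne_one.1 hV
  obtain ⟨lam, hlam⟩ := Char.exists_linear_ne_one (G := V)
    (fun a b => Subtype.ext (hab a a.2 b b.2)) (g := ⟨w, hwV⟩) hw
  refine isVanishing_of_coset V lam V le_rfl hconj fun g =>
    ⟨g⁻¹ * w * g, by simpa using (inferInstance : V.Normal).conj_mem w hwV g⁻¹, fun hv h => hlam ?_⟩
  rw [← h]
  exact congrArg lam (Subtype.ext (by group))

/-- An element acting without fixed points on a nontrivial normal abelian subgroup vanishes. -/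
theorem isVanishing_of_fixedFree (hV : V ≠ ⊥) {e : G}
    (hfix : ∀ v ∈ V, e * v = v * e → v = 1) : IsVanishing e := by
  refine isVanishing_of_conj V hab hV fun n hn => ?_
  let ψ : V → V := fun v => ⟨e⁻¹ * v * e * (v : G)⁻¹,
    mul_mem (by simpa using (inferInstance : V.Normal).conj_mem _ v.2 e⁻¹) (inv_mem v.2)⟩
  have hψ : Function.Injective ψ := by
    intro a b h
    have h' : e⁻¹ * (a : G) * e * (a : G)⁻¹ = e⁻¹ * (b : G) * e * (b : G)⁻¹ :=
      congrArg Subtype.val h
    have hc : (b : G)⁻¹ * a ∈ V := mul_mem (inv_mem b.2) a.2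
    have h2 := hfix _ hc ?_
    · exact Subtype.ext (inv_mul_eq_one.1 h2).symm
    · have hA : e⁻¹ * (a : G) * e ∈ V := by
        simpa using (inferInstance : V.Normal).conj_mem _ a.2 e⁻¹
      have hB : e⁻¹ * (b : G)⁻¹ * e ∈ V := by
        simpa using (inferInstance : V.Normal).conj_mem _ (inv_mem b.2) e⁻¹
      have hkey : e⁻¹ * ((b : G)⁻¹ * a) * e = (b : G)⁻¹ * a := by
        calc e⁻¹ * ((b : G)⁻¹ * a) * e = (e⁻¹ * (b : G)⁻¹ * e) * (e⁻¹ * a * e * (a : G)⁻¹) * a := by
              group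
          _ = (e⁻¹ * (b : G)⁻¹ * e) * (e⁻¹ * b * e * (b : G)⁻¹) * a := by rw [h']
          _ = _ := by group
      calc e * ((b : G)⁻¹ * a) = e * (e⁻¹ * ((b : G)⁻¹ * a) * e) := by rw [hkey]
        _ = _ := by group
  obtain ⟨v, hv⟩ := (Finite.injective_iff_surjective.1 hψ) ⟨n, hn⟩
  have hv' : e⁻¹ * (v : G) * e * (v : G)⁻¹ = n := congrArg Subtype.val hv
  exact isConj_iff.2 ⟨v, by rw [← hv']; group⟩

omit hab in
/-- A commutative group `A` of exponent `p` acting faithfully on a commutative group without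
`p`-torsion has a regular orbit. -/
theorem exists_regular_orbit {A : Type*} [Group A] [Finite A] {D : Type*} [CommGroup D] {p : ℕ}
    (hA : ∀ a b : A, a * b = b * a) (hp : ∀ a : A, a ^ p = 1) (hord : ∀ μ : D, μ ^ p = 1 → μ = 1)
    (tw : A → D →* D) (tone : ∀ μ, tw 1 μ = μ) (tcomp : ∀ a b μ, tw a (tw b μ) = tw (a * b) μ)
    (hfaith : ∀ a : A, (∀ μ, tw a μ = μ) → a = 1) :
    ∃ lam : D, ∀ a : A, tw a lam = lam → a = 1 := by
  have hfixd : ∀ (b : A) (μ σ : D), tw b μ = μ → tw b σ = σ * μ → μ = 1 := by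
    intro b μ σ h1 h2
    have hi : ∀ i : ℕ, tw (b ^ i) σ = σ * μ ^ i := by
      intro i
      induction i with
      | zero => rw [pow_zero, pow_zero, tone, mul_one]
      | succ i ih =>
        rw [pow_succ', ← tcomp, ih, map_mul, map_pow, h1, h2, pow_succ', mul_assoc]
    refine hord μ ?_
    have h := hi p
    rw [hp b, tone] at h
    exact mul_eq_left.1 h.symm
  have tswap : ∀ a b μ, tw a (tw b μ) = tw b (tw a μ) := fun a b μ => by
    rw [tcomp, tcomp, hA]
  suffices hmain : ∀ n, ∀ lam : D, Nat.card {a : A // tw a lam = lam} = n →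
      ∃ lam : D, ∀ a : A, tw a lam = lam → a = 1 from hmain _ 1 rfl
  intro n
  induction n using Nat.strong_induction_on with
  | _ n ih =>
    intro lam hn
    by_cases h : ∀ a : A, tw a lam = lam → a = 1
    · exact ⟨lam, h⟩
    push Not at h
    obtain ⟨b, hbl, hb1⟩ := h
    obtain ⟨σ, hσ⟩ : ∃ σ, tw b σ ≠ σ := by
      by_contra! hh
      exact hb1 (hfaith b hh)
    obtain ⟨μ, hμ⟩ : ∃ μ, μ = tw b σ * σ⁻¹ := ⟨_, rfl⟩
    have hbσ : tw b σ = σ * μ := by rw [hμ, mul_comm σ, inv_mul_cancel_right]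
    have hμ1 : μ ≠ 1 := fun hh => hσ (by rw [hbσ, hh, mul_one])
    have hnb : tw b μ ≠ μ := fun hh => hμ1 (hfixd b μ σ hh hbσ)
    refine ih _ ?_ (lam * μ) rfl
    rw [← hn]
    have hsub : ∀ a : A, tw a (lam * μ) = lam * μ → tw a lam = lam := by
      intro a ha
      have h1 : tw b (tw a (lam * μ)) = tw b (lam * μ) := by rw [ha]
      rw [map_mul, map_mul, map_mul, tswap b a lam, tswap b a μ, hbl] at h1
      rw [map_mul] at ha
      have hν : tw a (tw b μ * μ⁻¹) = tw b μ * μ⁻¹ := by
        rw [map_mul, map_inv]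
        calc tw a (tw b μ) * (tw a μ)⁻¹
            = (tw a lam * tw a (tw b μ)) * (tw a lam * tw a μ)⁻¹ := by
              rw [mul_inv, mul_mul_mul_comm, mul_inv_cancel, one_mul]
          _ = _ := by rw [h1, ha, mul_inv, mul_mul_mul_comm, mul_inv_cancel, one_mul]
      have hδ : tw b (tw a μ * μ⁻¹) = tw a μ * μ⁻¹ := by
        rw [map_mul, map_inv] at hν ⊢
        rw [tswap b a μ, mul_inv_eq_iff_eq_mul.1 hν, mul_assoc (tw b μ), mul_comm (tw b μ),
          mul_inv_cancel_right, mul_comm]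
      have hδ1 : tw a μ * μ⁻¹ = 1 := by
        refine hfixd b _ (tw a σ * σ⁻¹) hδ ?_
        rw [map_mul, map_inv, tswap b a σ, hbσ, map_mul, mul_inv_rev]
        simp only [mul_assoc, mul_comm, mul_left_comm]
      rw [mul_inv_eq_one.1 hδ1] at ha
      exact mul_right_cancel ha
    have hlt : ¬ tw b (lam * μ) = lam * μ := by
      rw [map_mul, hbl]
      exact fun hh => hnb (mul_left_cancel hh)
    have := Fintype.ofFinite A
    rw [Nat.card_eq_fintype_card, Nat.card_eq_fintype_card, Fintype.card_subtype,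
      Fintype.card_subtype]
    refine Finset.card_lt_card ((Finset.ssubset_iff_of_subset fun a ha => ?_).2
      ⟨b, by simpa using hbl, by simpa using hlt⟩)
    simp only [Finset.mem_filter] at ha ⊢
    exact ⟨ha.1, hsub a ha.2⟩

/-- A group of exponent `p` acting faithfully and coprimely on an abelian normal subgroup has a
regular orbit on its linear characters. -/
theorem exists_regular_linear (A : Subgroup G) (hA : ∀ a ∈ A, ∀ b ∈ A, a * b = b * a) {p : ℕ}
    (hp : ∀ a ∈ A, a ^ p = 1) (hcop : p.Coprime (Nat.card V))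
    (hfaith : ∀ a ∈ A, (∀ v ∈ V, a * v = v * a) → a = 1) :
    ∃ lam : V →* ℂˣ, ∀ a ∈ A, a ≠ 1 → ∃ v : V, lam (MulAut.conjNormal a v) ≠ lam v := by
  obtain ⟨lam, hlam⟩ := exists_regular_orbit (A := A) (D := V →* ℂˣ) (p := p)
    (fun a b => Subtype.ext (hA a a.2 b b.2)) (fun a => Subtype.ext (hp a a.2))
    (fun μ h => by
      ext v
      have h1 : μ v ^ p = 1 := by rw [← MonoidHom.pow_apply, h]; rfl
      have h2 : μ v ^ Nat.card V = 1 := by rw [← map_pow, pow_card_eq_one', map_one]
      have h3 := (pow_gcd_eq_one (m := p) (n := Nat.card V)).2 ⟨h1, h2⟩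
      rw [hcop.gcd_eq_one, pow_one] at h3
      rw [h3]; rfl)
    (fun a =>
      { toFun := fun μ => μ.comp (MulAut.conjNormal (a : G)).toMonoidHom
        map_one' := rfl
        map_mul' := fun _ _ => rfl })
    (fun μ => by ext v; simp)
    (fun a b μ => by
      ext v
      simp only [MonoidHom.coe_mk, OneHom.coe_mk, MonoidHom.comp_apply, MulEquiv.coe_toMonoidHom]
      rw [Subgroup.coe_mul, hA a a.2 b b.2, map_mul, MulAut.mul_apply])
    (fun a h => Subtype.ext (hfaith a a.2 fun v hv => by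
      by_contra hne
      have hz : (MulAut.conjNormal (a : G) ⟨v, hv⟩ : V) * (⟨v, hv⟩ : V)⁻¹ ≠ 1 := fun hh => hne
        (mul_inv_eq_iff_eq_mul.1 (congrArg Subtype.val (mul_inv_eq_one.1 hh)))
      obtain ⟨σ, hσ⟩ := Char.exists_linear_ne_one (G := V)
        (fun a b => Subtype.ext (hab a a.2 b b.2)) hz
      refine hσ ?_
      rw [map_mul, map_inv]
      exact mul_inv_eq_one.2 (DFunLike.congr_fun (h σ) (⟨v, hv⟩ : V))))
  refine ⟨lam, fun a ha hne => ?_⟩
  by_contra! h
  exact hne (congrArg Subtype.val (hlam ⟨a, ha⟩ (MonoidHom.ext h)))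

/-- Two commuting elements of prime order cannot generate a fixed-point-free group on an abelian
normal subgroup of coprime order. -/
theorem not_fixedFree_pair (hV : V ≠ ⊥) {p : ℕ} [Fact p.Prime] (hcop : p.Coprime (Nat.card V))
    {e a : G} (hea : Commute e a) (he : e ^ p = 1) (ha : a ^ p = 1)
    (hfa : ∀ v ∈ V, a * v = v * a → v = 1) :
    ¬ ∀ i : ℕ, ∀ v ∈ V, e * a ^ i * v = v * (e * a ^ i) → v = 1 := by
  intro hfe
  refine hV ((Subgroup.eq_bot_iff_forall _).2 fun v hv => ?_)
  have : IsMulCommutative V := ⟨⟨fun a b => Subtype.ext (hab a a.2 b b.2)⟩⟩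
  open scoped IsMulCommutative in
  let _ : CommGroup V := inferInstance
  have hpow : ∀ {g : G}, g ^ p = 1 → ∀ k l : ZMod p, g ^ (k + l).val = g ^ k.val * g ^ l.val := by
    intro g hg k l
    rw [← pow_add, ZMod.val_add, ← pow_eq_pow_mod _ hg]
  -- the norm of a fixed-point-free element is trivial
  have norm : ∀ g : G, g ^ p = 1 → (∀ v ∈ V, g * v = v * g → v = 1) → ∀ w : V,
      ∏ k : ZMod p, MulAut.conjNormal (g ^ k.val) w = 1 := by
    intro g hg hfix w
    refine Subtype.ext (hfix _ (∏ k : ZMod p, MulAut.conjNormal (g ^ k.val) w : V).2 ?_)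
    have h : MulAut.conjNormal g (∏ k : ZMod p, MulAut.conjNormal (g ^ k.val) w) =
        ∏ k : ZMod p, MulAut.conjNormal (g ^ k.val) w := by
      rw [map_prod]
      refine Fintype.prod_equiv (Equiv.addLeft 1) _ _ fun k => ?_
      rw [Equiv.coe_addLeft, hpow hg, map_mul, MulAut.mul_apply, ZMod.val_one, pow_one]
    have h' := congrArg Subtype.val h
    rw [MulAut.conjNormal_apply] at h'
    exact mul_inv_eq_iff_eq_mul.1 h'
  set w : V := ⟨v, hv⟩
  have hline : ∀ i : ZMod p, ∏ j : ZMod p,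
      MulAut.conjNormal (e ^ j.val * a ^ (i * j).val) w = 1 := by
    intro i
    have hg : (e * a ^ i.val) ^ p = 1 := by
      rw [(hea.pow_right _).mul_pow, he, ← pow_mul, mul_comm, pow_mul, ha, one_pow, one_mul]
    refine (Finset.prod_congr rfl fun j _ => ?_).trans (norm _ hg (hfe i.val) w)
    rw [(hea.pow_right _).mul_pow, ← pow_mul, ZMod.val_mul, ← pow_eq_pow_mod _ ha]
  have htot : ∏ i : ZMod p, ∏ j : ZMod p, MulAut.conjNormal (e ^ j.val * a ^ (i * j).val) w = 1 :=
    Finset.prod_eq_one fun i _ => hline i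
  rw [Finset.prod_comm, ← Finset.mul_prod_erase _ _ (Finset.mem_univ (0 : ZMod p))] at htot
  rw [Finset.prod_eq_one (s := Finset.univ.erase _) fun j hj => ?_, mul_one] at htot
  · simp only [mul_zero, ZMod.val_zero, pow_zero, mul_one, map_one, MulAut.one_apply,
      Finset.prod_const, Finset.card_univ, ZMod.card] at htot
    have h1 : v ^ p = 1 := by simpa [w] using congrArg Subtype.val htot
    have h2 : v ^ Nat.card V = 1 := congrArg Subtype.val (pow_card_eq_one' (x := w))
    have h3 := (pow_gcd_eq_one (m := p) (n := Nat.card V)).2 ⟨h1, h2⟩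
    rwa [hcop.gcd_eq_one, pow_one] at h3
  · have hj0 := (Finset.mem_erase.1 hj).1
    rw [Fintype.prod_equiv (Equiv.mulRight₀ j hj0) _
      (fun k => MulAut.conjNormal (e ^ j.val) (MulAut.conjNormal (a ^ k.val) w)) fun i => by
        rw [map_mul, MulAut.mul_apply]; rfl]
    rw [← map_prod, norm a ha hfa w, map_one]

end CfsgLib.Solvable
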