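import Cfsg.Agent.Lib.Solvable.VanishingBasic
import Cfsg.Agent.Lib.Solvable.MinNormal
import Cfsg.Agent.Lib.PLocal.Sylow

/-!
# Solvable groups with few orders of vanishing `p`-singular elements

If no vanishing `p`-element has a vanishing `p`-singular companion of mixed order and no vanishing
`p`-th power, then `|P : O_p(G)| ≤ p`.
-/

set_option autoImplicit false
set_option linter.unusedSectionVars false

namespace CfsgLib.Solvable

open Subgroup
open scoped _root_.Classical

universe u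

/-- The hypothesis on the vanishing elements, stable under quotients. -/
structure FewVanishing (p : ℕ) (G : Type u) [Group G] : Prop where
  mixed : ∀ {y y' : G} {k : ℕ}, IsVanishing y → y ≠ 1 → y ^ p ^ k = 1 → IsVanishing y' →
    p ∣ orderOf y' → ∃ l : ℕ, y' ^ p ^ l = 1
  pow : ∀ {y : G} {k : ℕ}, IsVanishing y → y ^ p ^ k = 1 → y ^ p ≠ 1 → ¬ IsVanishing (y ^ p)

theorem commute_of_eq {G : Type*} [Mul G] {a b : G} (h : a * b = b * a) : Commute a b := h

/-- A `p`-element of a quotient lifts to a `p`-element. -/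
theorem exists_pElem_lift {G H : Type u} [Group G] [Finite G] [Group H] {p : ℕ} [hp : Fact p.Prime]
    (f : G →* H) (hf : Function.Surjective f) {y : H} {k : ℕ} (hy : y ^ p ^ k = 1) :
    ∃ (g : G) (l : ℕ), f g = y ∧ g ^ p ^ l = 1 := by
  obtain ⟨g, rfl⟩ := hf y
  obtain ⟨a, m, hm, hord⟩ := Nat.exists_eq_pow_mul_and_not_dvd (orderOf_pos g).ne' p hp.out.ne_one
  have hcop : m.Coprime (orderOf (f g)) := by
    refine Nat.Coprime.coprime_dvd_right (orderOf_dvd_of_pow_eq_one hy) ?_
    exact Nat.Coprime.pow_right _ ((Nat.Prime.coprime_iff_not_dvd hp.out).2 hm).symm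
  obtain ⟨c, hc⟩ := exists_pow_eq_self_of_coprime hcop
  refine ⟨(g ^ m) ^ c, a, by rw [map_pow, map_pow, hc], ?_⟩
  rw [← pow_mul, ← pow_mul, show m * (c * p ^ a) = p ^ a * m * c by ring, pow_mul, ← hord,
    pow_orderOf_eq_one, one_pow]

theorem FewVanishing.map {G H : Type u} [Group G] [Finite G] [Group H] [Finite H] {p : ℕ}
    [hp : Fact p.Prime] (h : FewVanishing p G) (f : G →* H) (hf : Function.Surjective f) :
    FewVanishing p H := by
  constructor
  · intro y y' k hv hy1 hy hv' hd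
    obtain ⟨g, l, rfl, hg⟩ := exists_pElem_lift f hf hy
    obtain ⟨g', rfl⟩ := hf y'
    obtain ⟨j, hj⟩ := h.mixed (IsVanishing.of_map f hf hv) (fun e => hy1 (by rw [e, map_one])) hg
      (IsVanishing.of_map f hf hv') (hd.trans (orderOf_map_dvd f g'))
    exact ⟨j, by rw [← map_pow, hj, map_one]⟩
  · intro y k hv hy hne hv'
    obtain ⟨g, l, rfl, hg⟩ := exists_pElem_lift f hf hy
    rw [← map_pow] at hne hv'
    exact h.pow (IsVanishing.of_map f hf hv) hg (fun e => hne (by rw [e, map_one]))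
      (IsVanishing.of_map f hf hv')

theorem fewVanishing_main {p : ℕ} [hp : Fact p.Prime] :
    ∀ (n : ℕ) (G : Type u) [Group G] [Finite G] [Group.IsSolvable G], Nat.card G = n →
      FewVanishing p G → Cfsg.pCore p G = ⊥ →
      (∀ P : Sylow p G, Nat.card (P : Subgroup G) ∣ p) ∧
        ∀ x : G, orderOf x = p → IsVanishing x := by
  intro n
  induction n using Nat.strong_induction_on with
  | _ n ih =>
    intro G _ _ _ hn hR hO
    rcases subsingleton_or_nontrivial G with hG | hG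
    · exact ⟨fun P => by rw [Nat.card_of_subsingleton (1 : (P : Subgroup G))]; exact one_dvd p,
        fun x hx => by rw [Subsingleton.elim x 1, orderOf_one] at hx; exact absurd hx.symm hp.out.ne_one⟩
    obtain ⟨V, hVN, hV1, hVmin⟩ := exists_minimal_normal (G := G)
    obtain ⟨q, hq, hVq, -, hVab⟩ := exists_isPGroup_of_minimal_normal hV1 hVmin
    have : Fact q.Prime := ⟨hq⟩
    have hqp : q ≠ p := by
      rintro rfl
      exact hV1 (le_bot_iff.1 (hO ▸ le_pCore hVN hVq))
    have hcop : p.Coprime (Nat.card V) := by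
      obtain ⟨j, hj⟩ := hVq.exists_card_eq
      rw [hj]
      exact Nat.Coprime.pow_right _ ((Nat.coprime_primes hp.out hq).2 hqp.symm)
    have hab : ∀ a ∈ V, ∀ b ∈ V, a * b = b * a := fun a ha b hb =>
      congrArg Subtype.val (hVab.is_comm.comm ⟨a, ha⟩ ⟨b, hb⟩)
    have hVp : ∀ v ∈ V, ∀ l : ℕ, v ^ p ^ l = 1 → v = 1 := by
      intro v hv l h
      have h2 : v ^ Nat.card V = 1 :=
        congrArg Subtype.val (pow_card_eq_one' (x := (⟨v, hv⟩ : V)))
      have h3 := (pow_gcd_eq_one (m := p ^ l) (n := Nat.card V)).2 ⟨h, h2⟩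
      rwa [(Nat.Coprime.pow_left l hcop).gcd_eq_one, pow_one] at h3
    have hVlt : Nat.card (G ⧸ V) < n := by
      rw [← hn, Subgroup.card_eq_card_quotient_mul_card_subgroup V]
      exact lt_mul_of_one_lt_right Nat.card_pos (V.one_lt_card_iff_ne_bot.2 hV1)
    set f := QuotientGroup.mk' V
    have hfs : Function.Surjective f := QuotientGroup.mk'_surjective V
    have hker : ∀ y : G, f y = 1 ↔ y ∈ V := fun y => QuotientGroup.eq_one_iff y
    by_cases hOb : Cfsg.pCore p (G ⧸ V) = ⊥
    · obtain ⟨h1, h2⟩ := ih _ hVlt (G ⧸ V) rfl (hR.map f hfs) hOb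
      refine ⟨fun P => ?_, fun x hx => ?_⟩
      · refine (dvd_of_eq ?_).trans (h1 (P.mapSurjective hfs))
        rw [P.card_eq_multiplicity, (P.mapSurjective hfs).card_eq_multiplicity,
          Subgroup.card_eq_card_quotient_mul_card_subgroup V,
          Nat.factorization_mul Nat.card_pos.ne' Nat.card_pos.ne', Finsupp.add_apply,
          Nat.factorization_eq_zero_of_not_dvd ((Nat.Prime.coprime_iff_not_dvd hp.out).1 hcop),
          add_zero]
      · refine IsVanishing.of_map f hfs (h2 (f x) ?_)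
        refine orderOf_eq_prime ?_ fun h => ?_
        · rw [← map_pow, ← hx, pow_orderOf_eq_one, map_one]
        · have := hVp x ((hker x).1 h) 1 (by rw [pow_one, ← hx]; exact pow_orderOf_eq_one x)
          rw [this, orderOf_one] at hx
          exact hp.out.ne_one hx.symm
    have := pCore_normal p (G ⧸ V)
    set L := (Cfsg.pCore p (G ⧸ V)).comap f with hLdef
    have hLn : L.Normal := Subgroup.Normal.comap inferInstance f
    have hVL : V ≤ L := fun v hv => by
      rw [hLdef, mem_comap, (hker v).2 hv]; exact one_mem _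
    suffices hmain : ∀ P : Sylow p G, Nat.card (P : Subgroup G) = p ∧
        ∀ e ∈ (P : Subgroup G), e ≠ 1 → IsVanishing e by
      refine ⟨fun P => dvd_of_eq (hmain P).1, fun x hx => ?_⟩
      obtain ⟨Q, hQ⟩ := (IsPGroup.of_card (p := p) (n := 1) (G := Subgroup.zpowers x)
        (by rw [Nat.card_zpowers, hx, pow_one])).exists_le_sylow
      exact (hmain Q).2 x (hQ (mem_zpowers x))
        fun h => hp.out.ne_one (by rw [h, orderOf_one] at hx; exact hx.symm)
    intro P
    set P0 := (P : Subgroup G) ⊓ L with hP0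
    set H := normalizer ((P0 : Subgroup G) : Set G) with hH
    have hpel : ∀ e ∈ (P : Subgroup G), ∃ l : ℕ, e ^ p ^ l = 1 := fun e he => by
      obtain ⟨l, hl⟩ := P.2 ⟨e, he⟩
      exact ⟨l, congrArg Subtype.val hl⟩
    have hPV : ∀ e ∈ (P : Subgroup G), e ∈ V → e = 1 := fun e he heV => by
      obtain ⟨l, hl⟩ := hpel e he
      exact hVp e heV l hl
    have hLVP : ∀ l ∈ L, ∃ v ∈ V, ∃ x ∈ P0, l = v * x := by
      intro l hl
      have h := PLocal.normal_pGroup_quotient_le P hVL (PLocal.pCore_comap_relIndex V) hl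
      rw [← SetLike.mem_coe, normal_mul] at h
      obtain ⟨v, hv, x, hx, e⟩ := h
      exact ⟨v, hv, x, hx, e.symm⟩
    have hVH : ∀ g : G, ∃ v ∈ V, ∃ h ∈ H, g = v * h := by
      intro g
      obtain ⟨c, hc, m, hm, rfl⟩ := PLocal.frattini_mul P L g
      obtain ⟨v, hv, x, hx, rfl⟩ := hLVP c hc
      exact ⟨v, hv, x * m, mul_mem (le_normalizer hx) hm, mul_assoc v x m⟩
    have hHP0 : ∀ h ∈ H, ∀ x ∈ P0, h * x * h⁻¹ ∈ P0 := fun h hh x hx =>
      (mem_normalizer_iff.1 hh x).1 hx
    have hnormal : ∀ K : Subgroup G, (∀ v ∈ V, ∀ x ∈ K, v * x = x * v) →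
        (∀ h ∈ H, ∀ x ∈ K, h * x * h⁻¹ ∈ K) → K.Normal := fun K h1 h2 => ⟨fun x hx g => by
      obtain ⟨v, hv, h, hh, rfl⟩ := hVH g
      rw [show v * h * x * (v * h)⁻¹ = v * (h * x * h⁻¹) * v⁻¹ by group,
        h1 v hv _ (h2 h hh x hx), mul_inv_cancel_right]
      exact h2 h hh x hx⟩
    have hfaith : ∀ e ∈ P0, (∀ v ∈ V, e * v = v * e) → e = 1 := by
      intro e he hc
      let C := P0 ⊓ centralizer (V : Set G)
      have hC : C.Normal := hnormal C
        (fun v hv x hx => (mem_centralizer_iff.1 hx.2 v hv)) fun h hh x hx => by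
          refine ⟨hHP0 h hh x hx.1, mem_centralizer_iff.2 fun v hv => ?_⟩
          have hw := mem_centralizer_iff.1 hx.2 _
            (by simpa using hVN.conj_mem v hv h⁻¹ : h⁻¹ * v * h ∈ V)
          calc v * (h * x * h⁻¹) = h * ((h⁻¹ * v * h) * x) * h⁻¹ := by group
            _ = _ := by rw [hw]; group
      have h2 : C ≤ Cfsg.pCore p G := le_pCore hC (P.2.to_le (inf_le_left.trans inf_le_left))
      rw [hO] at h2
      exact mem_bot.1 (h2 ⟨he, mem_centralizer_iff.2 fun v hv => (hc v hv).symm⟩)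
    -- vanishing elements and fixed points
    have hmix : ∀ e ∈ (P : Subgroup G), e ≠ 1 → IsVanishing e → ∀ v ∈ V, e * v = v * e →
        IsVanishing (e * v) → v = 1 := by
      intro e he he1 hev v hv hc hevv
      obtain ⟨k, hk⟩ := hpel e he
      have hd : p ∣ orderOf (e * v) := by
        have h1 : (e * v) ^ orderOf (e * v) = 1 := pow_orderOf_eq_one _
        rw [(commute_of_eq (hc)).mul_pow] at h1
        have h2 : e ^ orderOf (e * v) ∈ V :=
          eq_inv_of_mul_eq_one_left h1 ▸ inv_mem (pow_mem hv _)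
        have h3 := orderOf_dvd_of_pow_eq_one (hPV _ (pow_mem he _) h2)
        obtain ⟨j, -, hj⟩ := (Nat.dvd_prime_pow hp.out).1 (orderOf_dvd_of_pow_eq_one hk)
        rcases j with _ | j
        · exact absurd (orderOf_eq_one_iff.1 (by rw [hj, pow_zero])) he1
        · exact (hj ▸ dvd_pow_self p j.succ_ne_zero).trans h3
      obtain ⟨l, hl⟩ := hR.mixed hev he1 hk hevv hd
      rw [(commute_of_eq (hc)).mul_pow] at hl
      have h4 : e ^ p ^ l = 1 :=
        hPV _ (pow_mem he _) (eq_inv_of_mul_eq_one_left hl ▸ inv_mem (pow_mem hv _))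
      rw [h4, one_mul] at hl
      exact hVp v hv l hl
    have hfix_of : ∀ e ∈ (P : Subgroup G), e ≠ 1 → IsVanishing (f e) →
        ∀ v ∈ V, e * v = v * e → v = 1 := fun e he he1 hfe v hv hc =>
      hmix e he he1 (IsVanishing.of_map f hfs hfe) v hv hc (IsVanishing.of_map f hfs (by
        rw [map_mul, (hker v).2 hv, mul_one]; exact hfe))
    have hvan_of : ∀ e : G, (∀ v ∈ V, e * v = v * e → v = 1) → IsVanishing e :=
      fun e he => isVanishing_of_fixedFree V hab hV1 he
    -- the center of `P0`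
    let A : Subgroup G :=
      { carrier := {z | z ∈ P0 ∧ (∀ x ∈ P0, z * x = x * z) ∧ z ^ p = 1}
        one_mem' := ⟨one_mem _, fun x _ => by simp, one_pow p⟩
        mul_mem' := fun {a b} ha hb => ⟨mul_mem ha.1 hb.1, fun x hx =>
          ((commute_of_eq (ha.2.1 x hx)).mul_left (commute_of_eq (hb.2.1 x hx))).eq,
          by rw [(commute_of_eq (ha.2.1 b hb.1)).mul_pow, ha.2.2, hb.2.2, one_mul]⟩
        inv_mem' := fun {a} ha => ⟨inv_mem ha.1,
          fun x hx => ((commute_of_eq (ha.2.1 x hx)).inv_left).eq, by rw [inv_pow, ha.2.2, inv_one]⟩ }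
    have hmemA : ∀ z, z ∈ A ↔ z ∈ P0 ∧ (∀ x ∈ P0, z * x = x * z) ∧ z ^ p = 1 := fun z => Iff.rfl
    have hAH : ∀ h ∈ H, ∀ a ∈ A, h * a * h⁻¹ ∈ A := by
      intro h hh a ha
      refine (hmemA _).2 ⟨hHP0 h hh a ha.1, fun x hx => ?_, by rw [conj_pow, ha.2.2]; group⟩
      have hy : h⁻¹ * x * h ∈ P0 := by simpa using hHP0 h⁻¹ (inv_mem hh) x hx
      calc h * a * h⁻¹ * x = h * (a * (h⁻¹ * x * h)) * h⁻¹ := by group
        _ = _ := by rw [ha.2.1 _ hy]; group
    obtain ⟨lam, hlam⟩ := exists_regular_linear V hab A (p := p)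
      (fun a ha b hb => ha.2.1 b hb.1) (fun a ha => ha.2.2) hcop
      (fun a ha hc => hfaith a ha.1 hc)
    have hAvan : ∀ a ∈ A, a ≠ 1 → ∀ u ∈ V, a * u = u * a → IsVanishing (a * u) := by
      intro a ha ha1 u hu hau
      let ψ : V →* G :=
        { toFun := fun v => a⁻¹ * v * a * (v : G)⁻¹
          map_one' := by simp
          map_mul' := fun v w => by
            have hA : a⁻¹ * (w : G) * a ∈ V := by simpa using hVN.conj_mem _ w.2 a⁻¹
            have hmem : (a⁻¹ * (w : G) * a) * (w : G)⁻¹ ∈ V := mul_mem hA (inv_mem w.2)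
            simp only [Subgroup.coe_mul, mul_inv_rev]
            calc a⁻¹ * ((v : G) * w) * a * ((w : G)⁻¹ * (v : G)⁻¹)
                = (a⁻¹ * v * a) * ((a⁻¹ * w * a * (w : G)⁻¹) * (v : G)⁻¹) := by group
              _ = _ := by rw [hab _ hmem _ (inv_mem v.2)]; group }
      refine isVanishing_of_coset V lam ψ.range ?_ ?_ fun g => ?_
      · rintro _ ⟨v, rfl⟩
        exact mul_mem (by simpa using hVN.conj_mem _ v.2 a⁻¹) (inv_mem v.2)
      · rintro _ ⟨v, rfl⟩
        refine isConj_iff.2 ⟨(v : G), ?_⟩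
        change (v : G) * (a * u) * (v : G)⁻¹ = a * u * (a⁻¹ * v * a * (v : G)⁻¹)
        rw [show a * u * (a⁻¹ * v * a * (v : G)⁻¹) = (a * u * a⁻¹) * v * a * (v : G)⁻¹ by group,
          hau, mul_inv_cancel_right, hab u hu v v.2,
          show (v : G) * u * a = v * (u * a) by group, ← hau]
      · obtain ⟨w, hw, h, hh, rfl⟩ := hVH g
        obtain ⟨v0, hv0⟩ := hlam _ (hAH h hh a ha) fun e => ha1 (conj_eq_one_iff.1 e)
        set a' := h * a * h⁻¹
        have hv1 : a' * v0 * a'⁻¹ ∈ V := hVN.conj_mem _ v0.2 a'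
        have hv2 : h⁻¹ * (a' * v0 * a'⁻¹) * h ∈ V := by simpa using hVN.conj_mem _ hv1 h⁻¹
        refine ⟨_, ⟨⟨_, hv2⟩, rfl⟩, fun hmem heq => hv0 ?_⟩
        have key : w * h * ψ ⟨_, hv2⟩ * (w * h)⁻¹ = (v0 : G) * (a' * v0 * a'⁻¹)⁻¹ := by
          calc w * h * (a⁻¹ * (h⁻¹ * (a' * v0 * a'⁻¹) * h) * a *
                  (h⁻¹ * (a' * v0 * a'⁻¹) * h)⁻¹) * (w * h)⁻¹
              = w * ((v0 : G) * (a' * v0 * a'⁻¹)⁻¹) * w⁻¹ := by
                simp only [a']; group
            _ = _ := by rw [hab w hw _ (mul_mem v0.2 (inv_mem hv1)), mul_inv_cancel_right]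
        have h0 : lam (v0 * (MulAut.conjNormal a' v0)⁻¹) = 1 := by
          rw [← heq]
          exact congrArg lam (Subtype.ext key.symm)
        rw [map_mul, map_inv, mul_inv_eq_one] at h0
        exact h0.symm
    have hAfix : ∀ a ∈ A, a ≠ 1 → ∀ v ∈ V, a * v = v * a → v = 1 := fun a ha ha1 v hv hc =>
      hmix a ha.1.1 ha1 (by simpa using hAvan a ha ha1 1 (one_mem V) (by simp)) v hv hc
        (hAvan a ha ha1 v hv hc)
    have hcent : ∀ z ∈ P0, (∀ x ∈ P0, z * x = x * z) → z ≠ 1 →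
        ∀ v ∈ V, z * v = v * z → v = 1 := by
      intro z hz hzc hz1 v hv hc
      obtain ⟨k, hk⟩ := hpel z hz.1
      obtain ⟨j, -, hj⟩ := (Nat.dvd_prime_pow hp.out).1 (orderOf_dvd_of_pow_eq_one hk)
      rcases j with _ | j
      · exact absurd (orderOf_eq_one_iff.1 (by rw [hj, pow_zero])) hz1
      refine hAfix (z ^ p ^ j) ((hmemA _).2 ⟨pow_mem hz _, fun x hx =>
        ((commute_of_eq (hzc x hx)).pow_left _).eq, by rw [← pow_mul, ← pow_succ, ← hj,
          pow_orderOf_eq_one]⟩) ?_ v hv ((commute_of_eq hc).pow_left _).eq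
      exact pow_ne_one_of_lt_orderOf (pow_ne_zero _ hp.out.ne_zero)
        (hj ▸ Nat.pow_lt_pow_right hp.out.one_lt j.lt_succ_self)
    have hcentA : ∀ z ∈ P0, (∀ x ∈ P0, z * x = x * z) → z ∈ A := by
      intro z hz hzc
      refine (hmemA z).2 ⟨hz, hzc, ?_⟩
      by_contra h
      obtain ⟨k, hk⟩ := hpel z hz.1
      have hz1 : z ≠ 1 := fun e => h (by rw [e, one_pow])
      exact hR.pow (hvan_of z (hcent z hz hzc hz1)) hk h
        (hvan_of _ (hcent _ (pow_mem hz p) (fun x hx => ((commute_of_eq (hzc x hx)).pow_left p).eq) h))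
    have hAcyc : ∀ a ∈ A, a ≠ 1 → ∀ b ∈ A, ∃ i : ℕ, b = a ^ i := by
      intro a ha ha1 b hb
      by_contra! hne
      refine not_fixedFree_pair V hab hV1 hcop (hb.2.1 a ha.1) hb.2.2 ha.2.2 (hAfix a ha ha1)
        fun i => hAfix _ (mul_mem hb (pow_mem ha i)) fun h1 => hne ((p - 1) * i) ?_
      have h2 : b = (a ^ i)⁻¹ := eq_inv_of_mul_eq_one_left h1
      rw [h2, inv_eq_iff_mul_eq_one, ← pow_add,
        show i + (p - 1) * i = p * i by
          obtain ⟨p', hp'⟩ := Nat.exists_eq_add_of_le hp.out.one_le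
          rw [hp', Nat.add_sub_cancel_left]; ring,
        pow_mul, ha.2.2, one_pow]
    have hP0ne : P0 ≠ ⊥ := by
      intro h
      refine hOb ((Subgroup.eq_bot_iff_forall _).2 fun y hy => ?_)
      obtain ⟨g, rfl⟩ := hfs y
      obtain ⟨v, hv, x, hx, rfl⟩ := hLVP g hy
      rw [h, mem_bot] at hx
      rw [hx, mul_one, hker]
      exact hv
    obtain ⟨a₀, ha₀, ha₀1⟩ : ∃ a ∈ A, a ≠ 1 := by
      have : Nontrivial P0 := P0.nontrivial_iff_ne_bot.2 hP0ne
      have hP0p : IsPGroup p P0 := P.2.to_le inf_le_left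
      have := hP0p.center_nontrivial
      obtain ⟨z, hz1⟩ := exists_ne (1 : center P0)
      exact ⟨_, hcentA _ (z : P0).2 fun x hx =>
        (congrArg Subtype.val (mem_center_iff.1 z.2 ⟨x, hx⟩)).symm,
        fun h => hz1 (Subtype.ext (Subtype.ext h))⟩
    have hP0A : ∀ e ∈ P0, e ∈ A := by
      by_contra! hcon
      obtain ⟨e₀, he₀, he₀A⟩ := hcon
      have hP0p : IsPGroup p P0 := P.2.to_le inf_le_left
      have : Nontrivial (P0 ⧸ center P0) := QuotientGroup.nontrivial_iff.2 fun h => he₀A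
        (hcentA e₀ he₀ fun x hx => (congrArg Subtype.val
          (mem_center_iff.1 (h.symm ▸ mem_top (⟨e₀, he₀⟩ : P0)) ⟨x, hx⟩)).symm)
      have := (hP0p.to_quotient (center P0)).center_nontrivial
      obtain ⟨⟨ebar, hebar⟩, hne⟩ := exists_ne (1 : center (P0 ⧸ center P0))
      obtain ⟨⟨e, he⟩, rfl⟩ := QuotientGroup.mk_surjective ebar
      have he1 : e ∉ A := fun hA => hne (Subtype.ext ((QuotientGroup.eq_one_iff _).2
        (mem_center_iff.2 fun x => Subtype.ext (hA.2.1 x x.2).symm)))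
      let Z2 : Subgroup G :=
        { carrier := {d | d ∈ P0 ∧ ∀ g ∈ P0, d⁻¹ * g * d * g⁻¹ ∈ A}
          one_mem' := ⟨one_mem _, fun g _ => by simp⟩
          mul_mem' := fun {c d} hc hd => ⟨mul_mem hc.1 hd.1, fun g hg => by
            have h1 := hc.2 g hg
            have h2 := hd.2 g hg
            rw [show (c * d)⁻¹ * g * (c * d) * g⁻¹ =
              d⁻¹ * (c⁻¹ * g * c * g⁻¹) * d * (d⁻¹ * g * d * g⁻¹) by group]
            refine mul_mem ?_ h2
            rw [mul_assoc d⁻¹, h1.2.1 d hd.1, ← mul_assoc, inv_mul_cancel, one_mul]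
            exact h1⟩
          inv_mem' := fun {c} hc => ⟨inv_mem hc.1, fun g hg => by
            have h1 := hc.2 g hg
            have h3 : c⁻¹⁻¹ * g * c⁻¹ * g⁻¹ = c * (c⁻¹ * g * c * g⁻¹)⁻¹ * c⁻¹ := by group
            rw [h3, ← (inv_mem h1 : (c⁻¹ * g * c * g⁻¹)⁻¹ ∈ A).2.1 c hc.1, mul_inv_cancel_right]
            exact inv_mem h1⟩ }
      have heZ : e ∈ Z2 := ⟨he, fun g hg => by
        refine hcentA _ (mul_mem (mul_mem (mul_mem (inv_mem he) hg) he) (inv_mem hg)) fun x hx => ?_
        have hc : (⟨e, he⟩⁻¹ * ⟨g, hg⟩ * ⟨e, he⟩ * ⟨g, hg⟩⁻¹ : P0) ∈ center P0 := by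
          rw [← QuotientGroup.eq_one_iff, QuotientGroup.mk_mul, QuotientGroup.mk_mul,
            QuotientGroup.mk_mul, QuotientGroup.mk_inv, QuotientGroup.mk_inv,
            mul_assoc _ (QuotientGroup.mk (⟨g, hg⟩ : P0)), mem_center_iff.1 hebar
              (QuotientGroup.mk (⟨g, hg⟩ : P0)), inv_mul_cancel_left, mul_inv_cancel]
        exact (congrArg Subtype.val (mem_center_iff.1 hc ⟨x, hx⟩)).symm⟩
      have hbar : ∀ d ∈ Z2, d ∉ A → IsVanishing (f d) := by
        intro d hd hdA
        obtain ⟨g, hg, hgd⟩ : ∃ g ∈ P0, d * g ≠ g * d := by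
          by_contra! h
          exact hdA (hcentA d hd.1 h)
        set z := d⁻¹ * g * d * g⁻¹
        have hzA : z ∈ A := hd.2 g hg
        have hz1 : z ≠ 1 := fun h => hgd (by
          have h' : d⁻¹ * g * d = g := mul_inv_eq_one.1 h
          rw [mul_assoc, inv_mul_eq_iff_eq_mul] at h'
          exact h'.symm)
        have hstep : g * d * g⁻¹ = d * z := by simp only [z]; group
        have hpow : ∀ i : ℕ, g ^ i * d * (g ^ i)⁻¹ = d * z ^ i := by
          intro i
          induction i with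
          | zero => simp
          | succ i ih =>
            rw [pow_succ', show g * g ^ i * d * (g * g ^ i)⁻¹ = g * (g ^ i * d * (g ^ i)⁻¹) * g⁻¹
              by group, ih, show g * (d * z ^ i) * g⁻¹ = (g * d * g⁻¹) * (g * z ^ i * g⁻¹) by group,
              hstep, ← (pow_mem hzA i).2.1 g hg, mul_inv_cancel_right, mul_assoc, ← pow_succ']
        have : (A.map f).Normal := ⟨fun y hy t => by
          obtain ⟨a, ha, rfl⟩ := mem_map.1 hy
          obtain ⟨t, rfl⟩ := hfs t
          obtain ⟨v, hv, h, hh, rfl⟩ := hVH t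
          refine mem_map.2 ⟨_, hAH h hh a ha, ?_⟩
          simp only [map_mul, map_inv, (hker v).2 hv, one_mul]⟩
        refine isVanishing_of_conj (A.map f) ?_ ?_ ?_
        · rintro _ ⟨a, ha, rfl⟩ _ ⟨b, hb, rfl⟩
          rw [← map_mul, ← map_mul, ha.2.1 b hb.1]
        · exact fun h => hz1 (hPV z hzA.1.1 ((hker z).1 (mem_bot.1 (h ▸ mem_map_of_mem f hzA))))
        · intro y hy
          obtain ⟨b, hb, rfl⟩ := mem_map.1 hy
          obtain ⟨i, rfl⟩ := hAcyc z hzA hz1 b hb
          refine isConj_iff.2 ⟨f (g ^ i), ?_⟩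
          rw [← map_mul, ← map_inv, ← map_mul, hpow, map_mul]
      have hZ2fix : ∀ d ∈ Z2, d ≠ 1 → ∀ v ∈ V, d * v = v * d → v = 1 := by
        intro d hd hd1
        by_cases hdA : d ∈ A
        · exact hAfix d hdA hd1
        · exact hfix_of d hd.1.1 hd1 (hbar d hd hdA)
      have he_ne : e ≠ 1 := fun h => he1 (h ▸ one_mem A)
      have hep : e ^ p = 1 := by
        by_contra h
        obtain ⟨k, hk⟩ := hpel e he.1
        exact hR.pow (hvan_of e (hZ2fix e heZ he_ne)) hk h
          (hvan_of _ (hZ2fix _ (pow_mem heZ p) h))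
      refine not_fixedFree_pair V hab hV1 hcop (commute_of_eq (ha₀.2.1 e he)).symm hep ha₀.2.2
        (hAfix a₀ ha₀ ha₀1) fun i => hZ2fix _ (mul_mem heZ (pow_mem ?_ i)) fun h1 => he1 ?_
      · exact ⟨ha₀.1, fun g hg => by
          rw [mul_assoc a₀⁻¹, ← ha₀.2.1 g hg, inv_mul_cancel_left, mul_inv_cancel]
          exact one_mem A⟩
      · rw [eq_inv_of_mul_eq_one_left h1]
        exact inv_mem (pow_mem ha₀ i)
    have hP0card : Nat.card P0 = p := by
      have hle : P0 ≤ zpowers a₀ := fun e he => by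
        obtain ⟨i, rfl⟩ := hAcyc a₀ ha₀ ha₀1 e (hP0A e he)
        exact pow_mem (mem_zpowers a₀) i
      have he : P0 = zpowers a₀ := le_antisymm hle (zpowers_le.2 ha₀.1)
      rw [he, Nat.card_zpowers]
      exact orderOf_eq_prime ha₀.2.2 ha₀1
    have hP0fix : ∀ e ∈ P0, e ≠ 1 → ∀ v ∈ V, e * v = v * e → v = 1 := fun e he he1 =>
      hAfix e (hP0A e he) he1
    -- the quotient by `L`
    set g := QuotientGroup.mk' L
    have hgs : Function.Surjective g := QuotientGroup.mk'_surjective L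
    have hOL : Cfsg.pCore p (G ⧸ L) = ⊥ := by
      have := pCore_normal p (G ⧸ L)
      refine (Subgroup.eq_bot_iff_forall _).2 fun y hy => ?_
      obtain ⟨y, rfl⟩ := hgs y
      have hK : ((Cfsg.pCore p (G ⧸ L)).comap g).map f ≤ Cfsg.pCore p (G ⧸ V) := by
        refine le_pCore (Subgroup.Normal.map (Subgroup.Normal.comap inferInstance g) f hfs) ?_
        rintro ⟨_, t, ht, rfl⟩
        obtain ⟨k, hk⟩ := pCore_isPGroup (G := G ⧸ L) p ⟨g t, ht⟩
        have hk' : t ^ p ^ k ∈ L := by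
          have := congrArg Subtype.val hk
          simp only [SubmonoidClass.coe_pow, OneMemClass.coe_one, ← map_pow] at this
          exact (QuotientGroup.eq_one_iff _).1 this
        obtain ⟨l, hl⟩ := pCore_isPGroup (G := G ⧸ V) p ⟨f (t ^ p ^ k), hk'⟩
        refine ⟨k + l, Subtype.ext ?_⟩
        have h := congrArg Subtype.val hl
        simp only [SubmonoidClass.coe_pow, OneMemClass.coe_one, map_pow] at h ⊢
        rw [pow_add, pow_mul]
        exact h
      exact (QuotientGroup.eq_one_iff y).2 (hK (mem_map_of_mem f hy))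
    have hLlt : Nat.card (G ⧸ L) < n := by
      refine lt_of_le_of_lt (Nat.le_of_dvd Nat.card_pos ?_) hVlt
      exact Subgroup.index_dvd_of_le hVL
    obtain ⟨h1, h2⟩ := ih _ hLlt (G ⧸ L) rfl (hR.map g hgs) hOL
    set r := g.comp (P : Subgroup G).subtype
    have hr : r.ker = P0.subgroupOf (P : Subgroup G) := by
      ext x
      simp only [r, MonoidHom.mem_ker, MonoidHom.comp_apply, coe_subtype, mem_subgroupOf, g,
        QuotientGroup.mk'_apply, QuotientGroup.eq_one_iff, P0, mem_inf, x.2, true_and]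
    have hrange : r.range = ((P.mapSurjective hgs : Sylow p (G ⧸ L)) : Subgroup (G ⧸ L)) := by
      rw [MonoidHom.range_comp, range_subtype]; rfl
    have hcardP : Nat.card (P : Subgroup G) = p * Nat.card r.range := by
      rw [← r.ker.card_mul_index, index_ker, hr,
        Nat.card_congr (subgroupOfEquivOfLe (inf_le_left : P0 ≤ (P : Subgroup G))).toEquiv, hP0card]
    have hrc := h1 (P.mapSurjective hgs)
    rw [← hrange, Nat.dvd_prime hp.out] at hrc
    rcases hrc with hc | hc
    · rw [hc, mul_one] at hcardP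
      refine ⟨hcardP, fun e he he1 => hvan_of e (hP0fix e ?_ he1)⟩
      have : P0 = (P : Subgroup G) :=
        eq_of_le_of_card_ge inf_le_left (by rw [hP0card, hcardP])
      rw [this]; exact he
    exfalso
    rw [hc] at hcardP
    obtain ⟨x, hx, hxP0⟩ : ∃ x ∈ (P : Subgroup G), x ∉ P0 := by
      by_contra! h
      have h' := Nat.le_of_dvd (by rw [hP0card]; exact hp.out.pos) (card_dvd_of_le h)
      rw [hcardP, hP0card] at h'
      have := hp.out.two_le
      nlinarith
    have hxx : ∀ a ∈ P0, orderOf (g (x * a)) = p := by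
      intro a ha
      have hga : g a = 1 := (QuotientGroup.eq_one_iff a).2 ha.2
      rw [map_mul, hga, mul_one]
      have hd : orderOf (g x) ∣ p := by
        rw [← hc]
        exact orderOf_dvd_natCard _ (by exact ⟨⟨x, hx⟩, rfl⟩)
      refine ((Nat.dvd_prime hp.out).1 hd).resolve_left fun h => hxP0 ⟨hx, ?_⟩
      exact (QuotientGroup.eq_one_iff x).1 (orderOf_eq_one_iff.1 h)
    have hxv : ∀ a ∈ P0, IsVanishing (f (x * a)) := by
      intro a ha
      refine IsVanishing.of_map (QuotientGroup.map V L (MonoidHom.id G) (by simpa using hVL))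
        ?_ (h2 _ (hxx a ha))
      intro y
      obtain ⟨y, rfl⟩ := hgs y
      exact ⟨f y, rfl⟩
    have hx1 : x ≠ 1 := fun h => hxP0 (h ▸ one_mem P0)
    have hcomm : Commute x a₀ := congrArg Subtype.val
      (IsPGroup.commutative_of_card_eq_prime_sq (p := p) (by rw [hcardP, pow_two] :
        Nat.card (P : Subgroup G) = p ^ 2) ⟨x, hx⟩ ⟨a₀, ha₀.1.1⟩)
    have hxp : x ^ p = 1 := by
      by_contra h
      obtain ⟨k, hk⟩ := hpel x hx
      have hxpL : x ^ p ∈ P0 := by
        refine ⟨pow_mem hx p, (QuotientGroup.eq_one_iff _).1 ?_⟩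
        have := hxx 1 (one_mem P0)
        rw [mul_one] at this
        rw [← this, ← pow_orderOf_eq_one (g x), ← map_pow]
        rfl
      have := hxv 1 (one_mem P0)
      rw [mul_one] at this
      exact hR.pow (IsVanishing.of_map f hfs this) hk h (hvan_of _ (hP0fix _ hxpL h))
    refine not_fixedFree_pair V hab hV1 hcop hcomm hxp ha₀.2.2 (hAfix a₀ ha₀ ha₀1) fun i =>
      hfix_of _ (mul_mem hx (pow_mem ha₀.1.1 i)) (fun h => hxP0 ?_) (hxv _ (pow_mem ha₀.1 i))
    rw [eq_inv_of_mul_eq_one_left h]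
    exact inv_mem (pow_mem ha₀.1 i)

/-- If all vanishing elements of order divisible by `p` of a solvable group have one order, then
`|P : O_p(G)|` divides `p`. -/
theorem card_sylow_map_dvd_of_vanishing_order {G : Type u} [Group G] [Finite G]
    [Group.IsSolvable G] {p : ℕ} [hp : Fact p.Prime]
    (hb : ∀ g g' : G, IsVanishing g → p ∣ orderOf g → IsVanishing g' → p ∣ orderOf g' →
      orderOf g = orderOf g')
    (P : Sylow p G) [(Cfsg.pCore p G).Normal] :
    Nat.card ((P : Subgroup G).map (QuotientGroup.mk' (Cfsg.pCore p G))) ∣ p := by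
  have hR : FewVanishing p G := by
    have hdvd : ∀ {y : G} {k : ℕ}, y ^ p ^ k = 1 → y ≠ 1 → p ∣ orderOf y := by
      intro y k hy hy1
      obtain ⟨j, -, hj⟩ := (Nat.dvd_prime_pow hp.out).1 (orderOf_dvd_of_pow_eq_one hy)
      rcases j with _ | j
      · exact absurd (orderOf_eq_one_iff.1 (by rw [hj, pow_zero])) hy1
      · exact hj ▸ dvd_pow_self p j.succ_ne_zero
    refine ⟨fun {y y' k} hv hy1 hy hv' hd => ⟨k, ?_⟩, fun {y k} hv hy hne hv' => ?_⟩
    · rw [← orderOf_dvd_iff_pow_eq_one, ← hb y y' hv (hdvd hy hy1) hv' hd]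
      exact orderOf_dvd_of_pow_eq_one hy
    · have hy1 : y ≠ 1 := fun h => hne (by rw [h, one_pow])
      have hd := hdvd hy hy1
      have hd' : p ∣ orderOf (y ^ p) :=
        hdvd (k := k) (by rw [← pow_mul, mul_comm, pow_mul, hy, one_pow]) hne
      have h := hb y (y ^ p) hv hd hv' hd'
      rw [orderOf_pow, Nat.gcd_eq_right hd] at h
      exact (Nat.div_lt_self (orderOf_pos y) hp.out.one_lt).ne h.symm
  exact (fewVanishing_main (p := p) _ _ rfl (hR.map _ (QuotientGroup.mk'_surjective _))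
    (pCore_quotient_eq_bot p)).1 (P.mapSurjective (QuotientGroup.mk'_surjective _))

end CfsgLib.Solvable
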